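import Cfsg.Agent.SOL.Defs
import Cfsg.Agent.CORE.A9

/-! The elementary facts on `Blk` (project SOL, notes/SOL.md section Blk). -/

set_option autoImplicit false

namespace Cfsg.Agent.SOL

open Equiv Subgroup H44 H59
open scoped commutatorElement

universe u

variable {G : Type u} [Group G] [Finite G] {n : ℕ} {z : G} {K : Subgroup G}

theorem ndc_congr {X Y S : Type*} [Group X] [Group Y] [Group S] (e : X ≃* Y)
    (h : IsNonsplitDoubleCover X S) : IsNonsplitDoubleCover Y S := by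
  obtain ⟨h1, ⟨f⟩, h2⟩ := h
  have hc : ∀ x, e x ∈ center Y ↔ x ∈ center X := fun x => by
    simp only [mem_center_iff]
    refine ⟨fun h g => e.injective (by rw [map_mul, map_mul, h]), fun h g => ?_⟩
    obtain ⟨g, rfl⟩ := e.surjective g
    rw [← map_mul, ← map_mul, h]
  have hm : (center X).map (e : X →* Y) = center Y := by
    ext y
    obtain ⟨x, rfl⟩ := e.surjective y
    rw [hc]
    exact mem_map_iff_mem (f := (e : X →* Y)) e.injective
  refine ⟨(Nat.card_congr (centerCongr e).toEquiv).symm.trans h1,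
    ⟨(QuotientGroup.congr _ _ e hm).symm.trans f⟩, fun L hL => h2 (L.comap (e : X →* Y)) ?_⟩
  refine isComplement'_of_disjoint_and_mul_eq_univ (Subgroup.disjoint_def.2 fun {x} h3 h4 => ?_)
    (Set.eq_univ_of_forall fun x => ?_)
  · exact e.injective ((Subgroup.disjoint_def.1 hL.disjoint ((hc x).2 h3) h4).trans (map_one e).symm)
  · obtain ⟨⟨a, b⟩, h3⟩ := hL.2 (e x)
    refine ⟨e.symm a, (hc _).1 (by simp), e.symm b, ?_, e.injective ?_⟩
    · change e (e.symm b) ∈ L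
      simp
    · simpa using h3

namespace BlkAux

theorem dc_of_central {X : Type*} [Group X] [Finite X]
    (h : IsNonsplitDoubleCover X (alternatingGroup (Fin n))) {c : X} (hc : orderOf c = 2)
    (hz : ∀ g, g * c = c * g) : ∃ ρ : X →* Perm (Fin n), AN.DC ρ c := by
  let e : X ≃* centralizer ({c} : Set X) := topEquiv.symm.trans (MulEquiv.subgroupCongr
    (eq_top_iff.2 fun g _ => mem_centralizer_singleton_iff.2 (hz g)).symm)
  obtain ⟨π, hπ⟩ := AN.exists_DC hc (ndc_congr e h)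
  refine ⟨π.comp e.toMonoidHom, ?_⟩
  have h1 : e.symm (AN.cz c) = c := rfl
  have h2 : AN.DC (π.comp e.toMonoidHom) (e.symm (AN.cz c)) :=
    { even := fun g => hπ.even _
      surj := fun σ hσ => by
        obtain ⟨g, hg⟩ := hπ.surj σ hσ
        exact ⟨e.symm g, by simpa using hg⟩
      cent := fun w hw => mem_center_iff.2 fun g => e.injective (by
        rw [map_mul, map_mul]; exact mem_center_iff.1 (hπ.cent _ hw) _)
      sq := fun w hw => e.injective (by rw [map_pow, map_one]; exact hπ.sq _ hw)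
      ne := fun e1 => hπ.ne (by simpa using congrArg e e1)
      ker := fun g => (hπ.ker (e g)).trans (or_congr (map_eq_one_iff e e.injective)
        e.eq_symm_apply.symm)
      dt := fun w a b c d h3 h4 => e.injective (by
        rw [map_pow, e.apply_symm_apply]; exact hπ.dt _ a b c d h3 h4) }
  rwa [h1] at h2

section DC

variable {H : Type*} [Group H] {ρ : H →* Perm (Fin n)} {c : H}

theorem dc_central (h : AN.DC ρ c) (hn : 8 ≤ n) {x : H} (hx : ∀ g, x * g = g * x) : x = 1 ∨ x = c :=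
  (h.ker x).1 (STD.perm_eq_one (by omega) (by omega) fun τ hτ => by
    obtain ⟨g, rfl⟩ := h.surj τ hτ
    rw [← map_mul, hx, map_mul, mul_inv_cancel_right])

theorem dc_root (h : AN.DC ρ c) {x : H} (hx : x ^ 2 = 1) (h1 : x ≠ 1) (hz : x ≠ c) :
    ∃ k : H, k * k = c ∧ k * x * k⁻¹ = x * c := by
  obtain ⟨a, b, c', d, u, r, e1, e2, rfl, e3, e4, e5, e6, -⟩ := h.exists_dt hx h1 hz
  have e0 := e1
  simp only [List.nodup_cons, List.mem_cons, List.not_mem_nil, or_false, not_or] at e0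
  obtain ⟨k, hk⟩ := h.surj (swap a c' * swap b d) (by simp [e0.1.2.1, e0.2.1.2])
  have hc : Commute k r := h.comm_disj (by rw [hk]; exact H84.dt_disjoint e3 e5 e4 e6)
  have h2 := h.dt k a c' b d (by simp; grind) hk
  have h3 := h.dt u a b c' d e1 e2
  have h4 := h.dt (k * u) a d b c' (by simp; grind) (by
    rw [map_mul, hk, e2]; ext p; simp only [Perm.mul_apply, swap_apply_def]; grind)
  refine ⟨k, by rw [← sq, h2], ?_⟩
  have h5 : k * u * k⁻¹ = u * c := by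
    have a1 : k⁻¹ = k * c := by
      rw [inv_eq_iff_mul_eq_one, ← mul_assoc, ← sq, h2, h.z_sq]
    have a2 : k * u * k * u = c := by rw [← h4, sq]; group
    have a3 : u⁻¹ = u * c := by
      rw [inv_eq_iff_mul_eq_one, ← mul_assoc, ← sq, h3, h.z_sq]
    rw [a1, ← mul_assoc, eq_mul_inv_of_mul_eq a2, ← h.comm_z, mul_assoc, h.z_sq, mul_one, a3]
  calc k * (u * r) * k⁻¹ = k * u * k⁻¹ * (k * r * k⁻¹) := by group
    _ = u * r * c := by rw [h5, hc.eq, mul_inv_cancel_right, mul_assoc, ← h.comm_z, mul_assoc]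

theorem dc_inv (h : AN.DC ρ c) (hn : 8 ≤ n) : ∃ x : H, x * x = 1 ∧ ρ x ≠ 1 := by
  let p : Fin 8 → Fin n := Fin.castLE hn
  have hp : ∀ {i j}, p i = p j ↔ i = j := (Fin.castLE_injective hn).eq_iff
  obtain ⟨a, ha⟩ := h.surj (swap (p 0) (p 1) * swap (p 2) (p 3)) (by simp [hp])
  obtain ⟨b, hb⟩ := h.surj (swap (p 4) (p 5) * swap (p 6) (p 7)) (by simp [hp])
  have h1 := h.dt a _ _ _ _ (by simp [hp]) ha
  have h2 := h.dt b _ _ _ _ (by simp [hp]) hb
  have hc : Commute a b := h.comm_disj (by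
    rw [ha, hb]
    exact H84.dt_disjoint (by simp [swap_apply_def, hp]) (by simp [swap_apply_def, hp])
      (by simp [swap_apply_def, hp]) (by simp [swap_apply_def, hp]))
  refine ⟨a * b, by rw [← sq, hc.mul_pow, h1, h2, h.z_sq], fun e => ?_⟩
  have h3 := congrArg (fun σ : Perm (Fin n) => σ (p 0)) e
  simp [ha, hb, swap_apply_def, hp] at h3

end DC

open Classical in
/-- the quotient map `K → K / O(K)` as a function on `G` -/
noncomputable def qk (K : Subgroup G) (g : G) : K ⧸ pPrimeCore 2 K :=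
  if h : g ∈ K then QuotientGroup.mk' (pPrimeCore 2 K) ⟨g, h⟩ else 1

omit [Finite G] in
theorem qk_mem {g : G} (h : g ∈ K) : qk K g = QuotientGroup.mk' (pPrimeCore 2 K) ⟨g, h⟩ := dif_pos h

omit [Finite G] in
theorem qk_eq_one {g : G} (h : g ∈ K) : qk K g = 1 ↔ g ∈ Oppof 2 K := by
  rw [qk_mem h, QuotientGroup.mk'_apply, QuotientGroup.eq_one_iff, ← subgroupOf_Oppof, mem_subgroupOf]

theorem vw (K : Subgroup G) : Vw K (qk K) := by
  refine ⟨fun {a b} ha hb => ?_, fun x => ?_, fun {g} hg e => odd_of_mem ((qk_eq_one hg).1 e)⟩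
  · rw [qk_mem ha, qk_mem hb, qk_mem (mul_mem ha hb), ← map_mul]
    rfl
  · obtain ⟨g, rfl⟩ := QuotientGroup.mk'_surjective _ x
    exact ⟨g, g.2, qk_mem g.2⟩

theorem dc (z2 : orderOf z = 2) (hz : z ∈ K) (hK : K ≤ C1 z)
    (h : IsNonsplitDoubleCover (K ⧸ pPrimeCore 2 K) (alternatingGroup (Fin n))) :
    ∃ ρ : K ⧸ pPrimeCore 2 K →* Perm (Fin n), AN.DC ρ (qk K z) := by
  refine dc_of_central h ?_ fun x => ?_
  · rw [qk_mem hz]
    exact orderOf_mk_eq ((orderOf_mk z hz).trans z2)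
  · obtain ⟨g, hg, rfl⟩ := (vw K).surj x
    exact (vw K).comm hg hz (mem_C1.1 (hK hg))

omit [Finite G] in
theorem odd_pow_eq {x : G} (x2 : x * x = 1) {m : ℕ} (hm : Odd m) : x ^ m = x := by
  obtain ⟨k, rfl⟩ := hm
  rw [pow_succ, pow_mul, sq, x2, one_pow, one_mul]

theorem odd_of_ker (z2 : z * z = 1) (hz : z ∈ K) (hK : K ≤ C1 z) {j : G} (hj : j ∈ K)
    (h : qk K j = 1 ∨ qk K j = qk K z) : ∃ m, Odd m ∧ (j ^ m = 1 ∨ j ^ m = z) := by
  rcases h with e | e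
  · exact ⟨_, (vw K).odd hj e, .inl (pow_orderOf_eq_one j)⟩
  · have ho := (vw K).odd (mul_mem hj hz) (by rw [(vw K).mul hj hz, e, (vw K).sq hz z2])
    refine ⟨_, ho, .inr ?_⟩
    have h1 := pow_orderOf_eq_one (j * z)
    rw [(show Commute j z from mem_C1.1 (hK hj)).mul_pow, odd_pow_eq z2 ho] at h1
    rw [eq_inv_of_mul_eq_one_left h1, inv_eq z2]

theorem inv_ne (z2 : z * z = 1) (hz : z ∈ K) (hK : K ≤ C1 z) {t : G} (ht : t ∈ K) (t2 : t * t = 1)
    (t1 : t ≠ 1) (tz : t ≠ z) : qk K t ^ 2 = 1 ∧ qk K t ≠ 1 ∧ qk K t ≠ qk K z := by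
  have h : ¬ (qk K t = 1 ∨ qk K t = qk K z) := fun e => by
    obtain ⟨m, h1, h2⟩ := odd_of_ker z2 hz hK ht e
    rw [odd_pow_eq t2 h1] at h2
    exact h2.elim t1 tz
  exact ⟨by rw [sq, (vw K).sq ht t2], fun e => h (.inl e), fun e => h (.inr e)⟩

end BlkAux

open BlkAux

namespace Blk

theorem exists_dc (h : Blk n z K) : ∃ ρ : K ⧸ pPrimeCore 2 K →* Perm (Fin n),
    AN.DC ρ (QuotientGroup.mk' (pPrimeCore 2 K) ⟨z, h.mem⟩) :=
  qk_mem h.mem ▸ dc h.ord h.mem h.le h.ty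

theorem cov (h : Blk n z K) {J : Subgroup G} (hc : Cov 2 J K) (hJ : PQS 2 J) (hz : z ∈ J) :
    Blk n z J :=
  ⟨h.big, h.ord, hz, hc.le.trans h.le, hJ, ndc_congr hc.nonempty_equiv.some.symm h.ty⟩

theorem map {G' : Type u} [Group G'] [Finite G'] (h : Blk n z K) (f : G →* G')
    (hk : Odd (Nat.card ↥(f.ker ⊓ K))) : Blk n (f z) (K.map f) := by
  have h1 : f z ≠ 1 := fun e => by
    have := hk.of_dvd_nat (Subgroup.orderOf_dvd_natCard _ (show z ∈ f.ker ⊓ K from ⟨e, h.mem⟩))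
    rw [h.ord] at this
    exact absurd this (by decide)
  refine ⟨h.big, ord2 (by rw [← map_mul, sq_of_ord h.ord, map_one]) h1, mem_map_of_mem f h.mem, ?_,
    h.pqs.map f fun e => h1 (mem_bot.1 (e ▸ mem_map_of_mem f h.mem)), ?_⟩
  · rintro _ ⟨x, hx, rfl⟩
    exact mem_C1.2 (by rw [← map_mul, mem_C1.1 (h.le hx), map_mul])
  have h2 : (Nat.card (f.subgroupMap K).ker).Coprime 2 := by
    have h3 : (f.subgroupMap K).ker.map K.subtype = f.ker ⊓ K := by
      ext x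
      refine ⟨?_, fun hx => ⟨⟨x, hx.2⟩, Subtype.ext hx.1, rfl⟩⟩
      rintro ⟨y, hy, rfl⟩
      exact ⟨congrArg Subtype.val hy, y.2⟩
    rw [← card_map_of_injective K.subtype_injective, h3]
    exact coprime_two_iff_odd.2 hk
  have h3 := comap_pPrimeCore (f.subgroupMap K) (f.subgroupMap_surjective K) h2
  let φ : K →* (K.map f) ⧸ pPrimeCore 2 (K.map f) := (QuotientGroup.mk' _).comp (f.subgroupMap K)
  have h4 : pPrimeCore 2 K = φ.ker := by
    rw [← h3, ← MonoidHom.comap_ker, QuotientGroup.ker_mk']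
  exact ndc_congr ((QuotientGroup.quotientMulEquivOfEq h4).trans
    (QuotientGroup.quotientKerEquivOfSurjective φ
      ((QuotientGroup.mk'_surjective _).comp (f.subgroupMap_surjective K)))) h.ty

theorem subgroupOf (h : Blk n z K) {Y : Subgroup G} (hY : K ≤ Y) :
    Blk n (⟨z, hY h.mem⟩ : Y) (K.subgroupOf Y) := by
  refine ⟨h.big, (orderOf_mk z _).trans h.ord, h.mem,
    fun x hx => mem_C1.2 (Subtype.ext (mem_C1.1 (h.le hx))),
    (pqs_map_inj_iff Y.subtype Y.subtype_injective).1 ?_,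
    ndc_congr (QuotientGroup.congr _ _ (subgroupOfEquivOfLe hY)
      (map_pPrimeCore_equiv (subgroupOfEquivOfLe hY))).symm h.ty⟩
  rw [subgroupOf_map_subtype, inf_eq_left.2 hY]
  exact h.pqs

theorem conj (h : Blk n z K) (g : G) : Blk n (g * z * g⁻¹) (cj g K) :=
  h.map (MulAut.conj g).toMonoidHom (by
    rw [(MonoidHom.ker_eq_bot_iff _).2 (MulAut.conj g).injective, bot_inf_eq, card_bot]
    exact odd_one)

theorem cent_odd (h : Blk n z K) {Y : Subgroup G} (hY : K ≤ Y) {j : G} (hj : j ∈ K)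
    (hD : j ∈ Dc 2 Y K) : ∃ m, Odd m ∧ (j ^ m = 1 ∨ j ^ m = z) := by
  obtain ⟨ρ, hρ⟩ := dc h.ord h.mem h.le h.ty
  refine odd_of_ker (sq_of_ord h.ord) h.mem h.le hj (dc_central hρ h.big fun x => ?_)
  obtain ⟨a, ha, rfl⟩ := (vw K).surj x
  have h1 : ⁅j, a⁆ ∈ K := mul_mem (mul_mem (mul_mem hj ha) (inv_mem hj)) (inv_mem ha)
  rw [← commutatorElement_eq_one_iff_mul_comm, ← (vw K).commutator hj ha, qk_eq_one h1]
  exact pPrimeCoreOf_inf_le_pPrimeCoreOf hY ⟨(mem_Dc.1 hD).2 a ha, h1⟩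

theorem eq_of_inv (h : Blk n z K) {j : G} (hj : j ∈ K) (j2 : j * j = 1)
    (hc : ∀ a ∈ K, Odd (orderOf ⁅j, a⁆)) : j = 1 ∨ j = z := by
  have h1 := H46.zs_of_odd j2 (le_normalizer hj) fun x hx => by
    have := hc x hx
    rwa [commutatorElement_def, inv_eq j2, mul_assoc, mul_assoc, ← mul_assoc x] at this
  obtain ⟨m, h2, h3⟩ := h.cent_odd le_rfl hj (mem_Dc.2 ⟨hj, h1.comm⟩)
  rwa [odd_pow_eq j2 h2] at h3

theorem exists_c (h : Blk n z K) {t : G} (ht : t ∈ K) (t2 : t * t = 1) (t1 : t ≠ 1) (tz : t ≠ z) :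
    ∃ c ∈ K, c * c = z ∧ c * t * c⁻¹ = t * z := by
  have z2 := sq_of_ord h.ord
  obtain ⟨ρ, hρ⟩ := dc h.ord h.mem h.le h.ty
  obtain ⟨h1, h2, h3⟩ := inv_ne z2 h.mem h.le ht t2 t1 tz
  obtain ⟨k, h4, h5⟩ := dc_root hρ h1 h2 h3
  obtain ⟨a, ha, rfl⟩ := (vw K).surj k
  have hs := mul_mem (mul_mem ha ht) (inv_mem ha)
  have tz2 : t * z * (t * z) = 1 := by
    rw [mul_assoc, ← mul_assoc z, ← mem_C1.1 (h.le ht), mul_assoc, z2, mul_one, t2]
  obtain ⟨j, h6, h7⟩ := (vw K).conj_of_eq hs (mul_mem ht h.mem) (H42.conj_mul_self t2 a) tz2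
    (by rw [(vw K).conj ha ht, h5, (vw K).mul ht h.mem])
  have ho := pow_mem (mul_mem (mul_mem ht h.mem) hs) j
  generalize (t * z * (a * t * a⁻¹)) ^ j = o at h6 h7 ho
  have hb := mul_mem ho ha
  have h8 : o * a * t * (o * a)⁻¹ = t * z := by rw [← h6]; group
  have h9 : qk K (o * a) = qk K a := by rw [(vw K).mul ho ha, h7, one_mul]
  generalize o * a = b at hb h8 h9
  have bz : Commute b z := mem_C1.1 (h.le hb)
  obtain ⟨m, ⟨l, rfl⟩, h10⟩ := (vw K).exists_root hb h.mem z2 bz (by rw [h9, h4])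
  refine ⟨_, pow_mem hb _, h10, ?_⟩
  have h11 : Commute (b ^ 2) t := by
    change b ^ 2 * t = t * b ^ 2
    calc b ^ 2 * t = b * (b * t * b⁻¹) * b := by rw [sq]; group
      _ = b * (t * z) * b := by rw [h8]
      _ = b * t * b⁻¹ * (b * z) * b := by group
      _ = t * (z * z) * b ^ 2 := by rw [h8, bz.eq, sq]; group
      _ = t * b ^ 2 := by rw [z2, mul_one]
  rw [pow_succ', pow_mul, ← h8, mul_assoc b, (h11.pow_left l).eq]
  group

theorem exists_inv (h : Blk n z K) : ∃ t ∈ K, t * t = 1 ∧ t ≠ 1 ∧ t ≠ z := by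
  obtain ⟨ρ, hρ⟩ := dc h.ord h.mem h.le h.ty
  obtain ⟨x, h1, h2⟩ := dc_inv hρ h.big
  obtain ⟨g, hg, rfl⟩ := (vw K).surj x
  obtain ⟨m, h3, h4⟩ := (vw K).exists_inv hg h1
  refine ⟨_, pow_mem hg m, h3, fun e => h2 ?_, fun e => h2 ?_⟩
  · rw [← h4, e, (vw K).one, map_one]
  · rw [← h4, e, hρ.map_z]

theorem inv_conj (h : Blk n z K) (hn : n ≤ 11) {x y : G} (hx : x ∈ K) (x2 : x * x = 1) (x1 : x ≠ 1)
    (xz : x ≠ z) (hy : y ∈ K) (y2 : y * y = 1) (y1 : y ≠ 1) (yz : y ≠ z) :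
    ∃ k ∈ K, k * x * k⁻¹ = y := by
  have z2 := sq_of_ord h.ord
  obtain ⟨ρ, hρ⟩ := dc h.ord h.mem h.le h.ty
  obtain ⟨h1, h2, h3⟩ := inv_ne z2 h.mem h.le hx x2 x1 xz
  obtain ⟨h4, h5, h6⟩ := inv_ne z2 h.mem h.le hy y2 y1 yz
  obtain ⟨k, h7⟩ := hρ.inv_conj (by simpa using hn) h1 h2 h3 h4 h5 h6
  obtain ⟨a, ha, rfl⟩ := (vw K).surj k
  have hs := mul_mem (mul_mem ha hx) (inv_mem ha)
  obtain ⟨j, h8, -⟩ := (vw K).conj_of_eq hs hy (H42.conj_mul_self x2 a) y2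
    (by rw [(vw K).conj ha hx, h7])
  refine ⟨_, mul_mem (pow_mem (mul_mem hy hs) j) ha, ?_⟩
  generalize (y * (a * x * a⁻¹)) ^ j = o at h8
  rw [← h8]
  group

theorem ndc (h : Blk n z K) (hO : Oppof 2 K = ⊥) :
    IsNonsplitDoubleCover K (alternatingGroup (Fin n)) :=
  ndc_congr ((QuotientGroup.quotientMulEquivOfEq (Oppof_eq_bot_iff.1 hO)).trans
    QuotientGroup.quotientBot) h.ty

/-- a subgroup of odd order normalised by `⟨z, x⟩ ≤ K` -/
theorem le_of_four (h : Blk n z K) {U L : Subgroup G} (hU : Odd (Nat.card U))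
    (hn : K ≤ normalizer (U : Set G)) (hL : ∀ v ∈ K, orderOf v = 2 → C1 v ≤ L) : U ≤ L := by
  obtain ⟨x, hx, x2, x1, xz⟩ := h.exists_inv
  have z2 := sq_of_ord h.ord
  have hc : z * x = x * z := (mem_C1.1 (h.le hx)).symm
  have h4 := H18.isKleinFour_four z2 x2 hc (ne_one_of_ord h.ord) x1 xz.symm
  have hle : H18.four z x z2 x2 hc ≤ K := H18.four_le h.mem hx
  refine H46.le_of_forall_element (p := 2) (A := H18.four z x z2 x2 hc)
    (IsPGroup.of_card (n := 2) h4.card_four) ⟨⟨fun a b => Subtype.ext (H42.klein_comm h4 a.2 b.2)⟩⟩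
    IsKleinFour.not_isCyclic (by rwa [← even_iff_two_dvd, Nat.not_even_iff_odd]) (hle.trans hn)
    fun a ha a1 => inf_le_right.trans (hL a (hle ha) (ord2 (H42.klein_mul_self h4 ha) a1))

/-- for `n = 9` the involution `z` is isolated in every `X` with `C_X(z) = K O(C_X(z))` -/
theorem nine {K : Subgroup G} (h : Blk 9 z K) {X : Subgroup G} (hc : Cov 2 K (X ⊓ C1 z)) {g : G}
    (hg : g ∈ X) (e : Commute (g * z * g⁻¹) z) : g * z * g⁻¹ = z := by
  have z2 := sq_of_ord h.ord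
  have hz := hc.le h.mem
  obtain ⟨ρ, hρ⟩ := dc h.ord hz inf_le_right (ndc_congr hc.nonempty_equiv.some h.ty)
  let z' : X := ⟨z, hz.1⟩
  have hm : ∀ x : centralizer ({z'} : Set X), ((x : X) : G) ∈ X ⊓ C1 z := fun x =>
    ⟨x.1.2, mem_C1.2 (congrArg Subtype.val (mem_centralizer_singleton_iff.1 x.2))⟩
  let mk : ∀ x ∈ X ⊓ C1 z, centralizer ({z'} : Set X) := fun x hx =>
    ⟨⟨x, hx.1⟩, mem_centralizer_singleton_iff.2 (Subtype.ext (mem_C1.1 hx.2))⟩
  let π : centralizer ({z'} : Set X) →* alternatingGroup (Fin 9) :=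
    { toFun := fun x => ⟨ρ (qk _ ((x : X) : G)), Perm.mem_alternatingGroup.2 (hρ.even _)⟩
      map_one' := Subtype.ext (by
        change ρ (qk _ 1) = 1
        rw [(vw _).one, map_one])
      map_mul' := fun x y => Subtype.ext (by
        change ρ (qk _ (((x : X) : G) * (y : X))) = ρ _ * ρ _
        rw [(vw _).mul (hm x) (hm y), map_mul]) }
  obtain ⟨t, ht, t2, t1, tz⟩ := h.exists_inv
  obtain ⟨c, hc', c1, c2⟩ := h.exists_c ht t2 t1 tz
  have h9 : CORE.A9H (CORE.ct z') π := by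
    refine ⟨((orderOf_mk _ _).trans (orderOf_mk _ _)).trans h.ord,
      fun x => Subtype.ext (mem_centralizer_singleton_iff.1 x.2),
      ⟨mk _ (hc.le (mul_mem hc' ht)), mk _ (hc.le ht), Subtype.ext (Subtype.ext ?_),
        Subtype.ext (Subtype.ext t2), Subtype.ext (Subtype.ext ?_)⟩, fun σ => ?_, fun x hx => ?_⟩
    · exact sq_of_ord (d8 z2 (ne_one_of_ord h.ord) c1 c2 t2 t1).1
    · change c * t * t * (c * t * t) = z
      rw [mul_assoc c, t2, mul_one, c1]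
    · obtain ⟨y, hy⟩ := hρ.surj σ (Perm.mem_alternatingGroup.1 σ.2)
      obtain ⟨a, ha, rfl⟩ := (vw _).surj y
      exact ⟨mk a ha, Subtype.ext hy⟩
    · obtain ⟨m, h1, h2⟩ := odd_of_ker z2 hz inf_le_right (hm x)
        ((hρ.ker _).1 (congrArg Subtype.val hx))
      exact ⟨m, h1, h2.imp (fun e => Subtype.ext (Subtype.ext e)) fun e => Subtype.ext (Subtype.ext e)⟩
  exact congrArg Subtype.val (CORE.a9 h9 ⟨g, hg⟩ (Subtype.ext e.symm.eq))

end Blk

theorem Cx.conj (h : Cx n z K) (g : G) : Cx n (g * z * g⁻¹) (cj g K) :=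
  ⟨h.blk.conj g, cj_C1 g z ▸ pcomp_cj h.pc g, h.rel⟩

theorem KX.conj {X : Subgroup G} (h : KX n z K X) (g : G) :
    KX n (g * z * g⁻¹) (cj g K) (cj g X) := by
  refine ⟨h.cx.conj g, h.small, ?_, ?_, ⟨pcomp_cj h.pu.pc g, H42.cj_mono g h.pu.le, ?_, ?_⟩,
    fun k hk => ?_, fun e => h.ne ?_⟩
  · rw [← cj_C1, ← H42.cj_normalizer]
    exact H42.cj_mono g h.norm
  · obtain ⟨k, h1, h2⟩ := h.ex
    have h3 : g * k * g⁻¹ * (g * z * g⁻¹) * (g * k * g⁻¹)⁻¹ = g * (k * z * k⁻¹) * g⁻¹ := by group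
    exact ⟨g * k * g⁻¹, h3 ▸ conj_mem_cj h1, fun e => h2 (by simpa using h3.symm.trans e)⟩
  · rw [← cj_C1, ← cj_Oppof, ← H42.cj_inf, ← H42.cj_sup]
    exact H42.cj_mono g h.pu.cent
  · rw [← cj_Oppof, ← cj_Oppof]
    exact H42.cj_mono g h.pu.core
  · rw [← H42.cj_normalizer]
    refine mem_cj.2 (h.gen _ ?_)
    have h3 := mem_cj.1 hk
    convert h3 using 1
    group
  · rw [← H42.cj_normalizer] at e
    exact eq_top_iff.2 fun x _ => H42.conj_mem_cj_iff.1 (e ▸ mem_top (g * x * g⁻¹))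

end Cfsg.Agent.SOL
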