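import Cfsg.Agent.SOL.CF

/-! Two commuting involutions fixing the blocks of each other (project SOL). -/

set_option autoImplicit false

namespace Cfsg.Agent.SOL

open Equiv Subgroup H44 H59 H3 H67
open scoped commutatorElement

universe u

variable {G H : Type u} [Group G] [Group H] [Finite G] {n : ℕ} {α β : Type} [DecidableEq α]
  [Fintype α] [DecidableEq β] {c : H} {A : β → Subgroup H} {π : H →* Perm α} {bl : α → β}
  {z t : G} {q q' : G → H}

namespace CF

theorem sq_same (h : CF n c A π bl) {t y : H} (t2 : t * t = 1) (fl : ∀ p, bl (π t p) = bl p)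
    (yt : Commute y t) (ho : Odd (orderOf (π y))) {a : α} (a1 : π t a ≠ a) (a2 : π y a ≠ a)
    (hb : bl (π y a) = bl a) : ∃ v ∈ A (bl a), Commute v t ∧ ⁅y, v⁆ * ⁅y, v⁆ = c := by
  have x2 := app2 (π := π) t2
  have yx := app (π := π) yt
  have o2 : Odd (orderOf (π y * π y)) := ho.of_dvd_nat (by rw [← pow_two]; exact orderOf_pow_dvd 2)
  have a3 : π y (π y a) ≠ a := mt (odd_fix ho) a2
  have a4 : π y (π y (π y (π y a))) ≠ a := mt (odd_fix o2 (p := a)) a3
  have a5 : π y a ≠ π t a := fun e => a3 (by rw [e, yx, e, x2])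
  have a6 : π y (π y a) ≠ π t a := fun e => a4 (by rw [e, yx, yx, e, x2])
  have := x2 a
  have := yx a
  have := yx (π y a)
  have := x2 (π y a)
  have := x2 (π y (π y a))
  have := (π y).injective.ne a2
  have := (π y).injective.ne a5
  have := (π y).injective.ne a1
  have := (π y).injective.ne this
  clear o2 ho yt
  obtain ⟨v, hA, hv, hv'⟩ := h.exists_two t2 (b := bl a) (x := a) (y := π y a) (by simp; grind)
    (by simp [fl, hb])
  refine ⟨v, hA, hv', h.dt (mul_mem (h.conj_mem hA rfl hb) (inv_mem hA)) (p₁ := a) (p₂ := π t a)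
    (p₃ := π y (π y a)) (p₄ := π y (π y (π t a))) (by simp; grind) ?_⟩
  rw [map_commutatorElement, commutatorElement_def, hv, ← yx, ← conj_mul, ← swap_apply_apply,
    ← swap_apply_apply, mul_inv_rev, swap_inv, swap_inv]
  ext p
  simp only [Perm.mul_apply, swap_apply_def]
  grind

theorem sq_fix (h : CF n c A π bl) {t : H} {b : β} {x y i j : α} (hn : [x, y, i, j].Nodup)
    (hb : ∀ p ∈ [x, y, i, j], bl p = b ∧ π t p = p) : ∃ u ∈ A b, ∃ v ∈ A b, u ^ 3 = 1 ∧
      Perm.Disjoint (π u) (π t) ∧ Commute u t ∧ Commute v t ∧ ⁅u, v⁆ * ⁅u, v⁆ = c := by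
  have hn' := hn
  simp only [List.nodup_cons, List.mem_cons, List.not_mem_nil, or_false, not_or, forall_eq_or_imp,
    forall_eq] at hn' hb
  have k : ∀ i, π t i = i → Perm.Disjoint (c3 x y i) (π t) := fun i hi p => by
    simp only [c3, Perm.mul_apply, swap_apply_def]
    grind
  obtain ⟨u, uA, hu, u3⟩ := h.lift3 (b := b) (c3_cube hn'.1.1 (Ne.symm hn'.1.2.1) (Ne.symm hn'.2.1.1))
    fun p hp => c3_apply_of_ne (by grind) (by grind) (by grind)
  obtain ⟨v, vA, hv⟩ := h.exists_c3 hn'.1.1 (Ne.symm hn'.1.2.2) hb.1.1 hb.2.1.1 hb.2.2.2.1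
  refine ⟨u, uA, v, vA, u3, hu ▸ k i hb.2.2.1.2, h.comm_disj uA (hu ▸ k i hb.2.2.1.2),
    h.comm_disj vA (hv ▸ k j hb.2.2.2.2),
    h.dt (mul_mem (mul_mem (mul_mem uA vA) (inv_mem uA)) (inv_mem vA)) hn ?_⟩
  rw [map_commutatorElement, commutatorElement_def, hv, c3_conj, hu,
    c3_first hn'.1.1 (Ne.symm hn'.2.1.1), c3_second,
    c3_apply_of_ne (Ne.symm hn'.1.2.2) (Ne.symm hn'.2.1.2) (Ne.symm hn'.2.2.1), c3, c3, mul_inv_rev,
    swap_inv, swap_inv]
  ext p
  simp only [Perm.mul_apply, swap_apply_def]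
  grind

/-- the points of the block `b` moved (fixed) by `τ` -/
abbrev mv (bl : α → β) (τ : Perm α) (b : β) : Finset α := Finset.univ.filter fun p => bl p = b ∧ τ p ≠ p

abbrev fx (bl : α → β) (τ : Perm α) (b : β) : Finset α := Finset.univ.filter fun p => bl p = b ∧ τ p = p

theorem card_add (h : CF n c A π bl) (τ : Perm α) (b : β) : (fx bl τ b).card + (mv bl τ b).card = n := by
  rw [← h.card b, ← Finset.card_filter_add_card_filter_not (s := Finset.univ.filter fun p => bl p = b)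
    fun p => τ p = p, Finset.filter_filter, Finset.filter_filter]

theorem four_fix {τ : Perm α} {b : β} (h4 : 3 < (fx bl τ b).card) :
    ∃ x y i j, [x, y, i, j].Nodup ∧ ∀ p ∈ [x, y, i, j], bl p = b ∧ τ p = p := by
  obtain ⟨x, a1, -⟩ := AN.exists_not_mem (S := fx bl τ b) [] (by simp only [List.length_nil]; omega)
  obtain ⟨y, b1, b2⟩ := AN.exists_not_mem (S := fx bl τ b) [x] (by simp only [List.length_singleton]; omega)
  obtain ⟨i, c1, c2⟩ := AN.exists_not_mem (S := fx bl τ b) [x, y]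
    (by simp only [List.length_cons, List.length_nil]; omega)
  obtain ⟨j, d1, d2⟩ := AN.exists_not_mem (S := fx bl τ b) [x, y, i] h4
  simp only [Finset.mem_filter, Finset.mem_univ, true_and, List.mem_cons, List.not_mem_nil, or_false,
    not_or] at a1 b1 b2 c1 c2 d1 d2
  exact ⟨x, y, i, j, by simp; grind, by simp; grind⟩

theorem six_mv {τ : Perm α} (x2 : ∀ p, τ (τ p) = p) (fl : ∀ p, bl (τ p) = bl p) {b : β}
    (h5 : 4 < (mv bl τ b).card) : ∃ x y i, [x, y, i, τ x, τ y, τ i].Nodup ∧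
      ∀ p ∈ [x, y, i, τ x, τ y, τ i], bl p = b := by
  obtain ⟨x, a1, -⟩ := AN.exists_not_mem (S := mv bl τ b) [] (by simp only [List.length_nil]; omega)
  obtain ⟨y, b1, b2⟩ := AN.exists_not_mem (S := mv bl τ b) [x, τ x]
    (by simp only [List.length_cons, List.length_nil]; omega)
  obtain ⟨i, c1, c2⟩ := AN.exists_not_mem (S := mv bl τ b) [x, τ x, y, τ y] h5
  simp only [Finset.mem_filter, Finset.mem_univ, true_and, List.mem_cons, List.not_mem_nil, or_false,
    not_or] at a1 b1 b2 c1 c2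
  have := x2 x
  have := x2 y
  have := x2 i
  exact ⟨x, y, i, by simp; grind, by simp [fl, a1.1, b1.1, c1.1]⟩

/-- a product of two 3-cycles interchanged by `t` -/
theorem three (h : CF n c A π bl) {t : H} (t2 : t * t = 1) (fl : ∀ p, bl (π t p) = bl p) {b : β}
    (h5 : 4 < (mv bl (π t) b).card) :
    ∃ y ∈ A b, y ^ 3 = 1 ∧ Commute y t ∧ ∃ a, π t a ≠ a ∧ π y a ≠ a := by
  obtain ⟨x, y, i, hn, hb⟩ := six_mv (app2 t2) fl h5
  obtain ⟨u, t1, t3, -, -, t5, t6⟩ := AN.two_c3 hn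
  obtain ⟨w, wA, rfl, w3⟩ := h.lift3 (b := b) t1 fun p hp => t5 p fun e => hp (hb p e)
  simp only [List.nodup_cons, List.mem_cons, List.not_mem_nil, or_false, not_or] at hn
  exact ⟨w, wA, w3, (h.comm3 wA w3 (t6 _ (app2 t2) rfl rfl rfl)).symm, x, Ne.symm hn.1.2.2.1,
    t3 ▸ Ne.symm hn.1.1⟩

omit [DecidableEq α] [Fintype α] in
theorem odd3 {y : H} (h3 : y ^ 3 = 1) : Odd (orderOf (π y)) :=
  Odd.of_dvd_nat (by decide : Odd 3) (orderOf_dvd_of_pow_eq_one (by rw [← map_pow, h3, map_one]))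

theorem exists_pair (h : CF n c A π bl) {t : H} (t2 : t * t = 1) (fl : ∀ p, bl (π t p) = bl p)
    (b : β) : ∃ u ∈ A b, ∃ v ∈ A b, Commute u t ∧ Commute v t ∧ ⁅u, v⁆ * ⁅u, v⁆ = c := by
  by_cases h4 : 3 < (fx bl (π t) b).card
  · obtain ⟨x, y, i, j, hn, hb⟩ := four_fix h4
    obtain ⟨u, uA, v, vA, -, -, h1⟩ := h.sq_fix hn hb
    exact ⟨u, uA, v, vA, h1⟩
  obtain ⟨y, yA, y3, yt, a, a1, a2⟩ := h.three t2 fl (b := b) (by
    have := h.card_add (π t) b
    have := h.big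
    omega)
  have ha := h.bl_eq yA a2
  obtain ⟨v, vA, h1⟩ := h.sq_same t2 fl yt (odd3 y3) a1 a2
    ((h.bl_eq yA ((π y).injective.ne a2)).trans ha.symm)
  exact ⟨y, yA, v, ha ▸ vA, yt, h1⟩

theorem comm_of_ne (h : CF n c A π bl) {b b' : β} (hne : b ≠ b') {a a' : H} (ha : a ∈ A b)
    (ha' : a' ∈ A b') : Commute a a' :=
  h.comm_disj ha fun p => (em (bl p = b)).symm.imp (h.supp ha p) fun e => h.supp ha' p (by rwa [e])

/-- an element of odd order of `C(t)` moving a point moved by `t` -/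
theorem exists_sq (h : CF n c A π bl) {t y : H} (t2 : t * t = 1) (fl : ∀ p, bl (π t p) = bl p)
    {M : Subgroup H} (hM : ∀ v, Commute v t → ∀ y ∈ M, v * y * v⁻¹ ∈ M) (hy : y ∈ M)
    (yt : Commute y t) (ho : Odd (orderOf (π y))) {a : α} (a1 : π t a ≠ a) (a2 : π y a ≠ a) :
    ∃ k ∈ M, k * k = c := by
  have k : ∀ v, Commute v t → ∀ y ∈ M, ⁅y, v⁆ ∈ M := fun v vt y hy => by
    simpa only [commutatorElement_def, mul_assoc] using mul_mem hy (hM v vt _ (inv_mem hy))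
  by_cases hb : bl (π y a) = bl a
  · obtain ⟨v, -, vt, h1⟩ := h.sq_same t2 fl yt ho a1 a2 hb
    exact ⟨_, k v vt y hy, h1⟩
  obtain ⟨u, uA, v, vA, ut, vt, h1⟩ := h.exists_pair t2 fl (bl a)
  have h2 := h.norm y a (inv_mem uA)
  refine ⟨_, k v vt _ (k _ ut.inv_left y hy), ?_⟩
  have e : ⁅⁅y, u⁻¹⁆, v⁆ = ⁅u, v⁆ := by
    have := (h.comm_of_ne hb h2 (mul_mem (mul_mem uA vA) (inv_mem uA))).eq
    rw [commutatorElement_def y, inv_inv]
    generalize y * u⁻¹ * y⁻¹ = w at this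
    calc ⁅w * u, v⁆ = w * (u * v * u⁻¹) * w⁻¹ * v⁻¹ := by simp only [commutatorElement_def]; group
      _ = _ := by rw [this, commutatorElement_def]; group
  rwa [e]

end CF

/-- the permutation lemma behind `supp_eq` -/
theorem supp_le {φ τ : Perm α} (f1 : φ * φ = τ) (t2 : τ * τ = 1) (fl : ∀ p, bl (τ p) = bl p)
    (hφ : ∀ {p p'}, bl p = bl p' → bl (φ p) = bl (φ p')) {b : β} (h5 : 4 < (CF.mv bl τ b).card)
    (f2 : ∀ u : Perm α, u ^ 3 = 1 → (∀ p, bl p ≠ b → u p = p) → Commute τ u →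
      (∀ p, τ p ≠ p → φ ((u * φ * u⁻¹) p) = (u * φ * u⁻¹) (φ p)) ∨
        ∀ p, τ p ≠ p → φ ((u * φ * u⁻¹) p) = (u * φ * u⁻¹) (φ (τ p))) :
    τ.support.card ≤ 8 := by
  by_contra! h9
  have x2 : ∀ p, τ (τ p) = p := fun p => by rw [← Perm.mul_apply, t2, Perm.one_apply]
  have ff : ∀ p, τ p = φ (φ p) := fun p => by rw [← f1, Perm.mul_apply]
  obtain ⟨a, ha, -⟩ := AN.exists_not_mem (S := CF.mv bl τ b) [] (by simp only [List.length_nil]; omega)
  simp only [Finset.mem_filter, Finset.mem_univ, true_and] at ha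
  by_cases hb : bl (φ a) = b
  · obtain ⟨c, hc, hc'⟩ := AN.exists_not_mem (S := CF.mv bl τ b) [a, φ a, τ a, τ (φ a)] h5
    obtain ⟨p, hp, hp'⟩ := AN.exists_not_mem (S := τ.support)
      [a, φ a, τ a, τ (φ a), c, φ c, τ c, τ (φ c)] (by simp; omega)
    rw [Perm.mem_support] at hp
    simp only [List.mem_cons, List.not_mem_nil, or_false, not_or, Finset.mem_filter, Finset.mem_univ,
      true_and] at hc hc' hp'
    have f4 : ∀ q, φ (φ (φ (φ q))) = q := fun q => by rw [← ff, ← ff, x2]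
    have b1 := fl a
    have b2 := fl (φ a)
    have b3 := fl c
    obtain ⟨a0, ha⟩ := ha
    obtain ⟨c0, hc⟩ := hc
    have ha' := ha
    have hp0 := hp
    simp only [ff] at ha hc hp hc' hp' b1 b2 b3
    have n1 := AN.four_nodup f4 ha
    have n2 := AN.four_nodup f4 hc
    have n3 := AN.four_ne f4 hc'
    have n4 := AN.four_ne f4 (a := a) (c := p) (by tauto)
    have n5 := AN.four_ne f4 (a := c) (c := p) (by tauto)
    simp only [List.nodup_cons, List.mem_cons, List.not_mem_nil, or_false, not_or, forall_eq_or_imp,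
      forall_eq] at n1 n2 n3 n4 n5
    obtain ⟨u, t1, t2, t3, t4, t5, t6⟩ := AN.two_c3 (a := a) (b := φ a) (c := c) (a' := φ (φ a))
      (b' := φ (φ (φ a))) (c' := φ (φ c)) (by simp; grind)
    simp only [List.mem_cons, List.not_mem_nil, or_false, not_or] at t5
    have g1 : ∀ q, (u * φ * u⁻¹) (u q) = u (φ q) := fun q => by simp
    have h1 := f2 u t1 (fun x hx => t5 x (by grind)) (t6 _ x2 (ff _) (ff _) (ff _))
    generalize u * φ * u⁻¹ = g at *
    rcases h1 with e | e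
    · have e1 := e a ha'
      have e2 := g1 c
      have e3 := g1 a
      rw [t4, t5 (φ c) (by grind)] at e2
      rw [t2, t3] at e3
      rw [e2, e3] at e1
      exact hc e1
    · have e1 := e p hp0
      have e2 := g1 p
      have e3 := g1 (φ (φ (φ p)))
      rw [t5 p (by grind), t5 (φ p) (by grind)] at e2
      rw [f4, t5 p (by grind), t5 (φ (φ (φ p))) (by grind)] at e3
      rw [e2, ff, e3] at e1
      exact hp e1
  · obtain ⟨x, y, i, hn, h6⟩ := CF.six_mv x2 fl h5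
    obtain ⟨u, t1, t2, t3, t4, t5, t6⟩ := AN.two_c3 hn
    have u1 : ∀ p, bl p ≠ b → u p = p := fun p hp => t5 p fun e => hp (h6 p e)
    have u2 : ∀ p, bl p = b → u (φ p) = φ p := fun p hp => u1 _ (by rwa [hφ (hp.trans ha.1.symm)])
    have u3 := t6 _ x2 rfl rfl rfl
    simp only [List.nodup_cons, List.mem_cons, List.not_mem_nil, or_false, not_or, forall_eq_or_imp,
      forall_eq] at hn h6
    have g1 : (u * φ * u⁻¹) x = φ i := by
      rw [← t4, Perm.mul_apply, Perm.mul_apply, Perm.inv_eq_iff_eq.2 rfl, u2 i h6.2.2.1]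
    have g2 : ∀ p, bl p = b → (u * φ * u⁻¹) (φ p) = u (τ p) := fun p hp => by
      rw [Perm.mul_apply, Perm.mul_apply, Perm.inv_eq_iff_eq.2 (u2 p hp).symm, ff]
    rcases f2 u t1 u1 u3 with e | e
    · have e1 := e x (Ne.symm hn.1.2.2.1)
      rw [g1, g2 x h6.1, ← ff, ← Perm.mul_apply u, ← u3.eq, Perm.mul_apply, t2] at e1
      exact hn.2.1.1 (τ.injective e1).symm
    · have e1 := e x (Ne.symm hn.1.2.2.1)
      rw [g1, g2 _ h6.2.2.2.1, ← ff, x2, t2] at e1
      exact hn.2.1.2.2.2 e1.symm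

/-- `M` is normalised by `C(z, t)` -/
def Nm (z t : G) (M : Subgroup G) : Prop :=
  ∀ d ∈ C1 z, d ∈ C1 t → ∀ y ∈ M, d * y * d⁻¹ ∈ M

theorem odd_card {N : Subgroup G} (h : ∀ j ∈ N, j * j = 1 → j = 1) : Odd (Nat.card N) := by
  by_contra he
  obtain ⟨x, hx⟩ := exists_prime_orderOf_dvd_card' (G := N) 2 (even_iff_two_dvd.1 (Nat.not_odd_iff_even.1 he))
  exact ne_one_of_ord hx (Subtype.ext (h x x.2 (congrArg Subtype.val (sq_of_ord hx))))

omit [Finite G] in
theorem Nm.symm {M : Subgroup G} (h : Nm z t M) : Nm t z M := fun d h1 h2 => h d h2 h1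

namespace P2

set_option linter.unusedSectionVars false

theorem symm_comm (h : P2 n c A π bl z q t q') : z ∈ C1 t := mem_C1_comm.1 h.comm

theorem tq2 (h : P2 n c A π bl z q t q') : q t * q t = 1 := h.vl.sq h.comm h.t2

theorem cq (h : P2 n c A π bl z q t q') {g : G} (gz : g ∈ C1 z) (gt : g ∈ C1 t) :
    Commute (q g) (q t) := h.vl.comm gz h.comm (mem_C1.1 gt)

theorem lift (h : P2 n c A π bl z q t q') {a : H} (e : Commute a (q t)) :
    ∃ g ∈ C1 z, g ∈ C1 t ∧ q g = a := by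
  obtain ⟨g, h1, h2, h3⟩ := h.vl.lift h.comm h.t2 e
  exact ⟨g, h1, mem_C1.2 h3, h2⟩

theorem mem_of_sq (h : P2 n c A π bl z q t q') {M : Subgroup G} {k : G} (hk : k ∈ M) (kz : k ∈ C1 z)
    (e : q k * q k = c) : z ∈ M := by
  obtain ⟨m, -, h1⟩ := h.vl.exists_root kz (self_mem_C1 z) h.z2 (mem_C1.1 kz) (e.trans h.zl.symm)
  exact h1 ▸ mul_mem (pow_mem hk m) (pow_mem hk m)

/-- the elements of `C(z, t)` fixing every point moved by `t` -/
def Fx (h : P2 n c A π bl z q t q') : Subgroup G where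
  carrier := {g | g ∈ C1 z ∧ g ∈ C1 t ∧ ∀ p, π (q t) p ≠ p → π (q g) p = p}
  one_mem' := ⟨one_mem _, one_mem _, fun p _ => by simp [h.vl.one]⟩
  mul_mem' := fun {g k} hg hk => ⟨mul_mem hg.1 hk.1, mul_mem hg.2.1 hk.2.1, fun p hp => by
    rw [h.vl.mul hg.1 hk.1, map_mul, Perm.mul_apply, hk.2.2 p hp, hg.2.2 p hp]⟩
  inv_mem' := fun {g} hg => ⟨inv_mem hg.1, inv_mem hg.2.1, fun p hp => by
    rw [h.vl.inv hg.1, map_inv, Perm.inv_eq_iff_eq, hg.2.2 p hp]⟩

theorem moves (h : P2 n c A π bl z q t q') {g : G} (gz : g ∈ C1 z) (gt : g ∈ C1 t) {p : α}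
    (hp : π (q t) p ≠ p) : π (q t) (π (q g) p) ≠ π (q g) p := fun e =>
  hp ((π (q g)).injective ((app (h.cq gz gt) p).trans e))

theorem nm_Fx (h : P2 n c A π bl z q t q') : Nm z t h.Fx := fun d dz dt g hg =>
  ⟨mul_mem (mul_mem dz hg.1) (inv_mem dz), mul_mem (mul_mem dt hg.2.1) (inv_mem dt), fun p hp => by
    have e := hg.2.2 _ (h.moves (inv_mem dz) (inv_mem dt) hp)
    rw [h.vl.inv dz] at e
    rw [h.vl.conj dz hg.1, map_mul, map_mul, Perm.mul_apply, Perm.mul_apply, e]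
    simp⟩

theorem not_mem_Fx (h : P2 n c A π bl z q t q') (b : β) : t ∉ h.Fx := fun e => by
  obtain ⟨p, -, hp⟩ := h.nl b
  exact hp (e.2.2 p hp)

theorem odd_map (h : Vw (C1 z) q) {g : G} (gz : g ∈ C1 z) (ho : Odd (orderOf g)) :
    Odd (orderOf (π (q g))) :=
  ho.of_dvd_nat (orderOf_dvd_of_pow_eq_one (by
    rw [← map_pow, ← h.pow gz, pow_orderOf_eq_one, h.one, map_one]))

theorem mem_of_moves (h : P2 n c A π bl z q t q') {M : Subgroup G} (hM : Nm z t M) {y : G}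
    (hy : y ∈ M) (yz : y ∈ C1 z) (yt : y ∈ C1 t) (ho : Odd (orderOf y)) (hF : y ∉ h.Fx) : z ∈ M := by
  obtain ⟨a, a1, a2⟩ : ∃ a, π (q t) a ≠ a ∧ π (q y) a ≠ a := by
    by_contra! e
    exact hF ⟨yz, yt, e⟩
  obtain ⟨_, ⟨k, hk, kz, -, rfl⟩, e⟩ := h.cf.exists_sq h.tq2 h.fl
    (M := { carrier := {x | ∃ g ∈ M, g ∈ C1 z ∧ g ∈ C1 t ∧ q g = x}
            one_mem' := ⟨1, one_mem _, one_mem _, one_mem _, h.vl.one⟩
            mul_mem' := by
              rintro _ _ ⟨g, h1, h2, h3, rfl⟩ ⟨k, h4, h5, h6, rfl⟩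
              exact ⟨_, mul_mem h1 h4, mul_mem h2 h5, mul_mem h3 h6, h.vl.mul h2 h5⟩
            inv_mem' := by
              rintro _ ⟨g, h1, h2, h3, rfl⟩
              exact ⟨_, inv_mem h1, inv_mem h2, inv_mem h3, h.vl.inv h2⟩ })
    (by
      rintro v hv _ ⟨g, h1, h2, h3, rfl⟩
      obtain ⟨d, dz, dt, rfl⟩ := h.lift hv
      exact ⟨_, hM d dz dt g h1, mul_mem (mul_mem dz h2) (inv_mem dz),
        mul_mem (mul_mem dt h3) (inv_mem dt), h.vl.conj dz h2⟩)
    ⟨y, hy, yz, yt, rfl⟩ (h.cq yz yt) (odd_map h.vl yz ho) a1 a2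
  exact h.mem_of_sq hk kz e

theorem core_fix (h : P2 n c A π bl z q t q') {g : G} (gz : g ∈ C1 z) (gt : g ∈ C1 t) (e : q g = 1)
    {p : α} (hp : π (q' z) p ≠ p) : π (q' g) p = p := by
  by_contra hne
  obtain ⟨x, -, hx⟩ := h.nl (bl p)
  have := (h.symm.mem_of_moves
    (M := { carrier := {x | x ∈ C1 z ∧ q x = 1}
            one_mem' := ⟨one_mem _, h.vl.one⟩
            mul_mem' := fun h1 h2 => ⟨mul_mem h1.1 h2.1, by rw [h.vl.mul h1.1 h2.1, h1.2, h2.2, one_mul]⟩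
            inv_mem' := fun h1 => ⟨inv_mem h1.1, by rw [h.vl.inv h1.1, h1.2, inv_one]⟩ })
    (fun d _ dz y hy => ⟨mul_mem (mul_mem dz hy.1) (inv_mem dz), by
      rw [h.vl.conj dz hy.1, hy.2, mul_one, mul_inv_cancel]⟩) ⟨gz, e⟩ gt gz (h.vl.odd gz e)
    fun hF => hne (hF.2.2 p hp)).2
  exact hx (by rw [this, map_one, Perm.one_apply])

theorem core_core (h : P2 n c A π bl z q t q') (hz : ∃ b, q' z ∈ A b) {g : G} (gz : g ∈ C1 z)
    (gt : g ∈ C1 t) (e : q g = 1) (e' : π (q' g) = 1) : q' g = 1 := by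
  obtain ⟨b, hb⟩ := hz
  have : Finite H := Finite.of_surjective q' fun a => (h.vr.surj a).imp fun _ h1 => h1.2
  let N : Subgroup H :=
    { carrier := {x | π x = 1 ∧ ∃ g ∈ C1 z, g ∈ C1 t ∧ q g = 1 ∧ q' g = x}
      one_mem' := ⟨map_one _, 1, one_mem _, one_mem _, h.vl.one, h.vr.one⟩
      mul_mem' := by
        rintro _ _ ⟨h0, g, h1, h2, h3, rfl⟩ ⟨h0', k, h4, h5, h6, rfl⟩
        exact ⟨by rw [map_mul, h0, h0', one_mul], _, mul_mem h1 h4, mul_mem h2 h5,
          by rw [h.vl.mul h1 h4, h3, h6, one_mul], h.vr.mul h2 h5⟩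
      inv_mem' := by
        rintro _ ⟨h0, g, h1, h2, h3, rfl⟩
        exact ⟨by rw [map_inv, h0, inv_one], _, inv_mem h1, inv_mem h2,
          by rw [h.vl.inv h1, h3, inv_one], h.vr.inv h2⟩ }
  have h1 : SN ⊤ N := (SN.of_normal (K := π.ker) le_top).trans (SN.of_le_normalizer (fun x hx => hx.1)
    fun k hk => H42.mem_normalizer_of_conj_mem (by
      rintro _ ⟨h0, g, h1, h2, h3, rfl⟩
      obtain ⟨d, dt, dz, rfl⟩ := h.symm.lift (h.cf.ker (b := b) (fun p _ => by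
        rw [MonoidHom.mem_ker.1 hk, Perm.one_apply]) _ hb)
      exact ⟨by rw [map_mul, map_mul, h0, mul_one, map_inv, mul_inv_cancel], _,
        mul_mem (mul_mem dz h1) (inv_mem dz), mul_mem (mul_mem dt h2) (inv_mem dt),
        by rw [h.vl.conj dz h1, h3, mul_one, mul_inv_cancel], h.vr.conj dt h2⟩))
  have h2 := le_Oppof_of_sn h1 (coprime_two_iff_odd.2 (odd_card (N := N) (by
    rintro _ ⟨-, g, h1, h2, h3, rfl⟩ h4
    exact eq_one_of_odd (k := 1) ((h.vl.odd h1 h3).of_dvd_nat (orderOf_dvd_of_pow_eq_one (by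
      rw [← h.vr.pow h2, pow_orderOf_eq_one, h.vr.one]))) (by rwa [pow_one, pow_two]))))
  rw [Oppof_top, h.cf.core] at h2
  exact h2 ⟨e', g, gz, gt, e, rfl⟩

/-- elements commuting modulo the core commute on the support -/
theorem app_supp (h : P2 n c A π bl z q t q') {g k : G} (gz : g ∈ C1 z) (gt : g ∈ C1 t)
    (kz : k ∈ C1 z) (kt : k ∈ C1 t) (e : q (g * k) = q (k * g)) {p : α} (hp : π (q' z) p ≠ p) :
    π (q' g) (π (q' k) p) = π (q' k) (π (q' g) p) := by
  have h1 := h.core_fix (mul_mem (inv_mem (mul_mem kz gz)) (mul_mem gz kz))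
    (mul_mem (inv_mem (mul_mem kt gt)) (mul_mem gt kt)) (by
      rw [h.vl.mul (inv_mem (mul_mem kz gz)) (mul_mem gz kz), h.vl.inv (mul_mem kz gz), e,
        inv_mul_cancel]) hp
  rw [h.vr.mul (inv_mem (mul_mem kt gt)) (mul_mem gt kt), h.vr.inv (mul_mem kt gt), h.vr.mul gt kt,
    h.vr.mul kt gt, map_mul, map_inv, Perm.mul_apply, Perm.inv_eq_iff_eq, map_mul, map_mul] at h1
  exact h1

theorem fx_le (h : P2 n c A π bl z q t q') (b : β) : (CF.fx bl (π (q t)) b).card ≤ 3 := by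
  by_contra! h4
  obtain ⟨x, y, i, j, hn, hb⟩ := CF.four_fix h4
  obtain ⟨u, -, v, -, u3, hd, u0, v0, e⟩ := h.cf.sq_fix hn hb
  obtain ⟨u, uz, ut, rfl⟩ := h.lift u0
  obtain ⟨v, vz, vt, rfl⟩ := h.lift v0
  by_cases hF : u ∈ h.symm.Fx
  · refine h.symm.not_mem_Fx b (h.mem_of_sq (k := ⁅u, v⁆) ?_
      (mul_mem (mul_mem (mul_mem uz vz) (inv_mem uz)) (inv_mem vz)) (by rw [h.vl.commutator uz vz, e]))
    simpa only [commutatorElement_def, mul_assoc] using
      mul_mem hF (h.symm.nm_Fx v vt vz _ (inv_mem hF))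
  · exact h.not_mem_Fx b (h.symm.mem_of_moves h.nm_Fx.symm
      ⟨uz, ut, fun p hp => (hd p).resolve_right hp⟩ ut uz (h.vl.odd_of_pow uz (by decide) u3) hF)

theorem mv_ge (h : P2 n c A π bl z q t q') (b : β) : 4 < (CF.mv bl (π (q t)) b).card := by
  have := h.fx_le b
  have := h.cf.card_add (π (q t)) b
  have := h.cf.big
  omega

theorem supp_aux (h : P2 n c A π bl z q t q') (b : β) :
    (π (q' z)).support.card ≤ 8 ∧ Perm.sign (π (q' z)) = 1 := by
  obtain ⟨x, y, i, hn, hb⟩ := CF.six_mv (app2 h.tq2) h.fl (h.mv_ge b)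
  have hn' : [x, π (q t) x, y, π (q t) y].Nodup := by
    simp only [List.nodup_cons, List.mem_cons, List.not_mem_nil, or_false, not_or] at hn ⊢
    grind
  obtain ⟨v, vA, hv, v0⟩ := h.cf.exists_two h.tq2 hn' fun p hp => hb p (by grind)
  have v2 := h.cf.dt vA hn' hv
  obtain ⟨v, vz, vt, rfl⟩ := h.lift v0
  obtain ⟨m, ⟨m, rfl⟩, f0⟩ := h.vl.exists_root vz (self_mem_C1 z) h.z2 (mem_C1.1 vz) (v2.trans h.zl.symm)
  have hw : π (q (v ^ (2 * m + 1))) = swap x (π (q t) x) * swap y (π (q t) y) := by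
    rw [h.vl.pow vz, pow_succ, pow_mul, pow_two, v2, map_mul, map_pow, h.cf.map_c, one_pow, one_mul, hv]
  have wA : q (v ^ (2 * m + 1)) ∈ A b := h.vl.pow vz _ ▸ pow_mem vA _
  have wz := pow_mem vz (2 * m + 1)
  have wt := pow_mem vt (2 * m + 1)
  generalize v ^ (2 * m + 1) = w at f0 hw wA wz wt
  have f1 : π (q' w) * π (q' w) = π (q' z) := by rw [← map_mul, ← h.vr.mul wt wt, f0]
  refine ⟨supp_le f1 (by rw [← map_mul, h.symm.tq2, map_one]) h.fr (h.cf.blk _) (h.symm.mv_ge b)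
    fun u u3 us hu => ?_, by rw [← f1, map_mul, Int.units_mul_self]⟩
  obtain ⟨s, sA, rfl, s3⟩ := h.cf.lift3 u3 us
  obtain ⟨s, st, sz, rfl⟩ := h.symm.lift (h.cf.comm3 sA s3 hu).symm
  have kz := mul_mem (mul_mem sz wz) (inv_mem sz)
  have kt := mul_mem (mul_mem st wt) (inv_mem st)
  rw [← map_inv, ← map_mul, ← map_mul, ← h.vr.conj st wt]
  have hx := hb x (by simp)
  have kA := h.cf.norm (q s) x (hx ▸ wA)
  rw [← h.vl.conj sz wz] at kA
  by_cases e : bl (π (q s) x) = b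
  · have hc := app (π := π) (h.cq sz st)
    rcases h.cf.eq_or (mul_mem wA (e ▸ kA)) (mul_mem (e ▸ kA) wA) (by
      rw [map_mul, map_mul, h.vl.conj sz wz, map_mul, map_mul, map_inv, hw, ← conj_mul,
        ← swap_apply_apply, ← swap_apply_apply, hc, hc]
      have k := AN.swap_comm_inv (app2 (π := π) h.tq2)
      exact (((k _ _).mul_right (k _ _)).mul_left ((k _ _).mul_right (k _ _))).eq) with e1 | e1
    · exact .inl fun p hp => h.app_supp wz wt kz kt (by rw [h.vl.mul wz kz, h.vl.mul kz wz, e1]) hp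
    · refine .inr fun p hp => ?_
      have h1 := mul_mem (mul_mem kz wz) (self_mem_C1 z)
      have h2 := mul_mem (mul_mem kt wt) h.symm_comm
      have h3 := h.core_fix (mul_mem (inv_mem h1) (mul_mem wz kz)) (mul_mem (inv_mem h2) (mul_mem wt kt))
        (by rw [h.vl.mul (inv_mem h1) (mul_mem wz kz), h.vl.inv h1, h.vl.mul wz kz, e1,
          h.vl.mul (mul_mem kz wz) (self_mem_C1 z), h.vl.mul kz wz, h.zl, inv_mul_cancel]) hp
      rw [h.vr.mul (inv_mem h2) (mul_mem wt kt), h.vr.inv h2, h.vr.mul wt kt,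
        h.vr.mul (mul_mem kt wt) h.symm_comm, h.vr.mul kt wt, map_mul, map_inv, Perm.mul_apply,
        Perm.inv_eq_iff_eq, map_mul, map_mul, map_mul] at h3
      exact h3
  · exact .inl fun p hp => h.app_supp wz wt kz kt (by
      rw [h.vl.mul wz kz, h.vl.mul kz wz, (h.cf.comm_of_ne e kA wA).eq]) hp

theorem one (h : P2 n c A π bl z q t q') (p p' : α) : bl p = bl p' := by
  by_contra hne
  have h1 := (h.symm.supp_aux (bl p)).1
  have h2 := h.mv_ge (bl p)
  have h3 := h.mv_ge (bl p')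
  have := Finset.card_le_card (s := CF.mv bl (π (q t)) (bl p) ∪ CF.mv bl (π (q t)) (bl p'))
    (t := (π (q t)).support) fun x hx => by
      simp only [Finset.mem_union, Finset.mem_filter, Finset.mem_univ, true_and] at hx
      exact Perm.mem_support.2 (hx.elim And.right And.right)
  rw [Finset.card_union_of_disjoint (Finset.disjoint_filter.2 fun x _ e1 e2 =>
    hne (e1.1.symm.trans e2.1))] at this
  simp only [CF.mv] at h2 h3
  omega

theorem mv_eq (h : P2 n c A π bl z q t q') (p : α) (τ : Perm α) : CF.mv bl τ (bl p) = τ.support := by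
  ext x
  simp [h.one x p]

theorem fx_eq (h : P2 n c A π bl z q t q') (p : α) (τ : Perm α) : CF.fx bl τ (bl p) = τ.supportᶜ := by
  ext x
  simp [h.one x p]

theorem fix_le (h : P2 n c A π bl z q t q') : (π (q t)).supportᶜ.card ≤ 3 := by
  cases isEmpty_or_nonempty α with
  | inl _ => simp [Finset.eq_empty_of_isEmpty]
  | inr e => exact h.fx_eq e.some _ ▸ h.fx_le _

theorem supp_eq' (h : P2 n c A π bl z q t q') (p : α) : (π (q t)).support.card = 8 := by
  obtain ⟨h1, h2⟩ := h.symm.supp_aux (bl p)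
  obtain ⟨k, -, hk⟩ := AN.cycleType_inv (σ := π (q t)) (by rw [pow_two, ← map_mul, h.tq2, map_one]) h2
  have := h.mv_ge (bl p)
  rw [h.mv_eq] at this
  omega

theorem supp_eq [Nonempty β] (h : P2 n c A π bl z q t q') : (π (q t)).support.card = 8 :=
  h.supp_eq' (h.nl (Classical.arbitrary β)).choose

theorem small [Nonempty β] (h : P2 n c A π bl z q t q') : n ≤ 11 := by
  obtain ⟨p, -⟩ := h.nl (Classical.arbitrary β)
  have h1 := h.cf.card_add (π (q t)) (bl p)
  have := h.fx_le (bl p)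
  have := h.supp_eq' p
  rw [h.mv_eq] at h1
  omega

theorem exists_three (h : P2 n c A π bl z q t q') (b : β) :
    ∃ y ∈ C1 z, y ∈ C1 t ∧ q y ∈ A b ∧ q y ^ 3 = 1 ∧ y ∉ h.symm.Fx := by
  obtain ⟨y, yA, y3, y0, a, a1, a2⟩ := h.cf.three h.tq2 h.fl (h.mv_ge b)
  obtain ⟨y, yz, yt, rfl⟩ := h.lift y0
  exact ⟨y, yz, yt, yA, y3, fun e => h.symm.not_mem_Fx b (h.mem_of_moves h.symm.nm_Fx.symm e yz yt
    (h.vl.odd_of_pow yz (by decide) y3) fun e => a2 (e.2.2 a a1))⟩

theorem conj_mem (h : P2 n c A π bl z q t q') (g : H) {b : β} {a : H} (ha : a ∈ A b) :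
    g * a * g⁻¹ ∈ A b := by
  obtain ⟨p, hp, -⟩ := h.nl b
  exact h.cf.conj_mem ha hp ((h.one _ p).trans hp)

theorem mem (h : P2 n c A π bl z q t q') (b : β) : q t ∈ A b := by
  obtain ⟨y, yz, yt, yA, y3, hy⟩ := h.exists_three b
  exact (h.symm.mem_of_moves
    (M := { carrier := {x | x ∈ C1 z ∧ q x ∈ A b}
            one_mem' := ⟨one_mem _, h.vl.one ▸ one_mem _⟩
            mul_mem' := fun h1 h2 => ⟨mul_mem h1.1 h2.1, h.vl.mul h1.1 h2.1 ▸ mul_mem h1.2 h2.2⟩
            inv_mem' := fun h1 => ⟨inv_mem h1.1, h.vl.inv h1.1 ▸ inv_mem h1.2⟩ })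
    (fun d _ dz y hy => ⟨mul_mem (mul_mem dz hy.1) (inv_mem dz),
      h.vl.conj dz hy.1 ▸ h.conj_mem _ hy.2⟩) ⟨yz, yA⟩ yt yz (h.vl.odd_of_pow yz (by decide) y3) hy).2

theorem mem_or (h : P2 n c A π bl z q t q') {k : G} (kz : k ∈ C1 z) (kt : k ∈ C1 t)
    (e : π (q k) = 1) : (∀ p, π (q' z) p ≠ p → π (q' k) p = p) ∨
      ∀ p, π (q' z) p ≠ p → π (q' (k * z)) p = p := by
  cases isEmpty_or_nonempty α with
  | inl _ => exact .inl fun p => isEmptyElim p
  | inr e0 =>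
  obtain ⟨y, yz, yt, yA, y3, hy⟩ := h.exists_three (bl e0.some)
  obtain ⟨a, a1, a2⟩ : ∃ a, π (q' z) a ≠ a ∧ π (q' y) a ≠ a := by
    by_contra! e
    exact hy ⟨yt, yz, e⟩
  have hs := h.symm.supp_eq' a
  have x2 := app2 (π := π) h.symm.tq2
  have yx := app (π := π) (h.symm.cq yt yz)
  have y3' : ∀ p, π (q' z) p ≠ p → π (q' y) (π (q' y) (π (q' y) p)) = p := fun p hp => by
    have := h.core_fix (pow_mem yz 3) (pow_mem yt 3) (by rw [h.vl.pow yz, y3]) hp
    rwa [h.vr.pow yt, map_pow, pow_three] at this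
  obtain ⟨b, hb⟩ : ∃ b, π (q' y) a = b := ⟨_, rfl⟩
  obtain ⟨c, hc⟩ : ∃ c, π (q' y) b = c := ⟨_, rfl⟩
  have ha : π (q' y) c = a := by rw [← hc, ← hb, y3' a a1]
  obtain ⟨d, d1, d2⟩ := AN.exists_not_mem (S := (π (q' z)).support)
    [a, b, c, π (q' z) a, π (q' z) b, π (q' z) c] (by simp; omega)
  rw [Perm.mem_support] at d1
  simp only [List.mem_cons, List.not_mem_nil, or_false, not_or] at d2
  have key : ∀ k ∈ C1 z, k ∈ C1 t → π (q k) = 1 → ∀ w ∈ C1 z, w ∈ C1 t → q w ∈ A (bl e0.some) →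
      ∀ p, π (q' z) p ≠ p → π (q' k) (π (q' w) p) = π (q' w) (π (q' k) p) :=
    fun k kz kt e w wz wt wA p hp => h.app_supp kz kt wz wt (by
      rw [h.vl.mul kz wz, h.vl.mul wz kz, (h.cf.ker (fun p _ => by rw [e, Perm.one_apply]) _ wA).eq]) hp
  have k1 := key k kz kt e y yz yt yA d d1
  have k2 := app (π := π) (h.symm.cq kt kz) d
  have e1 := yx a
  have e2 := yx b
  have e3 := yx c
  have e4 := yx d
  have e5 := y3' d d1
  have i1 := (π (q' y)).injective
  have i2 := (π (q' k)).injective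
  have := x2 a
  have := x2 b
  have := x2 c
  have := x2 d
  have b1 : π (q' z) b ≠ b := hb ▸ h.symm.moves yt yz a1
  have c1 : π (q' z) c ≠ c := hc ▸ h.symm.moves yt yz b1
  have hn : [a, b, c, d, π (q' z) a, π (q' z) b, π (q' z) c, π (q' z) d].Nodup := by
    simp only [List.nodup_cons, List.mem_cons, List.not_mem_nil, or_false, not_or, List.nodup_nil]
    clear key
    and_intros <;> grind
  have all : ∀ p, π (q' z) p ≠ p → p = a ∨ p = b ∨ p = c ∨ p = d ∨ p = π (q' z) a ∨ p = π (q' z) b ∨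
      p = π (q' z) c ∨ p = π (q' z) d := fun p hp => by
    simpa using STD.mem_of_card hn (S := (π (q' z)).support) (by clear key; simp; grind) (by simp; omega)
      (Perm.mem_support.2 hp)
  simp only [List.nodup_cons, List.mem_cons, List.not_mem_nil, or_false, not_or] at hn
  have hd : π (q' y) d = d := by
    have := all _ (h.symm.moves yt yz d1)
    clear key all
    grind
  obtain ⟨u, t1, t2, t3, -, -, t6⟩ := AN.two_c3 (a := a) (b := b) (c := d) (a' := π (q' z) a)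
    (b' := π (q' z) b) (c' := π (q' z) d) (by clear key all; simp; grind)
  obtain ⟨s, sB, rfl, s3⟩ := h.cf.lift3 (b := bl a) t1 fun p hp => (hp (h.one p a)).elim
  obtain ⟨s, st, sz, rfl⟩ := h.symm.lift (h.cf.comm3 sB s3 (t6 _ x2 rfl rfl rfl)).symm
  have wd : π (q' (s * y * s⁻¹)) b = d := by
    rw [h.vr.conj st yt, map_mul, map_mul, map_inv, Perm.mul_apply, Perm.mul_apply,
      Perm.inv_eq_iff_eq.2 t2.symm, hb, t3]
  have fin : ∀ k ∈ C1 z, k ∈ C1 t → π (q k) = 1 → π (q' k) d = d →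
      ∀ p, π (q' z) p ≠ p → π (q' k) p = p := fun k kz kt e kd p hp => by
    have k1 := key k kz kt e y yz yt yA
    have k2 := app (π := π) (h.symm.cq kt kz)
    have k3 := key k kz kt e _ (mul_mem (mul_mem sz yz) (inv_mem sz))
      (mul_mem (mul_mem st yt) (inv_mem st)) (h.vl.conj sz yz ▸ h.conj_mem _ yA) b b1
    have kb : π (q' k) b = b := (π (q' (s * y * s⁻¹))).injective (by rw [← k3, wd, kd])
    have kc : π (q' k) c = c := by rw [← hc, k1 b b1, kb]
    have ka : π (q' k) a = a := by rw [← ha, k1 c c1, kc]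
    rcases all p hp with e | e | e | e | e | e | e | e <;> simp only [e, k2, ka, kb, kc, kd]
  have h1 : π (q' k) d = d ∨ π (q' k) d = π (q' z) d := by
    have := all _ (h.symm.moves kt kz d1)
    clear key all fin
    grind
  refine h1.imp (fin k kz kt e) fun e1 => fin _ (mul_mem kz (self_mem_C1 z)) (mul_mem kt h.symm_comm)
    (by rw [h.vl.mul kz (self_mem_C1 z), map_mul, e, h.zl, h.cf.map_c, one_mul]) ?_
  rw [h.vr.mul kt h.symm_comm, map_mul, Perm.mul_apply, k2, e1, x2]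

end P2

end Cfsg.Agent.SOL
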