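import Cfsg.Agent.SOL.KL1
import Cfsg.Agent.SOL.P2

/-! Case B: glue (project SOL). -/

set_option autoImplicit false

namespace Cfsg.Agent.SOL

open Equiv Subgroup H44 H59
open scoped commutatorElement

universe u

variable {G H : Type u} [Group G] [Group H] [Finite G] [IsSimpleGroup G] {n : ℕ} {z : G}
  {K : Subgroup G} {q : G → H} {c : H} {A : Subgroup H} {π : H →* Perm (Fin n)}

set_option linter.unusedSectionVars false

theorem CB.map_eq_one (h : CB n z K q c A π) {x : G} (hx : x ∈ C1 z) :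
    π (q x) = 1 ↔ x ∈ Dc 2 (C1 z) K :=
  ⟨fun e => (h.vw.mem_Dc (b := ()) hx).2 (h.cf.ker (b := ()) fun p _ => by rw [e, Perm.one_apply]),
    fun e => Equiv.ext fun _ => h.cf.kerK (b := ()) ((h.vw.mem_Dc (b := ()) hx).1 e) rfl⟩

theorem CB.map_ne_one (h : CB n z K q c A π) {x : G} (hx : x ∈ K) (x2 : orderOf x = 2)
    (xz : x ≠ z) : π (q x) ≠ 1 := fun e =>
  (h.cx.blk.eq_of_inv hx (sq_of_ord x2) fun a ha => odd_of_mem
    ((mem_Dc.1 ((h.map_eq_one (h.cx.blk.le hx)).1 e)).2 a ha)).elim (ne_one_of_ord x2) xz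

theorem CB.p2 (h : CB n z K q c A π) {g : G} (hg : g * z * g⁻¹ ∈ K) (hne : g * z * g⁻¹ ≠ z) :
    P2 n c (fun _ : Unit => A) π (fun _ => ()) z q (g * z * g⁻¹) fun x => q (g⁻¹ * x * g) := by
  have k : ∀ {x}, x ∈ K → orderOf x = 2 → x ≠ z → ∀ b : Unit, ∃ p, () = b ∧ π (q x) p ≠ p :=
    fun hx x2 xz _ => by
      by_contra! e
      exact h.map_ne_one hx x2 xz (Equiv.ext fun p => e p rfl)
  have z2 := sq_of_ord h.cx.blk.ord
  refine ⟨h.cf, h.vw.vw, (h.conj g).vw.vw, h.vw.qz, (h.conj g).vw.qz, z2, H42.conj_mul_self z2 g,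
    h.cx.blk.le hg, fun _ => rfl, fun _ => rfl,
    k hg ((H42.orderOf_conj' g z).trans h.cx.blk.ord) hne,
    k (h.cx.back hg) (by simpa using (H42.orderOf_conj' g⁻¹ z).trans h.cx.blk.ord) fun e => hne ?_⟩
  nth_rw 1 [← e]
  group

/-- every preimage in `K` can be chosen to commute with two given commuting involutions -/
theorem CB.lift (h : CB n z K q c A π) {a : H} (ha : a ∈ A) {s t : G} (hs : s ∈ C1 z)
    (s2 : s * s = 1) (ht : t ∈ C1 z) (t2 : t * t = 1) (st : Commute t s) (e1 : Commute a (q s))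
    (e2 : Commute a (q t)) : ∃ g ∈ K, q g = a ∧ Commute g s ∧ Commute g t := by
  have k : ∀ {g x}, g ∈ K → x ∈ C1 z → x * x = 1 → ∀ j : ℕ, (x * (g * x * g⁻¹)) ^ j * g ∈ K :=
    fun {g x} hg hx x2 j => by
      refine mul_mem (pow_mem ?_ j) hg
      have := mul_mem (H42.conj_mem_of_mem_normalizer (h.norm hx) hg) (inv_mem hg)
      rwa [inv_eq x2, mul_assoc, mul_assoc, ← mul_assoc g] at this
  obtain ⟨g, hg, rfl⟩ := h.vw.onto (b := ()) ha
  obtain ⟨i, h1, h2⟩ := h.vw.vw.adjust (h.cx.blk.le hg) hs s2 e1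
  have h3 := k hg hs s2 i
  generalize (s * (g * s * g⁻¹)) ^ i * g = w at h1 h2 h3
  obtain ⟨j, h4, h5⟩ := h.vw.vw.adjust (h.cx.blk.le h3) ht t2 (h1 ▸ e2)
  exact ⟨_, k h3 ht t2 j, h4.trans h1,
    ((st.mul_left ((h2.mul_left st).mul_left h2.inv_left)).pow_left j).mul_left h2, h5⟩

end Cfsg.Agent.SOL
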