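import Cfsg.Agent.SOL.Defs

/-! The core-free local structure (project SOL). -/

set_option autoImplicit false

namespace Cfsg.Agent.SOL

open Equiv Subgroup H44 H59 H3 H67
open scoped commutatorElement

universe u

variable {H : Type u} [Group H] {n : ℕ} {α β : Type} [DecidableEq α] [Fintype α] [DecidableEq β]
  {c : H} {A : β → Subgroup H} {π : H →* Perm α} {bl : α → β}

omit [DecidableEq α] [Fintype α] in
theorem app2 {t : H} (t2 : t * t = 1) (p : α) : π t (π t p) = p := by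
  rw [← Perm.mul_apply, ← map_mul, t2, map_one, Perm.one_apply]

omit [DecidableEq α] [Fintype α] in
theorem app {g k : H} (e : Commute g k) (p : α) : π g (π k p) = π k (π g p) := by
  rw [← Perm.mul_apply, (e.map π).eq, Perm.mul_apply]

namespace CF

theorem exists_pt (h : CF n c A π bl) (b : β) (l : List α) (hl : l.length < 8) :
    ∃ p, bl p = b ∧ p ∉ l := by
  obtain ⟨p, h1, h2⟩ := AN.exists_not_mem (S := Finset.univ.filter fun p => bl p = b) l
    (by rw [h.card]; exact hl.trans_le h.big)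
  exact ⟨p, (Finset.mem_filter.1 h1).2, h2⟩

theorem bl_eq (h : CF n c A π bl) {b : β} {a : H} (ha : a ∈ A b) {p : α} (hp : π a p ≠ p) :
    bl p = b := by_contra fun e => hp (h.supp ha p e)

theorem exists_c3 (h : CF n c A π bl) {b : β} {x y i : α} (hxy : x ≠ y) (h1 : i ≠ x)
    (hx : bl x = b) (hy : bl y = b) (hi : bl i = b) : ∃ a ∈ A b, π a = c3 x y i :=
  h.surj b _ (sign_c3 hxy h1) fun p hp => c3_apply_of_ne (by grind) (by grind) (by grind)

theorem kerK (h : CF n c A π bl) {g : H} {b : β} (hc : ∀ a ∈ A b, Commute g a) {p : α}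
    (hp : bl p = b) : π g p = p := by
  by_contra e
  obtain ⟨x, x1, x2⟩ := h.exists_pt b [p, π g p] (by simp)
  obtain ⟨y, y1, y2⟩ := h.exists_pt b [p, π g p, x] (by simp)
  simp only [List.mem_cons, List.not_mem_nil, or_false, not_or] at x2 y2
  obtain ⟨a, ha, e1⟩ := h.exists_c3 (Ne.symm x2.1) y2.1 hp x1 y1
  have := app (π := π) (hc a ha) p
  rw [e1, c3_first (Ne.symm x2.1) y2.2.2, c3_apply_of_ne e (Ne.symm x2.2) (Ne.symm y2.2.1)] at this
  exact x2.1 ((π g).injective this)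

theorem map_c (h : CF n c A π bl) : π c = 1 :=
  Equiv.ext fun p => h.kerK (fun a _ => (h.cen a).symm) (b := bl p) rfl

theorem eq_or (h : CF n c A π bl) {b : β} {x y : H} (hx : x ∈ A b) (hy : y ∈ A b) (e : π x = π y) :
    x = y ∨ x = y * c :=
  (h.kerA (mul_mem (inv_mem hy) hx) (by simp [e])).imp (fun e => (inv_mul_eq_one.1 e).symm)
    fun e => by rw [← e, mul_inv_cancel_left]

theorem c_cube (h : CF n c A π bl) : c ^ 3 = c := by rw [pow_three, h.sq, mul_one]

theorem lift3 (h : CF n c A π bl) {b : β} {σ : Perm α} (h3 : σ ^ 3 = 1)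
    (hs : ∀ p, bl p ≠ b → σ p = p) : ∃ a ∈ A b, π a = σ ∧ a ^ 3 = 1 := by
  obtain ⟨a, ha, rfl⟩ := h.surj b σ (by
    have := congrArg Perm.sign h3
    rwa [map_pow, pow_three, Int.units_mul_self, mul_one, map_one] at this) hs
  rcases h.kerA (pow_mem ha 3) (by rw [map_pow, h3]) with e | e
  · exact ⟨a, ha, rfl, e⟩
  · exact ⟨a * c, mul_mem ha (h.mem b), by rw [map_mul, h.map_c, mul_one],
      by rw [(h.cen a).mul_pow, e, h.c_cube, h.sq]⟩

theorem conj_mem (h : CF n c A π bl) {b : β} {g a : H} (ha : a ∈ A b) {p : α} (hp : bl p = b)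
    (e : bl (π g p) = b) : g * a * g⁻¹ ∈ A b := e ▸ h.norm g p (hp ▸ ha)

theorem comm3 (h : CF n c A π bl) {b : β} {g a : H} (ha : a ∈ A b) (h3 : a ^ 3 = 1)
    (e : Commute (π g) (π a)) : Commute g a := by
  by_cases h0 : π a = 1
  · rcases h.kerA ha h0 with rfl | rfl
    exacts [.one_right _, h.cen g]
  obtain ⟨p, hp⟩ : ∃ p, π a p ≠ p := by
    by_contra! h1
    exact h0 (Equiv.ext h1)
  have h1 := h.conj_mem (g := g) ha (h.bl_eq ha hp) (h.bl_eq ha fun e1 => hp ((π g).injective (by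
    rw [← Perm.mul_apply, e.eq, Perm.mul_apply, e1])))
  rcases h.eq_or h1 ha (by rw [map_mul, map_mul, map_inv, e.eq, mul_inv_cancel_right]) with e1 | e1
  · exact mul_inv_eq_iff_eq_mul.1 e1
  · have := congrArg (· ^ 3) e1
    simp only [conj_pow, (h.cen a).mul_pow, h3, mul_one, mul_inv_cancel, one_mul, h.c_cube] at this
    exact absurd this.symm h.ne

theorem comm_disj (h : CF n c A π bl) {b : β} {g a : H} (ha : a ∈ A b)
    (hd : Perm.Disjoint (π a) (π g)) : Commute a g := by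
  by_cases h0 : π a = 1
  · rcases h.kerA ha h0 with rfl | rfl
    exacts [.one_left _, (h.cen g).symm]
  obtain ⟨p, hp⟩ : ∃ p, π a p ≠ p := by
    by_contra! h1
    exact h0 (Equiv.ext h1)
  have hb : π a (π a p) ≠ π a p := fun e => hp ((π a).injective e)
  obtain ⟨k, hk, h1⟩ : π a ∈ (A b ⊓ centralizer {g}).map π :=
    Alt_le (Δ := (π a).support) p (π a p) (fun i hi h1 h2 => by
      rw [Perm.mem_support] at hi
      obtain ⟨y, h3, h4, h5⟩ := h.lift3 (b := b) (c3_cube hp.symm h1 h2) fun q hq =>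
        c3_apply_of_ne (fun e => hq (e ▸ h.bl_eq ha hp)) (fun e => hq (e ▸ h.bl_eq ha hb))
          fun e => hq (e ▸ h.bl_eq ha hi)
      refine ⟨y, ⟨h3, mem_centralizer_singleton_iff.2 (h.comm3 h3 h5 ?_).symm.eq⟩, h4⟩
      refine Perm.Disjoint.commute fun q => ?_
      by_cases h6 : π g q = q
      · exact .inl h6
      have h7 := (hd q).resolve_right h6
      rw [h4]
      exact .inr (c3_apply_of_ne (fun e => hp (e ▸ h7)) (fun e => hb (e ▸ h7))
        fun e => hi (e ▸ h7))) (mem_Alt_support (h.even ha))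
  have h2 : Commute k g := mem_centralizer_singleton_iff.1 hk.2
  rcases h.eq_or ha hk.1 h1.symm with e | e <;> rw [e]
  · exact h2
  · exact h2.mul_left (h.cen g).symm

theorem exists_dt (h : CF n c A π bl) {b : β} {p₁ p₂ p₃ p₄ : α} (hn : [p₁, p₂, p₃, p₄].Nodup)
    (hb : ∀ p ∈ [p₁, p₂, p₃, p₄], bl p = b) :
    ∃ v ∈ A b, π v = swap p₁ p₂ * swap p₃ p₄ ∧ v * v = c := by
  have hn' := hn
  simp only [List.nodup_cons, List.mem_cons, List.not_mem_nil, or_false, not_or, forall_eq_or_imp,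
    forall_eq] at hn' hb
  obtain ⟨v, hA, hv⟩ := h.surj b (swap p₁ p₂ * swap p₃ p₄) (by simp [hn'.1.1, hn'.2.2.1]) fun p hp => by
    simp only [Perm.mul_apply, swap_apply_def]
    grind
  exact ⟨v, hA, hv, h.dt hA hn hv⟩

theorem exists_two (h : CF n c A π bl) {t : H} (t2 : t * t = 1) {b : β} {x y : α}
    (hn : [x, π t x, y, π t y].Nodup) (hb : ∀ p ∈ [x, π t x, y, π t y], bl p = b) :
    ∃ v ∈ A b, π v = swap x (π t x) * swap y (π t y) ∧ Commute v t := by
  obtain ⟨v, hA, hv, -⟩ := h.exists_dt hn hb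
  refine ⟨v, hA, hv, ?_⟩
  simp only [List.nodup_cons, List.mem_cons, List.not_mem_nil, or_false, not_or] at hn
  have : Commute v (v⁻¹ * t) := h.comm_disj hA (by
    rw [map_mul, map_inv, hv, mul_inv_rev, swap_inv, swap_inv]
    intro p
    have := app2 (π := π) t2 x
    have := app2 (π := π) t2 y
    simp only [Perm.mul_apply, swap_apply_def]
    grind)
  simpa using (Commute.refl v).mul_right this

theorem sq_four (h : CF n c A π bl) {b : β} {u : H} (hu : u ∈ A b) {p₁ p₂ p₃ p₄ p₅ p₆ p₇ p₈ : α}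
    (hn : [p₁, p₂, p₃, p₄, p₅, p₆, p₇, p₈].Nodup)
    (e : π u = swap p₁ p₂ * swap p₃ p₄ * (swap p₅ p₆ * swap p₇ p₈)) : u * u = 1 := by
  simp only [List.nodup_cons, List.mem_cons, List.not_mem_nil, or_false, not_or] at hn
  have k : ∀ p ∈ [p₁, p₂, p₃, p₄, p₅, p₆, p₇, p₈], bl p = b := fun p hp => h.bl_eq hu (by
    rw [e]
    simp only [List.mem_cons, List.not_mem_nil, or_false] at hp
    simp only [Perm.mul_apply, swap_apply_def]
    grind)
  obtain ⟨v, hv, v1, v2⟩ := h.exists_dt (b := b) (p₁ := p₁) (p₂ := p₂) (p₃ := p₃) (p₄ := p₄)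
    (by simp; grind) fun p hp => k p (by grind)
  obtain ⟨w, hw, w1, w2⟩ := h.exists_dt (b := b) (p₁ := p₅) (p₂ := p₆) (p₃ := p₇) (p₄ := p₈)
    (by simp; grind) fun p hp => k p (by grind)
  have vw : Commute v w := h.comm_disj hv (by
    rw [v1, w1]
    refine H84.dt_disjoint ?_ ?_ ?_ ?_ <;> simp only [Perm.mul_apply, swap_apply_def] <;> grind)
  have h1 : v * w * (v * w) = 1 := by rw [vw.symm.mul_mul_mul_comm, v2, w2, h.sq]
  rcases h.eq_or hu (mul_mem hv hw) (by rw [e, map_mul, v1, w1]) with rfl | rfl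
  · exact h1
  · rw [(h.cen _).symm.mul_mul_mul_comm, h1, h.sq, one_mul]

theorem fix_of_norm (h : CF n c A π bl) {g : H} {b : β} (hn : ∀ a ∈ A b, g * a * g⁻¹ ∈ A b) {p : α}
    (hp : bl p = b) : bl (π g p) = b := by
  obtain ⟨x, x1, x2⟩ := h.exists_pt b [p] (by simp)
  obtain ⟨y, y1, y2⟩ := h.exists_pt b [p, x] (by simp)
  simp only [List.mem_cons, List.not_mem_nil, or_false, not_or] at x2 y2
  obtain ⟨a, ha, e1⟩ := h.exists_c3 (Ne.symm x2) y2.1 hp x1 y1
  refine h.bl_eq (hn a ha) fun e => x2 ((π g).injective ?_)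
  simpa [e1, c3_first (Ne.symm x2) y2.2] using e

theorem dc (h : CF n c A π bl) (h1 : ∀ p p', bl p = bl p') (b : β) :
    AN.DC (π.comp (A b).subtype) ⟨c, h.mem b⟩ := by
  obtain ⟨p, hp, -⟩ := h.exists_pt b [] (by simp)
  refine ⟨⟨⟨fun g => h.even g.2, fun σ hσ => ?_, fun g hg => mem_center_iff.2 fun k =>
    Subtype.ext ?_⟩, fun g hg => Subtype.ext ?_⟩,
    fun e => h.ne (congrArg Subtype.val e), fun g => ⟨fun hg => (h.kerA g.2 hg).imp Subtype.ext
      Subtype.ext, ?_⟩, fun u a b c d h1 h2 => Subtype.ext ?_⟩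
  · obtain ⟨a, ha, e⟩ := h.surj b σ hσ fun q hq => (hq ((h1 q p).trans hp)).elim
    exact ⟨⟨a, ha⟩, e⟩
  · rcases h.kerA g.2 hg with e | e <;> simp [e, (h.cen k).eq]
  · rcases h.kerA g.2 hg with e | e <;> simp [e, pow_two, h.sq]
  · rintro (rfl | rfl)
    exacts [map_one _, h.map_c]
  · rw [coe_pow, pow_two]
    exact h.dt u.2 h1 h2

theorem exists_c (h : CF n c A π bl) (h1 : ∀ p p', bl p = bl p') {b : β} {t : H} (ht : t ∈ A b)
    (t2 : t * t = 1) (t1 : π t ≠ 1) :
    ∃ a ∈ A b, a * a = c ∧ a * t * a⁻¹ = t * c ∧ ∀ p, π a p ≠ p → π t p ≠ p := by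
  obtain ⟨x, y, v, w, u, r, e1, e2, e0, e3, e4, e5, e6, -⟩ := (h.dc h1 b).exists_dt (x := ⟨t, ht⟩)
    (Subtype.ext (by simp [pow_two, t2])) (fun e => t1 (by rw [show t = 1 from congrArg Subtype.val e, map_one]))
    (fun e => t1 (by rw [show t = c from congrArg Subtype.val e, h.map_c]))
  obtain ⟨u, uA⟩ := u
  obtain ⟨r, rA⟩ := r
  replace e0 : t = u * r := congrArg Subtype.val e0
  change π u = _ at e2
  change π r _ = _ at e3 e4 e5 e6
  have e7 := e1
  simp only [List.nodup_cons, List.mem_cons, List.not_mem_nil, or_false, not_or] at e7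
  obtain ⟨p, hp, -⟩ := h.exists_pt b [] (by simp)
  obtain ⟨k, kA, hk, h2⟩ := h.exists_dt (b := b) (p₁ := x) (p₂ := v) (p₃ := y) (p₄ := w)
    (by simp; grind) fun q _ => (h1 q p).trans hp
  have hc : Commute k r := h.comm_disj kA (by rw [hk]; exact H84.dt_disjoint e3 e5 e4 e6)
  have h3 := h.dt uA e1 e2
  have h4 := h.dt (mul_mem kA uA) (p₁ := x) (p₂ := w) (p₃ := y) (p₄ := v) (by simp; grind) (by
    rw [map_mul, hk, e2]
    ext p; simp only [Perm.mul_apply, swap_apply_def]; grind)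
  refine ⟨k, kA, h2, ?_, fun q hq => ?_⟩
  · have h5 : k * u * k⁻¹ = u * c := by
      have a1 : k⁻¹ = k * c := by rw [inv_eq_iff_mul_eq_one, ← mul_assoc, h2, h.sq]
      have a2 : k * u * k * u = c := by rw [← h4]; group
      have a3 : u⁻¹ = u * c := by rw [inv_eq_iff_mul_eq_one, ← mul_assoc, h3, h.sq]
      rw [a1, ← mul_assoc, eq_mul_inv_of_mul_eq a2, ← (h.cen _).eq, mul_assoc, h.sq, mul_one, a3]
    calc k * t * k⁻¹ = k * u * k⁻¹ * (k * r * k⁻¹) := by rw [e0]; group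
      _ = t * c := by
        rw [h5, hc.eq, mul_inv_cancel_right, mul_assoc, ← (h.cen r).eq, e0, mul_assoc]
  · have : q = x ∨ q = y ∨ q = v ∨ q = w := by
      rw [hk] at hq
      simp only [Perm.mul_apply, swap_apply_def] at hq
      grind
    rw [e0, map_mul, e2]
    rcases this with rfl | rfl | rfl | rfl <;>
      simp only [Perm.mul_apply, e3, e4, e5, e6, swap_apply_def] <;> grind

end CF

set_option linter.unusedSectionVars false in
theorem odd_fix {σ : Perm α} (ho : Odd (orderOf σ)) {p : α} (e : σ (σ p) = p) : σ p = p := by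
  obtain ⟨k, hk⟩ := ho
  have h1 : (σ ^ (2 * k)) p = p := by
    rw [pow_mul]
    exact Perm.pow_apply_eq_self_of_apply_eq_self (by simpa [sq] using e) k
  rw [← h1, ← Perm.mul_apply, ← pow_succ', ← hk, pow_orderOf_eq_one, Perm.one_apply, h1]

end Cfsg.Agent.SOL
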