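import Cfsg.Agent.SOL.KL0
import Cfsg.Agent.S1169

/-! Case A (project SOL, notes/SOL.md section CaseA). -/

set_option autoImplicit false

namespace Cfsg.Agent.SOL

open Equiv Subgroup H44 H59 K1
open scoped commutatorElement

universe u

variable {G : Type u} [Group G]

/-- the conjugates of `z` in `S` -/
def ZS (z : G) (S : Subgroup G) : Set G := {s | IsConj z s ∧ s ∈ S}

/-- the weak closure of `z` in `S` -/
def Wc (z : G) (S : Subgroup G) : Subgroup G := closure (ZS z S)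

theorem Wc_le (z : G) (S : Subgroup G) : Wc z S ≤ S := (closure_le _).2 fun _ h => h.2

theorem isConj_cj {z s : G} (h : IsConj z s) (g : G) : IsConj z (g * s * g⁻¹) :=
  h.trans (isConj_iff.2 ⟨g, rfl⟩)

theorem Wc_ind {z d : G} {S P : Subgroup G} (h : ∀ s ∈ ZS z S, d * s * d⁻¹ ∈ P) {y : G} (hy : y ∈ Wc z S) :
    d * y * d⁻¹ ∈ P := (closure_le (P.comap (MulAut.conj d).toMonoidHom)).2 h hy

/-- the setting of case A -/
structure CA (n : ℕ) (z : G) (K : Subgroup G) : Prop where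
  cx : Cx n z K
  iso : ∀ {t}, IsConj z t → t ∈ K → t = z

variable [Finite G] [IsSimpleGroup G] {n : ℕ} {z : G} {K : Subgroup G}

namespace CA

omit [IsSimpleGroup G] in
theorem view (h : CA n z K) {s : G} (hs : IsConj z s) : ∃ J, CA n s J := by
  obtain ⟨g, rfl⟩ := isConj_iff.1 hs
  refine ⟨_, h.cx.conj g, fun {t} ht hK => ?_⟩
  have := h.iso (t := g⁻¹ * t * g) (by simpa using isConj_cj (hs.trans ht) g⁻¹) (mem_cj.1 hK)
  rw [← this]; group

omit [Finite G] [IsSimpleGroup G] in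
theorem ord (h : CA n z K) {s : G} (hs : IsConj z s) : orderOf s = 2 := by
  obtain ⟨g, rfl⟩ := isConj_iff.1 hs
  exact oc h.cx.blk.ord g

theorem dc (h : CA n z K) {t : G} (ht : IsConj z t) (c : t ∈ C1 z) : t ∈ Dc 2 (C1 z) K := by
  by_cases e : t = z
  · rw [e]; exact self_mem_Dc h.cx.blk.le
  obtain ⟨g, rfl⟩ := isConj_iff.1 ht
  exact (dich1 h.cx c fun a => e (h.iso ht a)).1

theorem a1x (h : CA n z K) {w : G} (w2 : orderOf w = 2) (ne : w ≠ z) (hw : w ∈ Dc 2 (C1 z) K) :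
    ∃ X, PComp 2 (C1 w) X ∧ z ∈ X ∧ z ∈ Dc 2 (C1 w) X ∧ ∀ t, IsConj z t → t ∈ X → t ∈ C1 z → t = z := by
  obtain ⟨h1, h2, h3, X, h4, -⟩ := pump1 h.cx.rel h.cx.blk h.cx.pc w2 ne hw
    (C1_ne_top h.cx.blk.pqs (ne_one_of_ord w2))
  refine ⟨X, h4.pc, h4.le h2.mem, (h4.dich h3 h2).resolve_right fun ⟨g, _, a, b⟩ =>
    b (h.iso (isConj_iff.2 ⟨g, rfl⟩) (h1.le a)), fun t ht hX hc => h.iso ht (h1.le (h4.mem h3 hX hc (k := 1) ?_))⟩
  rw [pow_one, sq, sq_of_ord (h.ord ht)]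

theorem a1 (h : CA n z K) {w : G} (w2 : orderOf w = 2) (ne : w ≠ z) (hw : w ∈ Dc 2 (C1 z) K) :
    z ∈ Lof 2 (C1 w) ∧ ∀ a ∈ Lof 2 (C1 w), ⁅z, a⁆ ∈ Oppof 2 (C1 w) := by
  obtain ⟨X, h1, h2, h3, -⟩ := h.a1x w2 ne hw
  refine ⟨h1.le_Lof h2, fun a ha => csymm (commutator_Lof_le (U := zpowers z) (le_normalizer_pPrimeCoreOf _)
    (fun I hI => ?_) (commutator_mem_commutator ha (mem_zpowers z)))⟩
  rw [Subgroup.commutator_comm]
  refine (le_Dc.1 (zpowers_le.2 ?_)).2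
  by_cases e : X = I
  · exact e ▸ h3
  · exact le_Dc_of_ne hI h1 e h2

theorem a2 (h : CA n z K) {s t : G} (hs : IsConj z s) (ht : IsConj z t) {k : ℕ} (e : (s * t) ^ 2 ^ k = 1) :
    (s * t) ^ 2 = 1 := by
  have s2 := sq_of_ord (h.ord hs)
  have t2 := sq_of_ord (h.ord ht)
  induction k with
  | zero => rw [pow_zero, pow_one] at e; rw [e, one_pow]
  | succ k ih =>
    cases k with
    | zero => simpa using e
    | succ k =>
      by_cases u1 : (s * t) ^ 2 ^ (k + 1) = 1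
      · exact ih u1
      have uu : (s * t) ^ 2 ^ (k + 1) * (s * t) ^ 2 ^ (k + 1) = 1 := by rw [← sq, ← pow_mul, ← pow_succ, e]
      have key : ∀ {r}, IsConj z r → (∀ m : ℕ, r * (s * t) ^ m * r⁻¹ = ((s * t) ^ m)⁻¹) →
          r ∈ Lof 2 (C1 ((s * t) ^ 2 ^ (k + 1))) ∧
            ∀ a ∈ Lof 2 (C1 ((s * t) ^ 2 ^ (k + 1))), ⁅r, a⁆ ∈ Oppof 2 (C1 ((s * t) ^ 2 ^ (k + 1))) := by
        intro r hr e1
        obtain ⟨J, hJ⟩ := h.view hr
        have e2 := H42.conj_eq_sq_mul (e1 (2 ^ k))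
        rw [← pow_mul, ← pow_succ] at e2
        have e3 : IsConj r ((s * t) ^ 2 ^ (k + 1) * r) := isConj_iff.2 ⟨_, e2⟩
        have e4 : (s * t) ^ 2 ^ (k + 1) ∈ C1 r :=
          mem_C1_comm.1 (C_of_cj ((e1 _).trans (inv_eq uu)))
        refine hJ.a1 (ord2 uu u1) (fun e5 => ?_) ((mul_mem_cancel_right (self_mem_Dc hJ.cx.blk.le)).1
          (hJ.dc e3 (mul_mem e4 (self_mem_C1 r))))
        rw [e5, sq_of_ord hJ.cx.blk.ord] at e3
        exact ne_one_of_ord (hJ.ord e3) rfl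
      have h1 := (key hs (H42.conj_mul_pow s2 t2)).2 t (key ht (H42.conj_mul_pow' s2 t2)).1
      rw [← sqc s2 t2] at h1
      exact eq_one_of_odd (odd_of_mem h1) (k := k + 1) (by rw [← pow_mul, ← pow_succ', e])

theorem comm (h : CA n z K) {S : Subgroup G} (hS : IsPGroup 2 S) {s t : G} (hs : s ∈ ZS z S) (ht : t ∈ ZS z S) :
    s ∈ C1 t := by
  obtain ⟨k, hk⟩ := hS ⟨s * t, mul_mem hs.2 ht.2⟩
  have := h.a2 hs.1 ht.1 (congrArg Subtype.val hk)
  rw [sqc (sq_of_ord (h.ord hs.1)) (sq_of_ord (h.ord ht.1))] at this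
  exact mem_C1.2 (commutatorElement_eq_one_iff_mul_comm.1 this)

theorem a2' (h : CA n z K) {s t : G} (hs : IsConj z s) (ht : IsConj z t) : Odd (orderOf ((s * t) ^ 2)) := by
  obtain ⟨k, m, hm, e⟩ := Nat.exists_eq_two_pow_mul_odd (orderOf_pos (s * t)).ne'
  obtain ⟨o, -, h1⟩ := dih (sq_of_ord (h.ord hs)) (sq_of_ord (h.ord ht)) hm
  have h2 := h.a2 (isConj_cj hs o) ht (k := k) (by
    rw [h1, ← pow_mul, show m * m * 2 ^ k = 2 ^ k * m * m by ring, ← e, pow_mul, pow_orderOf_eq_one, one_pow])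
  rw [h1, ← pow_mul, mul_comm, pow_mul] at h2
  exact (hm.mul hm).of_dvd_nat (orderOf_dvd_of_pow_eq_one h2)

theorem W_comm (h : CA n z K) {S : Subgroup G} (hS : IsPGroup 2 S) {x y : G} (hx : x ∈ Wc z S)
    (hy : y ∈ Wc z S) : x ∈ C1 y :=
  (closure_le _).2 (fun _ ht => mem_C1_comm.1 ((closure_le _).2 (fun _ hs => h.comm hS hs ht) hy)) hx

theorem W_sq (h : CA n z K) {S : Subgroup G} (hS : IsPGroup 2 S) {y : G} (hy : y ∈ Wc z S) : y * y = 1 := by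
  induction hy using closure_induction with
  | mem s hs => exact sq_of_ord (h.ord hs.1)
  | one => exact one_mul 1
  | mul a b ha hb a2 b2 =>
    rw [mul_assoc, ← mul_assoc b, ← mem_C1.1 (h.W_comm hS ha hb), mul_assoc, b2, mul_one, a2]
  | inv a _ a2 => rw [← mul_inv_rev, a2, inv_one]

theorem step1 (h : CA n z K) {S S' : Subgroup G} (hS : IsPGroup 2 S) (hS' : IsPGroup 2 S') {y s : G}
    (hy : y ∈ Wc z S') (yS : y ∈ S) (hs : s ∈ ZS z S) : s ∈ C1 y := by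
  by_cases y1 : y = 1
  · rw [y1]; exact mem_C1.2 (by rw [mul_one, one_mul])
  by_cases yZ : IsConj z y
  · exact h.comm hS hs ⟨yZ, yS⟩
  by_contra c
  have yy := h.W_sq hS' hy
  have y2 := ord2 yy y1
  have s2 := sq_of_ord (h.ord hs.1)
  obtain ⟨J, hJ⟩ := h.view hs.1
  have hs' : y * s * y⁻¹ ∈ ZS z S := ⟨isConj_cj hs.1 y, mul_mem (mul_mem yS hs.2) (inv_mem yS)⟩
  have ne : y * s * y⁻¹ ≠ s := fun e => c (mem_C1_comm.1 (C_of_cj e))
  have cs := h.comm hS hs' hs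
  have eu : (s * y) ^ 2 = s * (y * s * y⁻¹) := by rw [sq, inv_eq yy]; group
  obtain ⟨u, hu⟩ : ∃ u, u = s * (y * s * y⁻¹) := ⟨_, rfl⟩
  have uu : u * u = 1 := by
    rw [hu, mul_assoc, ← mul_assoc (y * s * y⁻¹), mem_C1.1 cs, mul_assoc, H42.conj_mul_self s2, mul_one, s2]
  have u2 : orderOf u = 2 := ord2 uu fun e => ne (by
    rw [hu] at e
    rw [eq_inv_of_mul_eq_one_right e, inv_eq s2])
  have us : u ≠ s := fun e => ne_one_of_ord (h.ord hs'.1) (by rwa [hu, mul_eq_left] at e)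
  have uD : u ∈ Dc 2 (C1 s) J :=
    hu ▸ mul_mem (self_mem_Dc hJ.cx.blk.le) (hJ.dc (isConj_iff.2 ⟨y, rfl⟩) cs)
  have yu : y ∈ C1 u := C_of_cj (by
    calc y * u * y⁻¹ = y * s * y⁻¹ * (y * y * s * (y * y)⁻¹) := by rw [hu]; group
      _ = u := by rw [yy, hu, ← mem_C1.1 cs]; group)
  obtain ⟨X, h1, h2, -, h3⟩ := hJ.a1x u2 us uD
  have uL : u ∈ Lof 2 (C1 y) := by
    have := diag_mem uu h1 yu y2 (fun e => ne (h3 _ (isConj_iff.2 ⟨y, rfl⟩)
      (H42.conj_mem_of_mem_normalizer e h2) cs)) h2 s2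
      (by rw [show 4 = 2 * 2 from rfl, pow_mul, eu, ← hu, sq, uu])
    rwa [eu, ← hu] at this
  have h4 : Wc z S' ≤ Dc 2 (C1 y) (zpowers u) := (closure_le _).2 fun t ht => by
    obtain ⟨I, hI⟩ := h.view ht.1
    refine (mem_Dz uu).2 ⟨h.W_comm hS' (subset_closure ht) hy, (hI.a1 y2 (fun e => yZ (e ▸ ht.1)) ?_).2 u uL⟩
    exact (closure_le _).2 (fun r hr => hI.dc (ht.1.symm.trans hr.1) (h.comm hS' hr ht)) hy
  obtain ⟨P, hP, h5⟩ := H42.exists_sylIn (STD.isPGroup_zpowers (k := 1) (by rw [pow_one, sq, uu]))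
    (zpowers_le.2 ((mem_Dz uu).2 ⟨mem_C1_comm.1 yu, by rw [commutatorElement_self]; exact one_mem _⟩))
  have h6 : P ≤ C1 u := fun p hp => by
    have hu' := h5 (mem_zpowers u)
    obtain ⟨k, hk⟩ := hP.isP ⟨⁅p, u⁆, mul_mem (mul_mem (mul_mem hp hu') (inv_mem hp)) (inv_mem hu')⟩
    exact mem_C1.2 (commutatorElement_eq_one_iff_mul_comm.1
      (eq_one_of_odd (odd_of_mem ((mem_Dz uu).1 (hP.le hp)).2) (congrArg Subtype.val hk)))
  obtain ⟨d, hd, h7⟩ := hP.exists_conj (hS'.to_le (Wc_le _ _)) h4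
  obtain ⟨h8, h9⟩ := hJ.a1 u2 us uD
  have h10 := Wc_ind (d := d) (P := Dc 2 (C1 u) (zpowers s)) (fun t ht => ?_) hy
  · rw [cj_C (Dc_le _ _ hd), mem_Dz s2] at h10
    have h11 := odd_of_mem (csymm h10.2)
    rw [← sqc s2 yy, eu, ← hu, u2] at h11
    exact absurd h11 (by decide)
  · have h11 := h6 (h7 t (subset_closure ht))
    have h12 := isConj_cj ht.1 d
    generalize d * t * d⁻¹ = r at h11 h12
    have r2 := sq_of_ord (h.ord h12)
    have h13 := h9 _ (H42.conj_mem_of_mem_normalizer (le_normalizer_Lof _ h11) h8)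
    rw [← sqc s2 (H42.conj_mul_self s2 r)] at h13
    have h14 := h.a2' hs.1 h12
    rw [show (s * r) ^ 2 = s * (r * s * r⁻¹) by rw [sq, inv_eq r2]; group] at h14
    have h15 := mem_of_pow_mem_of_coprime h13 h14.coprime_two_right
    refine (mem_Dz s2).2 ⟨h11, csymm ?_⟩
    rwa [commutatorElement_def, inv_eq s2, mul_assoc s, mul_assoc s]

theorem step2 (h : CA n z K) {S S' : Subgroup G} (hS : H42.SylIn 2 S ⊤) (hS' : IsPGroup 2 S') {y : G}
    (hy : y ∈ Wc z S') (yS : y ∈ S) : y ∈ Wc z S := by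
  obtain ⟨P, hP, h1⟩ := H42.exists_sylIn (hS.isP.to_le (Wc_le z S))
    ((closure_le (C1 y)).2 fun s hs => h.step1 hS.isP hS' hy yS hs)
  obtain ⟨d, hd, h2⟩ := hP.exists_conj (hS'.to_le (Wc_le z S')) fun x hx => h.W_comm hS' hx hy
  obtain ⟨e, -, h3⟩ := hS.exists_conj hP.isP le_top
  have h4 : ZS z S = ZS z P := Set.eq_of_subset_of_ncard_le (fun s hs => ⟨hs.1, h1 (subset_closure hs)⟩)
    (Set.ncard_le_ncard_of_injOn (MulAut.conj e) (fun s hs => ⟨isConj_cj hs.1 e, h3 s hs.2⟩)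
      (MulAut.conj e).injective.injOn)
  rw [← cj_C hd]
  exact Wc_ind (fun t ht => subset_closure (h4 ▸ ⟨isConj_cj ht.1 d, h2 t (subset_closure ht)⟩)) hy

end CA

theorem Cx.caseA (h : Cx n z K) : ∃ g : G, g * z * g⁻¹ ∈ K ∧ g * z * g⁻¹ ≠ z := by
  by_contra c0
  have hA : CA n z K := ⟨h, fun ht hK => by
    obtain ⟨g, rfl⟩ := isConj_iff.1 ht
    by_contra e
    exact c0 ⟨g, hK, e⟩⟩
  have z2 := sq_of_ord h.blk.ord
  have z1 := ne_one_of_ord h.blk.ord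
  obtain ⟨t, tK, t2, t1, tz⟩ := h.blk.exists_inv
  obtain ⟨c, cK, c1, c2⟩ := h.blk.exists_c tK t2 t1 tz
  have c4 : c ^ 2 ^ 2 = 1 := by rw [show 2 ^ 2 = 2 * 2 from rfl, pow_mul, sq, sq, c1, z2]
  have hn : zpowers t ≤ normalizer (zpowers c : Set G) := zpowers_le.2 (H42.mem_normalizer_of_conj_mem fun a ha => by
    obtain ⟨k, rfl⟩ := mem_zpowers_iff.1 ha
    rw [← conj_zpow]
    refine zpow_mem ?_ k
    have : t * c * t⁻¹ = c * c * c := by
      calc _ = t * (c * t * c⁻¹) * c := by rw [inv_eq t2]; group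
        _ = _ := by rw [c2, ← mul_assoc, t2, one_mul, c1]
    rw [this]
    exact mul_mem (mul_mem (mem_zpowers c) (mem_zpowers c)) (mem_zpowers c))
  obtain ⟨S, hS⟩ := ((STD.isPGroup_zpowers c4).to_sup_of_normal_left'
    (STD.isPGroup_zpowers (k := 1) (by rw [pow_one, sq, t2])) hn).exists_le_sylow
  have cS : c ∈ (S : Subgroup G) := hS (mem_sup_left (mem_zpowers c))
  have tS : t ∈ (S : Subgroup G) := hS (mem_sup_right (mem_zpowers t))
  have zW : z ∈ Wc z S := Subgroup.subset_closure ⟨IsConj.refl z, c1 ▸ mul_mem cS cS⟩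
  rcases S1169.result S (Wc z S) (fun e => z1 (Subgroup.mem_bot.1 (e ▸ zW)))
    ⟨⟨fun x y => Subtype.ext (mem_C1.1 (hA.W_comm S.2 x.2 y.2))⟩⟩
    ⟨Wc_le _ _, fun x hx g hg => hA.step2 (H42.sylIn_top S) (S' := cj g S) (S.2.map _)
      (Wc_ind (P := Wc z (cj g S)) (fun s hs => Subgroup.subset_closure ⟨isConj_cj hs.1 g, conj_mem_cj hs.2⟩) hx) hg⟩ with e | ⟨H, hH⟩
  · have e1 : c * t = t * c := congrArg Subtype.val (e.1.1 ⟨c, cS⟩ ⟨t, tS⟩)
    rw [e1, mul_inv_cancel_right, left_eq_mul] at c2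
    exact z1 c2
  · obtain ⟨a, b, d⟩ := d8 z2 z1 c1 c2 t2 t1
    exact STD.not_se a b d hH

end Cfsg.Agent.SOL
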