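import Cfsg.Agent.SOL.CBase
import Cfsg.Agent.H44.SigApp
import Cfsg.Agent.S0205

/-! Case B: balance (project SOL, notes/SOL.md section Core1). -/

set_option autoImplicit false

namespace Cfsg.Agent.SOL

open Equiv Subgroup H44 H59
open scoped commutatorElement

universe u

namespace C1A

variable {α : Type} [DecidableEq α]

theorem via_swap {m : ℕ} (ι : Fin m ↪ α) (a b : Fin m) :
    Perm.viaEmbeddingHom ι (swap a b) = swap (ι a) (ι b) := by
  ext p
  rw [Perm.viaEmbeddingHom_apply]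
  by_cases h : p ∈ Set.range ι
  · obtain ⟨q, rfl⟩ := h
    simp [Perm.viaEmbedding_apply, ι.injective.swap_apply]
  · rw [Perm.viaEmbedding_apply_of_notMem _ _ _ h,
      swap_apply_of_ne_of_ne (fun e => h ⟨_, e.symm⟩) fun e => h ⟨_, e.symm⟩]

/-- the product of four transpositions -/
def s4 {β : Type} [DecidableEq β] (a b c d e f g h : β) : Perm β :=
  swap a b * swap c d * (swap e f * swap g h)

theorem via_s4 {m : ℕ} (ι : Fin m ↪ α) (a b c d e f g h : Fin m) :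
    Perm.viaEmbeddingHom ι (s4 a b c d e f g h) =
      swap (ι a) (ι b) * swap (ι c) (ι d) * (swap (ι e) (ι f) * swap (ι g) (ι h)) := by
  simp only [s4, map_mul, via_swap]

omit [DecidableEq α] in
theorem nodup_via {m : ℕ} (ι : Fin m ↪ α) {a b c d e f g h : Fin m}
    (hn : [a, b, c, d, e, f, g, h].Nodup) : [ι a, ι b, ι c, ι d, ι e, ι f, ι g, ι h].Nodup := by
  simpa only [List.map_cons, List.map_nil] using hn.map ι.injective

variable [Fintype α]

theorem sign_s4 {m : ℕ} (ι : Fin m ↪ α) {a b c d e f g h : Fin m} (h1 : a ≠ b) (h2 : c ≠ d)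
    (h3 : e ≠ f) (h4 : g ≠ h) : Perm.sign (Perm.viaEmbeddingHom ι (s4 a b c d e f g h)) = 1 := by
  rw [via_s4]
  simp only [map_mul, Perm.sign_swap (ι.injective.ne h1), Perm.sign_swap (ι.injective.ne h2),
    Perm.sign_swap (ι.injective.ne h3), Perm.sign_swap (ι.injective.ne h4)]
  decide

theorem not_four {σ : Perm α} (h : σ.supportᶜ.card ≤ 3) {a b c d : α} (hn : [a, b, c, d].Nodup)
    (ha : σ a = a) (hb : σ b = b) (hc : σ c = c) (hd : σ d = d) : False := by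
  have h1 : [a, b, c, d].toFinset ⊆ σ.supportᶜ := by
    intro x hx
    simp only [List.toFinset_cons, List.toFinset_nil, insert_empty_eq, Finset.mem_insert,
      Finset.mem_singleton] at hx
    rcases hx with rfl | rfl | rfl | rfl <;> simpa
  have h2 := Finset.card_le_card h1
  rw [List.toFinset_card_of_nodup hn] at h2
  simp at h2
  omega

omit [DecidableEq α] [Fintype α] in
theorem comm_app {σ τ : Perm α} (h : Commute σ τ) (p : α) : σ (τ p) = τ (σ p) := by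
  rw [← Perm.mul_apply, h.eq, Perm.mul_apply]

omit [DecidableEq α] [Fintype α] in
theorem sq_app {σ : Perm α} (h : σ * σ = 1) (p : α) : σ (σ p) = p := by
  rw [← Perm.mul_apply, h, Perm.one_apply]

theorem or_of_fix {a e e' : Perm α} (a2 : a * a = 1) (ae : Commute e a) (ee : Commute e e')
    (ae' : Commute a e') (he : e.supportᶜ.card ≤ 3) {p : α} (h1 : a p ≠ p) (h2 : e p = p) :
    e' p = p ∨ e' p = a p := by
  by_contra hc
  push Not at hc
  refine not_four he (a := p) (b := a p) (c := e' p) (d := a (e' p)) ?_ h2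
    (by rw [comm_app ae, h2]) (by rw [comm_app ee, h2]) (by rw [comm_app ae, comm_app ee, h2])
  have h3 : a (e' p) ≠ p := fun e1 => hc.2 (by rw [← sq_app a2 (e' p), e1])
  have h4 : a (e' p) ≠ a p := fun e1 => hc.1 (a.injective e1)
  have h5 : a (e' p) ≠ e' p := fun e1 => h1 (e'.injective (by rw [← comm_app ae', e1]))
  simp [h1.symm, hc.1.symm, hc.2.symm, h3.symm, h4.symm, h5.symm]

theorem fix_both {a e x : Perm α} (ae : Commute a e) (xa : Commute x a) (xe : Commute x e)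
    (hx : x.supportᶜ.card ≤ 3) {p f : α} (h1 : a p ≠ p) (h2 : e p = p) (h3 : e f ≠ f) (h4 : a f = f)
    (xp : x p = p) (xf : x f = f) : False := by
  refine not_four hx (a := p) (b := a p) (c := f) (d := e f) ?_ xp (by rw [comm_app xa, xp]) xf
    (by rw [comm_app xe, xf])
  have h5 : p ≠ f := fun e1 => h1 (by rw [e1, h4])
  have h6 : p ≠ e f := fun e1 => h3 (e.injective (by rw [← e1, h2]))
  have h7 : a p ≠ f := fun e1 => h5 (a.injective (by rw [e1, h4]))
  have h8 : a p ≠ e f := fun e1 => h6 (a.injective (by rw [e1, comm_app ae, h4]))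
  simp [h1.symm, h5, h6, h7, h8, h3.symm]

theorem same_supp {a e e' : Perm α} (a2 : a * a = 1) (e2 : e * e = 1) (ae : Commute a e)
    (ee : Commute e e') (ae' : Commute a e') (ha : a.supportᶜ.card ≤ 3) (he : e.supportᶜ.card ≤ 3)
    (hc : a.support.card = e.support.card) (h0 : e'.supportᶜ.card ≤ 3)
    (h1 : (e' * a).supportᶜ.card ≤ 3) (h2 : (e' * e).supportᶜ.card ≤ 3)
    (h3 : (e' * (a * e)).supportᶜ.card ≤ 3) {f : α} (hf : a f = f) : e f = f := by
  by_contra hf'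
  obtain ⟨p, p1, p2⟩ : ∃ p, a p ≠ p ∧ e p = p := by
    by_contra hn
    push Not at hn
    have h4 : a.support = e.support := Finset.eq_of_subset_of_card_le
      (fun p hp => Perm.mem_support.2 (hn p (Perm.mem_support.1 hp))) hc.ge
    exact (Perm.mem_support.1 (h4 ▸ Perm.mem_support.2 hf')) hf
  have ra := Commute.refl a
  have re := Commute.refl e
  rcases or_of_fix a2 ae.symm ee ae' he p1 p2 with q1 | q1 <;>
    rcases or_of_fix e2 ae ae' ee ha hf' hf with q2 | q2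
  · exact fix_both ae ae'.symm ee.symm h0 p1 p2 hf' hf q1 q2
  · exact fix_both ae (ae'.symm.mul_left ae.symm) (ee.symm.mul_left re) h2 p1 p2 hf' hf
      (by rw [Perm.mul_apply, p2, q1]) (by rw [Perm.mul_apply, ← comm_app ee, q2, sq_app e2])
  · exact fix_both ae (ae'.symm.mul_left ra) (ee.symm.mul_left ae) h1 p1 p2 hf' hf
      (by rw [Perm.mul_apply, ← comm_app ae', q1, sq_app a2]) (by rw [Perm.mul_apply, hf, q2])
  · exact fix_both ae (ae'.symm.mul_left (ra.mul_left ae.symm)) (ee.symm.mul_left (ae.mul_left re))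
      h3 p1 p2 hf' hf
      (by rw [Perm.mul_apply, Perm.mul_apply, p2, ← comm_app ae', q1, sq_app a2])
      (by rw [Perm.mul_apply, Perm.mul_apply, comm_app ae, hf, ← comm_app ee, q2, sq_app e2])

theorem exists_new {τ : Perm α} (t2 : τ * τ = 1) (l : List α) (hl : l.length < τ.support.card)
    (hc : ∀ x ∈ l, τ x ∈ l) : ∃ b, τ b ≠ b ∧ b ∉ l ∧ τ b ∉ l := by
  obtain ⟨b, b1, b2⟩ := Finset.exists_mem_notMem_of_card_lt_card
    ((List.toFinset_card_le l).trans_lt hl)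
  rw [List.mem_toFinset] at b2
  exact ⟨b, Perm.mem_support.1 b1, b2, fun h => b2 (sq_app t2 b ▸ hc _ h)⟩

/-- labelling an involution with eight moved points and two fixed points -/
theorem exists_label {τ : Perm α} (t2 : τ * τ = 1) (h8 : τ.support.card = 8) {f g : α}
    (hf : τ f = f) (hg : τ g = g) (fg : f ≠ g) : ∃ ι : Fin 10 ↪ α, ι 8 = f ∧ ι 9 = g ∧
      τ = Perm.viaEmbeddingHom ι (s4 0 1 2 3 4 5 6 7) := by
  have s := sq_app t2
  obtain ⟨a, a1, -, -⟩ := exists_new t2 [] (by simp [h8]) (by simp)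
  obtain ⟨b, b1, b2, b3⟩ := exists_new t2 [a, τ a] (by simp [h8]) (by simp [s])
  obtain ⟨c, c1, c2, c3⟩ := exists_new t2 [a, τ a, b, τ b] (by simp [h8]) (by simp [s])
  obtain ⟨d, d1, d2, d3⟩ := exists_new t2 [a, τ a, b, τ b, c, τ c] (by simp [h8]) (by simp [s])
  have mv : ∀ x y, τ x = x → τ y ≠ y → y ≠ x ∧ τ y ≠ x := fun x y hx hy =>
    ⟨fun e => hy (by rw [e, hx]), fun e => hy (by
      have e1 : y = x := by rw [← s y, e, hx]
      rw [e1, hx])⟩
  have hn8 : [a, τ a, b, τ b, c, τ c, d, τ d].Nodup := by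
    simp only [List.mem_cons, List.not_mem_nil, or_false, not_or] at b2 b3 c2 c3 d2 d3
    simp only [List.nodup_cons, List.mem_cons, List.not_mem_nil, or_false, not_or, List.nodup_nil,
      and_true, not_false_eq_true]
    refine ⟨⟨a1.symm, ?_⟩, ?_, ⟨b1.symm, ?_⟩, ?_, ⟨c1.symm, ?_⟩, ?_, d1.symm⟩ <;>
      simp only [← ne_eq] at * <;> tauto
  have hn : [a, τ a, b, τ b, c, τ c, d, τ d, f, g].Nodup := by
    have := (List.nodup_append (l₁ := [a, τ a, b, τ b, c, τ c, d, τ d]) (l₂ := [f, g])).2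
      ⟨hn8, by simpa using fg, fun x hx y hy => ?_⟩
    · simpa using this
    · have hy' : τ y = y := by
        simp only [List.mem_cons, List.not_mem_nil, or_false] at hy
        rcases hy with rfl | rfl <;> assumption
      simp only [List.mem_cons, List.not_mem_nil, or_false] at hx
      rcases hx with rfl | rfl | rfl | rfl | rfl | rfl | rfl | rfl
      exacts [(mv y _ hy' a1).1, (mv y _ hy' a1).2, (mv y _ hy' b1).1, (mv y _ hy' b1).2,
        (mv y _ hy' c1).1, (mv y _ hy' c1).2, (mv y _ hy' d1).1, (mv y _ hy' d1).2]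
  let ι : Fin 10 ↪ α := ⟨[a, τ a, b, τ b, c, τ c, d, τ d, f, g].get, List.nodup_iff_injective_get.1 hn⟩
  refine ⟨ι, rfl, rfl, ?_⟩
  have hs : τ.support = [a, τ a, b, τ b, c, τ c, d, τ d].toFinset := by
    refine (Finset.eq_of_subset_of_card_le (fun x hx => ?_)
      (by rw [List.toFinset_card_of_nodup hn8, h8]; rfl)).symm
    simp only [List.toFinset_cons, List.toFinset_nil, insert_empty_eq, Finset.mem_insert,
      Finset.mem_singleton] at hx
    rcases hx with rfl | rfl | rfl | rfl | rfl | rfl | rfl | rfl <;>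
      simp only [Perm.mem_support, ne_eq, EmbeddingLike.apply_eq_iff_eq] <;> assumption
  ext p
  rw [Perm.viaEmbeddingHom_apply]
  by_cases h : p ∈ Set.range ι
  · obtain ⟨i, rfl⟩ := h
    rw [Perm.viaEmbedding_apply]
    fin_cases i
    exacts [rfl, s a, rfl, s b, rfl, s c, rfl, s d, hf, hg]
  · rw [Perm.viaEmbedding_apply_of_notMem _ _ _ h]
    by_contra hp
    have h1 := hs ▸ Perm.mem_support.2 hp
    simp only [List.toFinset_cons, List.toFinset_nil, insert_empty_eq, Finset.mem_insert,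
      Finset.mem_singleton] at h1
    rcases h1 with rfl | rfl | rfl | rfl | rfl | rfl | rfl | rfl
    exacts [h ⟨0, rfl⟩, h ⟨1, rfl⟩, h ⟨2, rfl⟩, h ⟨3, rfl⟩, h ⟨4, rfl⟩, h ⟨5, rfl⟩, h ⟨6, rfl⟩,
      h ⟨7, rfl⟩]

theorem comm_of_sq {H : Type*} [Group H] {a b : H} (a2 : a * a = 1) (b2 : b * b = 1)
    (ab : a * b * (a * b) = 1) : Commute a b := by
  have h := inv_eq_of_mul_eq_one_right ab
  rw [mul_inv_rev, inv_eq_of_mul_eq_one_right a2, inv_eq_of_mul_eq_one_right b2] at h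
  exact h.symm

theorem four_ea {G : Type*} [Group G] {a b : G} (ha : a * a = 1) (hb : b * b = 1)
    (hab : a * b = b * a) : IsElementaryAbelian 2 (H18.four a b ha hb hab) := by
  have hc : Commute a b := hab
  refine ⟨le_centralizer_iff_isMulCommutative.1 fun x hx y hy => ?_, fun x hx => ?_⟩
  · have h1 : ∀ x ∈ H18.four a b ha hb hab, Commute x a ∧ Commute x b := by
      intro x hx
      rcases H18.mem_four.1 hx with rfl | rfl | rfl | rfl
      exacts [⟨Commute.one_left _, Commute.one_left _⟩, ⟨Commute.refl _, hc⟩,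
        ⟨hc.symm, Commute.refl _⟩,
        ⟨(Commute.refl _).mul_left hc.symm, hc.mul_left (Commute.refl _)⟩]
    rcases H18.mem_four.1 hx with rfl | rfl | rfl | rfl
    exacts [(Commute.one_right _).eq, (h1 y hy).1.eq, (h1 y hy).2.eq,
      ((h1 y hy).1.mul_right (h1 y hy).2).eq]
  · rcases H18.mem_four.1 hx with rfl | rfl | rfl | rfl
    exacts [one_pow _, by rw [sq, ha], by rw [sq, hb], by rw [hc.mul_pow, sq, sq, ha, hb, one_mul]]

theorem id12 : (s4 0 1 2 3 4 5 6 7 * s4 0 2 1 3 4 6 5 7 : Perm (Fin 8)) = s4 0 3 1 2 4 7 5 6 := by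
  decide +kernel

theorem id13 : (s4 0 1 2 3 4 5 6 7 * s4 0 4 1 5 2 6 3 7 : Perm (Fin 8)) = s4 0 5 1 4 2 7 3 6 := by
  decide +kernel

theorem id23 : (s4 0 2 1 3 4 6 5 7 * s4 0 4 1 5 2 6 3 7 : Perm (Fin 8)) = s4 0 6 1 7 2 4 3 5 := by
  decide +kernel

theorem exists_notMem {G : Type*} [Group G] [Finite G] {E : Subgroup G} (l : List G)
    (h : l.length < Nat.card E) : ∃ x ∈ E, x ∉ l := by
  classical
  by_contra hn
  push Not at hn
  have h1 : (E : Set G).ncard ≤ (l.toFinset : Set G).ncard :=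
    Set.ncard_le_ncard (fun x hx => by simpa using hn x hx) (Set.toFinite _)
  rw [Set.ncard_coe_finset] at h1
  have h2 := List.toFinset_card_le l
  have h3 : Nat.card E = (E : Set G).ncard := rfl
  omega

end C1A

open C1A

variable {G H : Type u} [Group G] [Group H] [Finite G] [IsSimpleGroup G] {n : ℕ} {z : G}
  {K : Subgroup G} {q : G → H} {c : H} {A : Subgroup H} {π : H →* Perm (Fin n)}

omit [Finite G] [IsSimpleGroup G] in
theorem CB.z2 (h : CB n z K q c A π) : z * z = 1 := sq_of_ord h.cx.blk.ord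

/-- lifting an involution of `A` that commutes with two given involutions -/
theorem CB.lift_inv (h : CB n z K q c A π) {a : H} (ha : a ∈ A) (a2 : a * a = 1) {s t : G}
    (hs : s ∈ C1 z) (s2 : s * s = 1) (ht : t ∈ C1 z) (t2 : t * t = 1) (st : Commute t s)
    (e1 : Commute a (q s)) (e2 : Commute a (q t)) :
    ∃ x ∈ K, x * x = 1 ∧ q x = a ∧ Commute x s ∧ Commute x t := by
  obtain ⟨g, hg, rfl, h1, h2⟩ := h.lift ha hs s2 ht t2 st e1 e2
  obtain ⟨m, h3, h4⟩ := h.vw.vw.exists_inv (h.cx.blk.le hg) a2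
  exact ⟨g ^ m, pow_mem hg m, h3, h4, h1.pow_left m, h2.pow_left m⟩

omit [Finite G] [IsSimpleGroup G] in
theorem CB.map_one (h : CB n z K q c A π) : π (q 1) = 1 := by rw [h.vw.vw.one, _root_.map_one]

omit [Finite G] [IsSimpleGroup G] in
theorem CB.map_z (h : CB n z K q c A π) : π (q z) = 1 := by rw [h.vw.qz, h.cf.map_c]

theorem CB.supp (h : CB n z K q c A π) {x : G} (hx : x ∈ K) (x2 : x * x = 1) (x1 : x ≠ 1)
    (xz : x ≠ z) : (π (q x)).support.card = 8 ∧ (π (q x)).supportᶜ.card ≤ 3 := by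
  obtain ⟨g, rfl⟩ := h.cx.conj_of_inv h.small h.ex hx (ord2 x2 x1)
  exact ⟨(h.p2 hx xz).supp_eq, (h.p2 hx xz).fix_le⟩

theorem CB.exists_E0 (h : CB n z K q c A π) : ∃ E ≤ K, IsElementaryAbelian 2 E ∧ Nat.card E = 16 ∧
    z ∈ E ∧ ∃ x ∈ E, x ≠ 1 ∧ x ≠ z := by
  let ι : Fin 8 ↪ Fin n := Fin.castLEEmb h.cf.big
  let φ := Perm.viaEmbeddingHom ι
  have hφ : Function.Injective φ := Perm.viaEmbeddingHom_injective ι
  obtain ⟨a₁, m1, p1⟩ := h.cf.surj () (φ (s4 0 1 2 3 4 5 6 7))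
    (sign_s4 ι (by decide) (by decide) (by decide) (by decide)) (by simp)
  obtain ⟨a₂, m2, p2⟩ := h.cf.surj () (φ (s4 0 2 1 3 4 6 5 7))
    (sign_s4 ι (by decide) (by decide) (by decide) (by decide)) (by simp)
  obtain ⟨a₃, m3, p3⟩ := h.cf.surj () (φ (s4 0 4 1 5 2 6 3 7))
    (sign_s4 ι (by decide) (by decide) (by decide) (by decide)) (by simp)
  have sq4 : ∀ u ∈ A, ∀ a b c' d e f g k : Fin 8, [a, b, c', d, e, f, g, k].Nodup →
      π u = φ (s4 a b c' d e f g k) → u * u = 1 := fun u hu a b c' d e f g k hn e1 =>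
    h.cf.sq_four (b := ()) hu (nodup_via ι hn) (e1.trans (via_s4 ι ..))
  have s1 := sq4 a₁ m1 _ _ _ _ _ _ _ _ (by decide) p1
  have s2 := sq4 a₂ m2 _ _ _ _ _ _ _ _ (by decide) p2
  have s3 := sq4 a₃ m3 _ _ _ _ _ _ _ _ (by decide) p3
  have c12 : Commute a₁ a₂ := comm_of_sq s1 s2 (sq4 _ (mul_mem m1 m2) 0 3 1 2 4 7 5 6 (by decide)
    (by rw [map_mul, p1, p2, ← map_mul, id12]))
  have c13 : Commute a₁ a₃ := comm_of_sq s1 s3 (sq4 _ (mul_mem m1 m3) 0 5 1 4 2 7 3 6 (by decide)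
    (by rw [map_mul, p1, p3, ← map_mul, id13]))
  have c23 : Commute a₂ a₃ := comm_of_sq s2 s3 (sq4 _ (mul_mem m2 m3) 0 6 1 7 2 4 3 5 (by decide)
    (by rw [map_mul, p2, p3, ← map_mul, id23]))
  have le := h.cx.blk.le
  have o1 : ∀ a : H, Commute a (q 1) := fun a => by rw [h.vw.vw.one]; exact Commute.one_right a
  obtain ⟨x₁, k1, t1, q1, -, -⟩ := h.lift_inv m1 s1 (one_mem _) (mul_one 1) (one_mem _) (mul_one 1)
    (Commute.refl 1) (o1 _) (o1 _)
  obtain ⟨x₂, k2, t2, q2, d21, -⟩ := h.lift_inv m2 s2 (le k1) t1 (le k1) t1 (Commute.refl _)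
    (q1 ▸ c12.symm) (q1 ▸ c12.symm)
  obtain ⟨x₃, k3, t3, q3, d31, d32⟩ := h.lift_inv m3 s3 (le k1) t1 (le k2) t2 d21
    (q1 ▸ c13.symm) (q2 ▸ c23.symm)
  have zc : ∀ x ∈ K, Commute z x := fun x hx => (mem_C1.1 (le hx)).symm
  have r1 : π (q x₁) = φ (s4 0 1 2 3 4 5 6 7) := by rw [q1, p1]
  have r2 : π (q x₂) = φ (s4 0 2 1 3 4 6 5 7) := by rw [q2, p2]
  have r3 : π (q x₃) = φ (s4 0 4 1 5 2 6 3 7) := by rw [q3, p3]
  have r0 := h.map_one
  have rz := h.map_z
  have n1 : x₁ ≠ 1 := fun e => absurd (hφ ((r1.symm.trans (e ▸ r0)).trans φ.map_one.symm)) (by decide)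
  have nz : x₁ ≠ z := fun e => absurd (hφ ((r1.symm.trans (e ▸ rz)).trans φ.map_one.symm)) (by decide)
  have n2 : x₂ ≠ 1 := fun e => absurd (hφ ((r2.symm.trans (e ▸ r0)).trans φ.map_one.symm)) (by decide)
  have n3 : x₃ ≠ 1 := fun e => absurd (hφ ((r3.symm.trans (e ▸ r0)).trans φ.map_one.symm)) (by decide)
  have n23 : x₂ ≠ x₃ := fun e => absurd (hφ ((r2.symm.trans (e ▸ r3)))) (by decide)
  set U := H18.four z x₁ h.z2 t1 (zc _ k1).eq
  set V := H18.four x₂ x₃ t2 t3 d32.symm.eq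
  have hUV : U ≤ centralizer (V : Set G) := by
    refine H18.four_le (fun y hy => ?_) fun y hy => ?_
    · exact (zc y (H18.four_le k2 k3 hy)).symm.eq
    · rcases H18.mem_four.1 hy with rfl | rfl | rfl | rfl
      exacts [(Commute.one_left _).eq, d21.eq, d31.eq, (d21.mul_left d31).eq]
  have hi : U ⊓ V = ⊥ := by
    refine eq_bot_iff.2 fun y ⟨hy, hy'⟩ => ?_
    have h1 : π (q y) = φ 1 ∨ π (q y) = φ (s4 0 1 2 3 4 5 6 7) := by
      rcases H18.mem_four.1 hy with rfl | rfl | rfl | rfl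
      exacts [Or.inl (r0.trans φ.map_one.symm), Or.inl (rz.trans φ.map_one.symm), Or.inr r1,
        Or.inr (by rw [h.vw.vw.mul (le h.cx.blk.mem) (le k1), map_mul, rz, one_mul, r1])]
    rcases H18.mem_four.1 hy' with rfl | rfl | rfl | rfl
    · exact one_mem _
    · rw [r2] at h1
      exact absurd (h1.imp (@hφ _ _) (@hφ _ _)) (by decide)
    · rw [r3] at h1
      exact absurd (h1.imp (@hφ _ _) (@hφ _ _)) (by decide)
    · rw [h.vw.vw.mul (le k2) (le k3), map_mul, r2, r3, ← map_mul, id23] at h1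
      exact absurd (h1.imp (@hφ _ _) (@hφ _ _)) (by decide)
  have hc := H21.card_sup_mul_card_inf' (hUV.trans (centralizer_le_normalizer _))
  rw [hi, card_bot, mul_one, H18.card_four _ _ _ (ne_one_of_ord h.cx.blk.ord) n1 nz.symm,
    H18.card_four _ _ _ n2 n3 n23] at hc
  exact ⟨U ⊔ V, sup_le (H18.four_le h.cx.blk.mem k1) (H18.four_le k2 k3),
    H21.isElementaryAbelian_sup (four_ea ..) (four_ea ..) hUV, hc,
    mem_sup_left H18.left_mem_four, x₁, mem_sup_left H18.right_mem_four, n1, nz⟩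

theorem CB.exists_E (h : CB n z K q c A π) {t : G} (ht : t ∈ K) (t2 : orderOf t = 2) :
    ∃ E ≤ K, IsElementaryAbelian 2 E ∧ Nat.card E = 16 ∧ z ∈ E ∧ t ∈ E := by
  obtain ⟨E, h1, h2, h3, h4, x, hx, x1, xz⟩ := h.exists_E0
  by_cases tz : t = z
  · exact ⟨E, h1, h2, h3, h4, tz ▸ h4⟩
  obtain ⟨k, hk, rfl⟩ := h.cx.blk.inv_conj h.small (h1 hx) (by rw [← sq, h2.2 x hx]) x1 xz ht
    (sq_of_ord t2) (ne_one_of_ord t2) tz
  refine ⟨cj k E, fun y hy => ?_, H21.isElementaryAbelian_map h2 _, ?_, ?_, conj_mem_cj hx⟩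
  · have := mul_mem (mul_mem hk (h1 (mem_cj.1 hy))) (inv_mem hk)
    simpa [mul_assoc] using this
  · rw [← h3]
    exact Subgroup.card_map_of_injective (MulAut.conj k).injective
  · have := conj_mem_cj (g := k) h4
    rwa [mem_C1.1 (h.cx.blk.le hk), mul_inv_cancel_right] at this

omit [Finite G] [IsSimpleGroup G] in
theorem ea_sq {E : Subgroup G} (hE : IsElementaryAbelian 2 E) {x : G} (hx : x ∈ E) : x * x = 1 := by
  rw [← sq, hE.2 x hx]

omit [Finite G] [IsSimpleGroup G] in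
theorem ea_comm {E : Subgroup G} (hE : IsElementaryAbelian 2 E) {x y : G} (hx : x ∈ E) (hy : y ∈ E) :
    Commute x y := by
  have := hE.1
  exact (mem_centralizer_iff.1 (E.le_centralizer hy) x hx)

theorem CB.same (h : CB n z K q c A π) {E : Subgroup G} (hK : E ≤ K) (hE : IsElementaryAbelian 2 E)
    (h16 : Nat.card E = 16) {a e : G} (ha : a ∈ E) (a1 : a ≠ 1) (az : a ≠ z) (he : e ∈ E)
    (e1 : e ≠ 1) (ez : e ≠ z) {f : Fin n} (hf : π (q a) f = f) : π (q e) f = f := by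
  obtain ⟨e', he', hn⟩ := exists_notMem (E := E)
    [1, z, a⁻¹, z * a⁻¹, e⁻¹, z * e⁻¹, (a * e)⁻¹, z * (a * e)⁻¹] (by simp [h16])
  simp only [List.mem_cons, List.not_mem_nil, or_false, not_or] at hn
  have le : E ≤ C1 z := hK.trans h.cx.blk.le
  have mul : ∀ x ∈ E, ∀ y ∈ E, π (q (x * y)) = π (q x) * π (q y) := fun x hx y hy => by
    rw [h.vw.vw.mul (le hx) (le hy), map_mul]
  have s2 : ∀ x ∈ E, π (q x) * π (q x) = 1 := fun x hx => by
    rw [← mul x hx x hx, ea_sq hE hx, h.map_one]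
  have cm : ∀ x ∈ E, ∀ y ∈ E, Commute (π (q x)) (π (q y)) := fun x hx y hy =>
    (h.vw.vw.comm (le hx) (le hy) (ea_comm hE hx hy)).map π
  have sp : ∀ x ∈ E, x ≠ 1 → x ≠ z → _ := fun x hx => h.supp (hK hx) (ea_sq hE hx)
  have sp' : ∀ y ∈ E, e' ≠ y⁻¹ → e' ≠ z * y⁻¹ → (π (q e') * π (q y)).supportᶜ.card ≤ 3 :=
    fun y hy h1 h2 => mul e' he' y hy ▸ (sp _ (mul_mem he' hy) (fun e => h1 (eq_inv_of_mul_eq_one_left e))
      fun e => h2 (eq_mul_inv_of_mul_eq e)).2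
  exact same_supp (s2 a ha) (s2 e he) (cm a ha e he) (cm e he e' he') (cm a ha e' he')
    (sp a ha a1 az).2 (sp e he e1 ez).2 ((sp a ha a1 az).1.trans (sp e he e1 ez).1.symm)
    (sp e' he' hn.1 hn.2.1).2 (sp' a ha hn.2.2.1 hn.2.2.2.1) (sp' e he hn.2.2.2.2.1 hn.2.2.2.2.2.1)
    (mul a ha e he ▸ sp' _ (mul_mem ha he) hn.2.2.2.2.2.2.1 hn.2.2.2.2.2.2.2) hf

omit [Finite G] [IsSimpleGroup G] in
theorem conj_mem_O {a x o : G} (hx : x ∈ C1 a) (ho : o ∈ Oppof 2 (C1 a)) :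
    x * o * x⁻¹ ∈ Oppof 2 (C1 a) :=
  H42.conj_mem_of_mem_normalizer (le_normalizer_pPrimeCoreOf _ hx) ho

theorem CB.core_fix (h : CB n z K q c A π) {t : G} (ht : t ∈ K) (t2 : orderOf t = 2) (tz : t ≠ z)
    {o : G} (ho : o ∈ Oppof 2 (C1 t)) (oz : o ∈ C1 z) :
    (∀ p, π (q t) p ≠ p → π (q o) p = p) ∧ (π (q o) = 1 → o ∈ Oppof 2 (C1 z)) := by
  obtain ⟨g, rfl⟩ := h.cx.conj_of_inv h.small h.ex ht t2
  have P := (h.p2 ht tz).symm
  have h1 := ((h.conj g).vw.ker (Oppof_le _ ho)).2 ho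
  exact ⟨fun p hp => P.core_fix (Oppof_le _ ho) oz h1 hp, fun e => (h.vw.ker oz).1
    (P.core_core ⟨(), h.vw.map (b := ()) ht⟩ (Oppof_le _ ho) oz h1 e)⟩

theorem CB.key (h : CB n z K q c A π) {E : Subgroup G} (hK : E ≤ K) (hE : IsElementaryAbelian 2 E)
    (h16 : Nat.card E = 16) {a : G} (ha : a ∈ E) (a1 : a ≠ 1) {o : G}
    (ho : o ∈ Oppof 2 (C1 a)) (oz : o ∈ C1 z) :
    o ∈ Oppof 2 (centralizer (E : Set G)) ⊔ Oppof 2 (C1 z) := by
  by_cases az : a = z
  · exact mem_sup_right (az ▸ ho)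
  have le : E ≤ C1 z := hK.trans h.cx.blk.le
  have la : E ≤ C1 a := fun x hx => mem_C1.2 (ea_comm hE hx ha).eq
  have h1 := (h.core_fix (hK ha) (ord2 (ea_sq hE ha) a1) az ho oz).1
  have h2 : ∀ e ∈ E, Commute (q o) (q e) := by
    intro e he
    by_cases e1 : e = 1
    · rw [e1, h.vw.vw.one]; exact Commute.one_right _
    by_cases ez : e = z
    · rw [ez, h.vw.qz]; exact h.cf.cen _
    refine (h.cf.comm_disj (b := ()) (h.vw.map (b := ()) (hK he)) fun p => ?_).symm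
    by_cases hp : π (q a) p = p
    · exact Or.inl (h.same hK hE h16 ha a1 az he e1 ez hp)
    · exact Or.inr (h1 p hp)
  have h3 : ∀ l : List G, (∀ e ∈ l, e ∈ E) → ∃ o' ∈ Oppof 2 (C1 a), o' ∈ C1 z ∧ q o' = q o ∧
      ∀ e ∈ l, Commute o' e := by
    intro l
    induction l with
    | nil => exact fun _ => ⟨o, ho, oz, rfl, by simp⟩
    | cons e l ih =>
      intro hl
      obtain ⟨o', g1, g2, g3, g4⟩ := ih fun x hx => hl x (List.mem_cons_of_mem _ hx)
      have he := hl e List.mem_cons_self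
      obtain ⟨j, j1, j2⟩ := h.vw.vw.adjust g2 (le he) (ea_sq hE he) (g3 ▸ h2 e he)
      have g5 : e * (o' * e * o'⁻¹) ∈ Oppof 2 (C1 a) := by
        have := mul_mem (conj_mem_O (la he) g1) (inv_mem g1)
        rwa [inv_eq (ea_sq hE he), mul_assoc e, mul_assoc e] at this
      refine ⟨_, mul_mem (pow_mem g5 j) g1, mul_mem (pow_mem (mul_mem (le he)
        (mul_mem (mul_mem g2 (le he)) (inv_mem g2))) j) g2, j1.trans g3, fun x hx => ?_⟩
      rcases List.mem_cons.1 hx with rfl | hx'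
      · exact j2
      · have c1 := ea_comm hE he (hl x hx)
        have c2 := g4 x hx'
        exact ((c1.mul_left ((c2.mul_left c1).mul_left c2.inv_left)).pow_left j).mul_left c2
  obtain ⟨o', g1, g2, g3, g4⟩ := h3 (Set.toFinite (E : Set G)).toFinset.toList (by simp)
  have g5 : o' ∈ centralizer (E : Set G) := fun x hx => (g4 x (by simpa using hx)).symm.eq
  have g6 : o'⁻¹ * o ∈ Oppof 2 (C1 z) := (h.vw.ker (mul_mem (inv_mem g2) oz)).1
    (by rw [h.vw.vw.mul (inv_mem g2) oz, h.vw.vw.inv g2, g3, inv_mul_cancel])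
  have g7 : o' ∈ Oppof 2 (centralizer (E : Set G)) :=
    Oppof_inf_le_Oppof (H := C1 a) (fun x hx => mem_C1.2 (hx a ha).symm) ⟨g1, g5⟩
  simpa using mul_mem (mem_sup_left g7) (mem_sup_right g6)

theorem CB.le_cj (h : CB n z K q c A π) {g : G} (hg : g * z * g⁻¹ ∈ K) {x : G} (hx : x ∈ K)
    (x2 : orderOf x = 2) (e : Commute (g * z * g⁻¹) x) : x ∈ cj g K := by
  obtain ⟨k, rfl⟩ := h.cx.conj_of_inv h.small h.ex hx x2
  exact h.cx.mem_cj h.norm hg hx e

theorem CB.odd_sup (h : CB n z K q c A π) {t : G} (ht : t ∈ K) (t2 : orderOf t = 2) :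
    Odd (Nat.card ↥(Oppof 2 (C1 z) ⊔ Oppof 2 (C1 t))) := by
  obtain ⟨E, hK, hE, h16, hz, htE⟩ := h.exists_E ht t2
  set U := Oppof 2 (centralizer (E : Set G))
  have hU : ∀ a ∈ E, U ≤ C1 a := fun a ha x hx => mem_C1.2 (Oppof_le _ hx a ha).symm
  have hn : ∀ a ∈ E, U ≤ normalizer (Oppof 2 (C1 a) : Set G) := fun a ha =>
    (hU a ha).trans (le_normalizer_pPrimeCoreOf _)
  have hodd : ∀ a ∈ E, Odd (Nat.card ↥(U ⊔ Oppof 2 (C1 a))) := fun a ha =>
    H46.odd_card_sup (hn a ha) (H46.odd_card_Oppof _) (H46.odd_card_Oppof _)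
  have hθ : IsSolvableSignalizerFunctor 2 E fun a => U ⊔ Oppof 2 (C1 a) := by
    refine ⟨⟨fun a ha _ => sup_le (hU a ha) (Oppof_le _), fun a ha _ => (hodd a ha).not_two_dvd_nat,
      fun a ha _ b hb x hx => ?_, fun a ha a1 b hb b1 x hx => ?_⟩,
      fun a ha _ => S0205.result (hodd a ha)⟩
    · obtain ⟨u, hu, o, ho, rfl⟩ := H42.exists_mul_of_mem_sup (hn a ha) hx
      have h1 : b * (u * o) * b⁻¹ = u * (b * o * b⁻¹) := by
        rw [← mul_assoc, ← mem_C1.1 (hU b hb hu)]; group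
      rw [h1]
      exact mul_mem (mem_sup_left hu)
        (mem_sup_right (conj_mem_O (mem_C1.2 (ea_comm hE hb ha).eq) ho))
    · obtain ⟨u, hu, o, ho, rfl⟩ := H42.exists_mul_of_mem_sup (hn a ha) hx.1
      have h1 : o ∈ C1 b := (mul_mem_cancel_left (hU b hb hu)).1 hx.2
      obtain ⟨g, rfl⟩ := h.cx.conj_of_inv h.small h.ex (hK hb) (ord2 (ea_sq hE hb) b1)
      refine mul_mem (mem_sup_left hu) ((h.conj g).key (fun y hy => ?_) hE h16 ha a1 ho h1)
      by_cases y1 : y = 1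
      · exact y1 ▸ one_mem _
      · exact h.le_cj (hK hb) (hK hy) (ord2 (ea_sq hE hy) y1) (ea_comm hE hb hy)
  have h1 := (H45.closure_mem_family hE (by rw [h16]; norm_num) hθ).2.1
  have h2 : Oppof 2 (C1 z) ⊔ Oppof 2 (C1 t) ≤ signalizerClosure E fun a => U ⊔ Oppof 2 (C1 a) :=
    sup_le (le_sup_right.trans (le_signalizerClosure (θ := fun a => U ⊔ Oppof 2 (C1 a)) hz
      (ne_one_of_ord h.cx.blk.ord)))
      (le_sup_right.trans (le_signalizerClosure (θ := fun a => U ⊔ Oppof 2 (C1 a)) htE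
        (ne_one_of_ord t2)))
  exact (Nat.not_even_iff_odd.1 fun e => h1 e.two_dvd).of_dvd_nat (card_dvd_of_le h2)

omit [Finite G] [IsSimpleGroup G] in
theorem CB.odd_map (h : CB n z K q c A π) {y : G} (hy : y ∈ C1 z) (ho : Odd (orderOf y)) :
    Odd (orderOf (π (q y))) :=
  ho.of_dvd_nat (orderOf_dvd_of_pow_eq_one (by
    rw [← map_pow, ← h.vw.vw.pow hy, pow_orderOf_eq_one, h.map_one]))

theorem CB.bal (h : CB n z K q c A π) {t : G} (ht : t ∈ K) (t2 : orderOf t = 2) :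
    Oppof 2 (C1 t) ⊓ C1 z ≤ Oppof 2 (C1 z) := by
  by_cases tz : t = z
  · exact tz ▸ inf_le_left
  rintro o ⟨ho, oz⟩
  obtain ⟨h1, h2⟩ := h.core_fix ht t2 tz ho oz
  by_contra hn
  have le := h.cx.blk.le
  have tt := sq_of_ord t2
  obtain ⟨s8, s3⟩ := h.supp ht tt (ne_one_of_ord t2) tz
  have so := h.odd_map oz (odd_of_mem ho)
  obtain ⟨f, hf⟩ : ∃ f, π (q o) f ≠ f := by
    by_contra hc
    push Not at hc
    exact hn (h2 (Equiv.ext hc))
  set σ := π (q o) with hσ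
  set τ := π (q t) with hτ
  have fx : ∀ p, σ p ≠ p → τ p = p := fun p hp => by_contra fun e => hp (h1 p e)
  have m2 : σ (σ f) ≠ σ f := fun e => hf (σ.injective e)
  have m3 : σ (σ (σ f)) ≠ σ (σ f) := fun e => m2 (σ.injective e)
  have m4 : σ (σ (σ (σ f))) ≠ σ (σ (σ f)) := fun e => m3 (σ.injective e)
  have n31 : σ (σ f) ≠ f := fun e => hf (odd_fix so e)
  have all : ∀ p, τ p = p → p = f ∨ p = σ f ∨ p = σ (σ f) := fun p hp => by
    by_contra hc
    push Not at hc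
    exact not_four s3 (a := p) (b := f) (c := σ f) (d := σ (σ f))
      (by simp [hc.1, hc.2.1, hc.2.2, hf.symm, n31.symm, m2.symm]) hp (fx _ hf) (fx _ m2) (fx _ m3)
  have c3 : σ (σ (σ f)) = f := by
    rcases all _ (fx _ m4) with e | e | e
    exacts [e, absurd (σ.injective e) n31, absurd e m3]
  have τ2 : τ * τ = 1 := by rw [hτ, ← map_mul, h.vw.vw.sq (le ht) tt, _root_.map_one]
  obtain ⟨ι, i8, i9, eτ⟩ := exists_label τ2 s8 (fx _ hf) (fx _ m2) hf.symm
  obtain ⟨a, ha, pa⟩ := h.cf.surj () (Perm.viaEmbeddingHom ι (s4 0 2 1 3 4 5 8 9))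
    (sign_s4 ι (by decide) (by decide) (by decide) (by decide)) (by simp)
  have a2 : a * a = 1 := h.cf.sq_four (b := ()) ha (nodup_via ι (by decide)) (pa.trans (via_s4 ι ..))
  have hqt := h.vw.map (b := ()) ht
  have ca : Commute a (q t) := comm_of_sq a2 (h.vw.vw.sq (le ht) tt)
    (h.cf.sq_four (b := ()) (mul_mem ha hqt) (nodup_via ι (a := 0) (b := 3) (c := 1) (d := 2) (e := 6)
      (f := 7) (g := 8) (h := 9) (by decide))
      (by rw [← via_s4, map_mul, pa, ← hτ, eτ, ← map_mul]; congr 1; decide))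
  obtain ⟨x, hx, x2, qx, cx, -⟩ := h.lift_inv ha a2 (le ht) tt (le ht) tt (Commute.refl _) ca ca
  have ξ8 : π (q x) f = σ f := by
    rw [qx, pa, ← i9, ← i8, Perm.viaEmbeddingHom_apply, Perm.viaEmbedding_apply]; rfl
  have ξ9 : π (q x) (σ f) = f := by
    rw [qx, pa, ← i9, ← i8, Perm.viaEmbeddingHom_apply, Perm.viaEmbedding_apply]; rfl
  have ξ3 : π (q x) (σ (σ f)) = σ (σ f) := by
    rw [qx, pa, Perm.viaEmbeddingHom_apply]
    refine Perm.viaEmbedding_apply_of_notMem _ _ _ ?_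
    rintro ⟨i, hi⟩
    have h3 := fx _ m3
    rw [← hi, eτ, Perm.viaEmbeddingHom_apply, Perm.viaEmbedding_apply] at h3
    have h4 : ∀ i : Fin 10, s4 0 1 2 3 4 5 6 7 i = i → i = 8 ∨ i = 9 := by decide
    rcases h4 i (ι.injective h3) with rfl | rfl
    exacts [n31 (hi.symm.trans i8), m2 (hi.symm.trans i9)]
  have x1 : x ≠ 1 := fun e => hf (by rw [← ξ8, e, h.map_one]; rfl)
  have xz : x ≠ z := fun e => hf (by rw [← ξ8, e, h.map_z]; rfl)
  obtain ⟨k, hk, rfl⟩ := h.cx.blk.inv_conj h.small ht tt (ne_one_of_ord t2) tz hx x2 x1 xz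
  have o1 : k * o * k⁻¹ ∈ Oppof 2 (C1 (k * t * k⁻¹)) := by
    rw [← cj_C1, ← cj_Oppof]; exact conj_mem_cj ho
  have o2 : k * o * k⁻¹ ∈ C1 z := mul_mem (mul_mem (le hk) oz) (inv_mem (le hk))
  have h3 := (h.core_fix hx (ord2 x2 x1) xz o1 o2).1
  have f1 := h3 f (ξ8 ▸ hf)
  have f2 := h3 (σ f) (by rw [ξ9]; exact hf.symm)
  have f3 : π (q (k * o * k⁻¹)) (σ (σ f)) ≠ σ (σ f) := by
    rw [h.vw.vw.conj (le hk) (le ht), map_mul, map_mul, map_inv, ← hτ] at ξ3
    rw [h.vw.vw.conj (le hk) oz, map_mul, map_mul, map_inv, ← hσ]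
    have h4 : τ ((π (q k))⁻¹ (σ (σ f))) = (π (q k))⁻¹ (σ (σ f)) :=
      (π (q k)).injective (by simpa using ξ3)
    intro e
    have h5 : σ ((π (q k))⁻¹ (σ (σ f))) = (π (q k))⁻¹ (σ (σ f)) :=
      (π (q k)).injective (by simpa using e)
    rcases all _ h4 with e1 | e1 | e1 <;> rw [e1] at h5
    exacts [hf h5, m2 h5, m3 h5]
  obtain ⟨g, rfl⟩ := h.cx.conj_of_inv h.small h.ex ht t2
  have h4 := (h.conj g).odd_sup (h.le_cj ht hx (ord2 x2 x1) cx.symm) (ord2 x2 x1)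
  generalize k * o * k⁻¹ = o' at o1 o2 f1 f2 f3
  have h5 := h.odd_map (mul_mem oz (mul_mem (mul_mem o2 oz) (inv_mem o2)))
    (h4.of_dvd_nat (Subgroup.orderOf_dvd_natCard _ (mul_mem (mem_sup_left ho)
      (mul_mem (mul_mem (mem_sup_right o1) (mem_sup_left ho)) (inv_mem (mem_sup_right o1))))))
  rw [h.vw.vw.mul oz (mul_mem (mul_mem o2 oz) (inv_mem o2)), h.vw.vw.conj o2 oz, map_mul, map_mul,
    map_mul, map_inv, ← hσ] at h5
  generalize π (q o') = σ' at f1 f2 f3 h5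
  have g1 : σ'⁻¹ f = f := Perm.inv_eq_iff_eq.2 f1.symm
  have g2 : σ (σ'⁻¹ (σ (σ f))) = σ'⁻¹ (σ (σ f)) := by
    by_contra e
    rcases all _ (fx _ e) with e1 | e1 | e1 <;> rw [Perm.inv_eq_iff_eq] at e1
    exacts [n31 (e1.trans f1), m2 (e1.trans f2), f3 e1.symm]
  have g3 : (σ * (σ' * σ * σ'⁻¹)) f = σ (σ f) := by
    simp only [Perm.mul_apply, g1, f2]
  have g4 : (σ * (σ' * σ * σ'⁻¹)) (σ (σ f)) = f := by
    rw [Perm.mul_apply, Perm.mul_apply, Perm.mul_apply, g2, ← Perm.mul_apply σ', mul_inv_cancel,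
      Perm.one_apply, c3]
  exact n31 (g3.symm.trans (odd_fix h5 (by rw [g3, g4])))

end Cfsg.Agent.SOL
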