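import Cfsg.Agent.STD.An4
import Cfsg.Agent.H59.PU
import Cfsg.Agent.H46.LBalance
import Cfsg.Agent.H46.ZS
import Cfsg.Agent.H18.Four

/-! Intrinsic 2-components of type `2.A_n`: definitions (project SOL, see notes/SOL.md). -/

set_option autoImplicit false

namespace Cfsg.Agent.SOL

open Equiv Subgroup H44 H59
open scoped commutatorElement

universe u

variable {G : Type u} [Group G]

/-- `K / O(K)` is a non-split double cover of `A_n` and `z` is the central involution of `K` -/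
structure Blk (n : ℕ) (z : G) (K : Subgroup G) : Prop where
  big : 8 ≤ n
  ord : orderOf z = 2
  mem : z ∈ K
  le : K ≤ C1 z
  pqs : PQS 2 K
  ty : IsNonsplitDoubleCover (K ⧸ pPrimeCore 2 K) (alternatingGroup (Fin n))

/-- `X` is the 2-component of `Y` containing `J`, and `C_X(z) = J` modulo the core -/
structure Pu (Y : Subgroup G) (z : G) (J X : Subgroup G) : Prop where
  pc : PComp 2 Y X
  le : J ≤ X
  cent : X ⊓ C1 z ≤ J ⊔ Oppof 2 Y
  core : Oppof 2 J ≤ Oppof 2 Y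

/-- the theorem holds in every proper subgroup -/
def Rel (n : ℕ) (G : Type u) [Group G] : Prop :=
  ∀ Y : Subgroup G, Y ≠ ⊤ → ∀ z J, Blk n z J → PComp 2 (Y ⊓ C1 z) J → ∃ X, Pu Y z J X

/-- the inductive setting -/
structure Cx (n : ℕ) (z : G) (K : Subgroup G) : Prop where
  blk : Blk n z K
  pc : PComp 2 (C1 z) K
  rel : Rel n G

/-- `t` centralises modulo the core every 2-component of `C(s)` that contains `s` -/
def TypeC (s t : G) : Prop := ∀ J, PComp 2 (C1 s) J → s ∈ J → t ∈ Dc 2 (C1 s) J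

/-- the component `X` of a proper subgroup that contains all `g` with `g z g⁻¹ ∈ K` -/
structure KX (n : ℕ) (z : G) (K X : Subgroup G) : Prop where
  cx : Cx n z K
  small : n ≤ 11
  norm : C1 z ≤ normalizer (K : Set G)
  ex : ∃ g : G, g * z * g⁻¹ ∈ K ∧ g * z * g⁻¹ ≠ z
  pu : Pu X z K X
  gen : ∀ g : G, g * z * g⁻¹ ∈ K → g ∈ normalizer (X : Set G)
  ne : normalizer (X : Set G) ≠ ⊤

variable {H : Type u} [Group H]

/-- `q` restricts to an epimorphism `Y → H` with kernel of odd order -/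
structure Vw (Y : Subgroup G) (q : G → H) : Prop where
  mul : ∀ {a b}, a ∈ Y → b ∈ Y → q (a * b) = q a * q b
  surj : ∀ h, ∃ g ∈ Y, q g = h
  odd : ∀ {g}, g ∈ Y → q g = 1 → Odd (orderOf g)

/-- the core-free local structure: `H` permutes the blocks of `α`, the double cover `A b` of `A_n`
acts on block `b`, and `c` is the common central involution -/
structure CF (n : ℕ) {α β : Type} [DecidableEq α] [Fintype α] [DecidableEq β] (c : H)
    (A : β → Subgroup H) (π : H →* Perm α) (bl : α → β) : Prop where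
  big : 8 ≤ n
  card : ∀ b, (Finset.univ.filter fun p => bl p = b).card = n
  ne : c ≠ 1
  sq : c * c = 1
  cen : ∀ h, Commute h c
  mem : ∀ b, c ∈ A b
  blk : ∀ h {p p'}, bl p = bl p' → bl (π h p) = bl (π h p')
  norm : ∀ h p {a}, a ∈ A (bl p) → h * a * h⁻¹ ∈ A (bl (π h p))
  supp : ∀ {b a}, a ∈ A b → ∀ p, bl p ≠ b → π a p = p
  even : ∀ {b a}, a ∈ A b → Perm.sign (π a) = 1
  surj : ∀ b σ, Perm.sign σ = 1 → (∀ p, bl p ≠ b → σ p = p) → ∃ a ∈ A b, π a = σ
  kerA : ∀ {b a}, a ∈ A b → π a = 1 → a = 1 ∨ a = c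
  ker : ∀ {h b}, (∀ p, bl p = b → π h p = p) → ∀ a ∈ A b, Commute h a
  dt : ∀ {b u}, u ∈ A b → ∀ {p₁ p₂ p₃ p₄ : α}, [p₁, p₂, p₃, p₄].Nodup →
    π u = swap p₁ p₂ * swap p₃ p₄ → u * u = c
  core : pPrimeCore 2 H = ⊥

/-- `H = C(z) / O(C(z))`, and the components `J b` of `C(z)` map onto the `A b` -/
structure View (n : ℕ) {β : Type} (z : G) (q : G → H) (c : H) (A : β → Subgroup H)
    (J : β → Subgroup G) : Prop where
  vw : Vw (C1 z) q
  qz : q z = c
  ker : ∀ {g}, g ∈ C1 z → (q g = 1 ↔ g ∈ Oppof 2 (C1 z))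
  pc : ∀ b, PComp 2 (C1 z) (J b)
  blk : ∀ b, Blk n z (J b)
  map : ∀ {b a}, a ∈ J b → q a ∈ A b
  onto : ∀ {b h}, h ∈ A b → ∃ a ∈ J b, q a = h

/-- two commuting involutions with views, each fixing every block of the other and acting
non-trivially on it -/
structure P2 (n : ℕ) {α β : Type} [DecidableEq α] [Fintype α] [DecidableEq β] (c : H)
    (A : β → Subgroup H) (π : H →* Perm α) (bl : α → β) (z : G) (q : G → H) (t : G) (q' : G → H) :
    Prop where
  cf : CF n c A π bl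
  vl : Vw (C1 z) q
  vr : Vw (C1 t) q'
  zl : q z = c
  zr : q' t = c
  z2 : z * z = 1
  t2 : t * t = 1
  comm : t ∈ C1 z
  fl : ∀ p, bl (π (q t) p) = bl p
  fr : ∀ p, bl (π (q' z) p) = bl p
  nl : ∀ b, ∃ p, bl p = b ∧ π (q t) p ≠ p
  nr : ∀ b, ∃ p, bl p = b ∧ π (q' z) p ≠ p

/-- the setting of case B: one block, and a conjugate of `z` in `K \ {z}` -/
structure CB (n : ℕ) (z : G) (K : Subgroup G) (q : G → H) (c : H) (A : Subgroup H)
    (π : H →* Perm (Fin n)) : Prop where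
  cx : Cx n z K
  cf : CF n c (fun _ : Unit => A) π fun _ => ()
  vw : View n z q c (fun _ : Unit => A) fun _ => K
  small : n ≤ 11
  norm : C1 z ≤ normalizer (K : Set G)
  ex : ∃ g : G, g * z * g⁻¹ ∈ K ∧ g * z * g⁻¹ ≠ z

instance fact_two : Fact (Nat.Prime 2) := ⟨Nat.prime_two⟩

theorem ord2 {x : G} (h2 : x * x = 1) (h1 : x ≠ 1) : orderOf x = 2 :=
  orderOf_eq_prime (by rw [sq, h2]) h1

theorem sq_of_ord {x : G} (h : orderOf x = 2) : x * x = 1 := H42.mul_self_of_orderOf_two h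

theorem ne_one_of_ord {x : G} (h : orderOf x = 2) : x ≠ 1 := fun e => by simp [e] at h

theorem inv_eq {x : G} (h : x * x = 1) : x⁻¹ = x := inv_eq_of_mul_eq_one_right h

theorem odd_of_mem [Finite G] {Y : Subgroup G} {x : G} (h : x ∈ Oppof 2 Y) : Odd (orderOf x) :=
  (H46.odd_card_Oppof Y).of_dvd_nat (Subgroup.orderOf_dvd_natCard _ h)

theorem eq_one_of_odd {x : G} (ho : Odd (orderOf x)) {k : ℕ} (h : x ^ 2 ^ k = 1) : x = 1 :=
  orderOf_eq_one_iff.1 ((Nat.coprime_self _).1 (Nat.Coprime.coprime_dvd_right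
    (orderOf_dvd_of_pow_eq_one h) (ho.coprime_two_right.pow_right k)))

theorem cj_C1 (g z : G) : cj g (C1 z) = C1 (g * z * g⁻¹) := by
  ext x
  rw [mem_cj, mem_C1, mem_C1]
  exact ⟨fun e => by
    calc x * (g * z * g⁻¹) = g * (g⁻¹ * x * g * z) * g⁻¹ := by group
      _ = _ := by rw [e]; group, fun e => by
    calc g⁻¹ * x * g * z = g⁻¹ * (x * (g * z * g⁻¹)) * g := by group
      _ = _ := by rw [e]; group⟩

theorem cj_Oppof [Finite G] (g : G) (Y : Subgroup G) : cj g (Oppof 2 Y) = Oppof 2 (cj g Y) :=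
  map_Oppof_inj (MulAut.conj g).toMonoidHom (MulAut.conj g).injective Y

theorem pcomp_cj [Finite G] {Y J : Subgroup G} (h : PComp 2 Y J) (g : G) :
    PComp 2 (cj g Y) (cj g J) := h.map_inj (MulAut.conj g).toMonoidHom (MulAut.conj g).injective

/-- in a simple group of even order greater than two involution centralisers are proper -/
theorem C1_ne_top [IsSimpleGroup G] [Finite G] {K : Subgroup G} (hK : PQS 2 K) {w : G} (h1 : w ≠ 1) :
    C1 w ≠ ⊤ := fun e => by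
  rcases (inferInstance : (center G).Normal).eq_bot_or_eq_top with e1 | e1
  · exact h1 (mem_bot.1 (e1 ▸ mem_center_iff.2 fun g => mem_C1.1 (e ▸ mem_top g)))
  · refine hK.ne_bot (hK.perfect ▸ commutator_eq_bot_iff_le_centralizer.2 fun a _ b _ => ?_)
    exact mem_center_iff.1 (e1 ▸ mem_top a) b

/-- dihedral adjustment -/
theorem dih {s t : G} (hs : s * s = 1) (ht : t * t = 1) {m : ℕ} (hm : Odd m) :
    ∃ o ∈ zpowers ((s * t) ^ 4), o * s * o⁻¹ * t = (s * t) ^ (m * m) := by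
  obtain ⟨k, rfl⟩ := hm
  obtain ⟨l, hl⟩ := Nat.even_mul_succ_self k
  refine ⟨((s * t) ^ 4) ^ l, pow_mem (mem_zpowers _) l, ?_⟩
  rw [← pow_mul, H42.conj_eq_sq_mul (H42.conj_mul_pow hs ht _), ← pow_mul, mul_assoc, ← pow_succ]
  congr 1
  nlinarith

theorem dih4 {s t : G} (hs : s * s = 1) (ht : t * t = 1) (ho : Odd (orderOf ((s * t) ^ 4))) :
    ∃ o ∈ zpowers ((s * t) ^ 4), (o * s * o⁻¹ * t) ^ 4 = 1 := by
  obtain ⟨o, h1, h2⟩ := dih hs ht ho
  exact ⟨o, h1, by rw [h2, ← pow_mul, mul_comm, pow_mul, pow_mul, pow_orderOf_eq_one, one_pow]⟩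

theorem dih2 {s t : G} (hs : s * s = 1) (ht : t * t = 1) (ho : Odd (orderOf ((s * t) ^ 2))) :
    ∃ o ∈ zpowers ((s * t) ^ 2), Commute (o * s * o⁻¹) t := by
  obtain ⟨o, h1, h2⟩ := dih hs ht ho
  refine ⟨o, zpowers_le.2 (by
    rw [show 4 = 2 * 2 from rfl, pow_mul]; exact pow_mem (mem_zpowers _) 2) h1, ?_⟩
  have h3 : (o * s * o⁻¹ * t) ^ 2 = 1 := by
    rw [h2, ← pow_mul, mul_comm, pow_mul, pow_mul, pow_orderOf_eq_one, one_pow]
  have h4 := inv_eq (x := o * s * o⁻¹ * t) (by rwa [← sq])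
  rw [mul_inv_rev, inv_eq ht, inv_eq (H42.conj_mul_self hs o)] at h4
  exact h4.symm

/-- an involution normalising a subgroup of even order centralises one of its involutions -/
theorem exists_inv_comm [Finite G] {X : Subgroup G} {x r : G} (hx : x ∈ X) (x2 : orderOf x = 2)
    (r2 : r * r = 1) (hn : r ∈ normalizer (X : Set G)) : ∃ y ∈ X, orderOf y = 2 ∧ Commute y r := by
  have hr : IsPGroup 2 (zpowers r) := STD.isPGroup_zpowers (k := 1) (by simpa [sq] using r2)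
  obtain ⟨P, hP, h1⟩ := H42.exists_sylIn hr (le_sup_right (a := X))
  have h2 : X ⊔ zpowers r ≤ normalizer (X : Set G) := sup_le le_normalizer (zpowers_le.2 hn)
  obtain ⟨m, hm, e⟩ := hP.exists_conj (R := zpowers x)
    (STD.isPGroup_zpowers (k := 1) (by simpa [sq] using sq_of_ord x2))
    ((zpowers_le.2 hx).trans le_sup_left)
  obtain ⟨y, h3, h4, h5⟩ := exists_orderOf_eq_centralizer hr (U := P ⊓ X) (hP.isP.to_le inf_le_left)
    (fun e1 => ne_one_of_ord ((H42.orderOf_conj' m x).trans x2) (mem_bot.1 (e1 ▸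
      ⟨e x (mem_zpowers x), H42.conj_mem_of_mem_normalizer (h2 hm) hx⟩)))
    (zpowers_le.2 (H42.mem_normalizer_of_conj_mem fun a ha =>
      ⟨P.mul_mem (P.mul_mem (h1 (mem_zpowers r)) ha.1) (P.inv_mem (h1 (mem_zpowers r))),
        H42.conj_mem_of_mem_normalizer hn ha.2⟩))
  exact ⟨y, h3.2, h5, (h4 r (mem_zpowers r)).symm⟩

/-- the dihedral group of order eight generated by `c t` and `t` -/
theorem d8 {c t z : G} (z2 : z * z = 1) (z1 : z ≠ 1) (c1 : c * c = z) (c2 : c * t * c⁻¹ = t * z)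
    (t2 : t * t = 1) (t1 : t ≠ 1) :
    orderOf (c * t) = 2 ∧ orderOf t = 2 ∧ orderOf (c * t * t) = 4 := by
  have c4 : orderOf c = 4 := orderOf_eq_prime_pow (p := 2) (n := 1)
    (by rw [pow_one, pow_two, c1]; exact z1)
    (by rw [show 2 ^ (1 + 1) = 2 * 2 from rfl, pow_mul, pow_two, pow_two, c1, z2])
  refine ⟨ord2 ?_ fun e => ?_, ord2 t2 t1, by rw [mul_assoc, t2, mul_one, c4]⟩
  · calc c * t * (c * t) = c * t * c⁻¹ * (c * c) * t := by group
      _ = 1 := by rw [c2, c1, mul_assoc t, z2, mul_one, t2]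
  · rw [eq_inv_of_mul_eq_one_left e, orderOf_inv, ord2 t2 t1] at c4
    exact absurd c4 (by decide)

namespace Vw

variable {Y : Subgroup G} {q : G → H}

theorem one (h : Vw Y q) : q 1 = 1 := by
  have := h.mul (one_mem Y) (one_mem Y)
  rwa [mul_one, left_eq_mul] at this

theorem inv (h : Vw Y q) {g : G} (hg : g ∈ Y) : q g⁻¹ = (q g)⁻¹ :=
  eq_inv_of_mul_eq_one_left (by rw [← h.mul (inv_mem hg) hg, inv_mul_cancel, h.one])

theorem conj (h : Vw Y q) {g k : G} (hg : g ∈ Y) (hk : k ∈ Y) :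
    q (g * k * g⁻¹) = q g * q k * (q g)⁻¹ := by
  rw [h.mul (mul_mem hg hk) (inv_mem hg), h.mul hg hk, h.inv hg]

theorem pow (h : Vw Y q) {g : G} (hg : g ∈ Y) (m : ℕ) : q (g ^ m) = q g ^ m := by
  induction m with
  | zero => simpa using h.one
  | succ m ih => rw [pow_succ, pow_succ, h.mul (pow_mem hg m) hg, ih]

theorem comm (h : Vw Y q) {g k : G} (hg : g ∈ Y) (hk : k ∈ Y) (e : Commute g k) :
    Commute (q g) (q k) := by
  change q g * q k = q k * q g
  rw [← h.mul hg hk, e.eq, h.mul hk hg]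

theorem commutator (h : Vw Y q) {g k : G} (hg : g ∈ Y) (hk : k ∈ Y) : q ⁅g, k⁆ = ⁅q g, q k⁆ := by
  rw [commutatorElement_def, h.mul (mul_mem (mul_mem hg hk) (inv_mem hg)) (inv_mem hk), h.conj hg hk,
    h.inv hk, commutatorElement_def]

theorem sq (h : Vw Y q) {t : G} (ht : t ∈ Y) (t2 : t * t = 1) : q t * q t = 1 := by
  rw [← h.mul ht ht, t2, h.one]

/-- involutions with the same image are conjugate under a power of their product -/
theorem conj_of_eq (h : Vw Y q) {s t : G} (hs : s ∈ Y) (ht : t ∈ Y) (s2 : s * s = 1) (t2 : t * t = 1)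
    (e : q s = q t) : ∃ j : ℕ, (t * s) ^ j * s * ((t * s) ^ j)⁻¹ = t ∧ q ((t * s) ^ j) = 1 := by
  have h1 : q (t * s) = 1 := by rw [h.mul ht hs, e, h.sq ht t2]
  obtain ⟨j, hj⟩ := H42.exists_pow_conj_of_odd s2 t2 (h.odd (mul_mem ht hs) h1)
  exact ⟨j, hj, by rw [h.pow (mul_mem ht hs), h1, one_pow]⟩

/-- adjusting `g` by a power of `⁅t, g⁆` so that it commutes with the involution `t` -/
theorem adjust (h : Vw Y q) {g t : G} (hg : g ∈ Y) (ht : t ∈ Y) (t2 : t * t = 1)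
    (e : Commute (q g) (q t)) :
    ∃ j : ℕ, q ((t * (g * t * g⁻¹)) ^ j * g) = q g ∧ Commute ((t * (g * t * g⁻¹)) ^ j * g) t := by
  have h0 := mul_mem (mul_mem hg ht) (inv_mem hg)
  obtain ⟨j, h1, h2⟩ := h.conj_of_eq h0 ht (H42.conj_mul_self t2 g) t2
    (by rw [h.conj hg ht, e.eq, mul_inv_cancel_right])
  refine ⟨j, by rw [h.mul (pow_mem (mul_mem ht h0) j) hg, h2, one_mul], ?_⟩
  generalize (t * (g * t * g⁻¹)) ^ j = o at h1
  change o * g * t = t * (o * g)
  nth_rw 2 [← h1]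
  group

theorem lift (h : Vw Y q) {t : G} (ht : t ∈ Y) (t2 : t * t = 1) {a : H} (e : Commute a (q t)) :
    ∃ g ∈ Y, q g = a ∧ Commute g t := by
  obtain ⟨g, hg, rfl⟩ := h.surj a
  obtain ⟨j, h1, h2⟩ := h.adjust hg ht t2 e
  exact ⟨_, mul_mem (pow_mem (mul_mem ht (mul_mem (mul_mem hg ht) (inv_mem hg))) j) hg, h1, h2⟩

theorem lift2 (h : Vw Y q) {s t : G} (hs : s ∈ Y) (s2 : s * s = 1) (ht : t ∈ Y) (t2 : t * t = 1)
    (st : Commute t s) {a : H} (e1 : Commute a (q s)) (e2 : Commute a (q t)) :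
    ∃ g ∈ Y, q g = a ∧ Commute g s ∧ Commute g t := by
  obtain ⟨g, hg, rfl, h3⟩ := h.lift hs s2 e1
  obtain ⟨j, h1, h2⟩ := h.adjust hg ht t2 e2
  exact ⟨_, mul_mem (pow_mem (mul_mem ht (mul_mem (mul_mem hg ht) (inv_mem hg))) j) hg, h1,
    ((st.mul_left ((h3.mul_left st).mul_left h3.inv_left)).pow_left j).mul_left h3, h2⟩

theorem odd_of_pow (h : Vw Y q) {g : G} (hg : g ∈ Y) {m : ℕ} (hm : Odd m) (e : q g ^ m = 1) :
    Odd (orderOf g) :=
  (hm.mul (h.odd (pow_mem hg m) ((h.pow hg m).trans e))).of_dvd_nat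
    (orderOf_dvd_of_pow_eq_one (by rw [pow_mul, pow_orderOf_eq_one]))

/-- an odd power of a preimage of an involution is an involution -/
theorem exists_inv (h : Vw Y q) {g : G} (hg : g ∈ Y) (e : q g * q g = 1) :
    ∃ m : ℕ, g ^ m * g ^ m = 1 ∧ q (g ^ m) = q g := by
  obtain ⟨k, hk⟩ := h.odd (mul_mem hg hg) ((h.mul hg hg).trans e)
  refine ⟨orderOf (g * g), by rw [← (Commute.refl g).mul_pow, pow_orderOf_eq_one], ?_⟩
  rw [h.pow hg, hk, pow_succ, pow_mul, _root_.sq, e, one_pow, one_mul]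

/-- an odd power of a preimage of a square root of `q z` is a square root of `z` -/
theorem exists_root (h : Vw Y q) {g z : G} (hg : g ∈ Y) (hz : z ∈ Y) (z2 : z * z = 1)
    (gz : Commute g z) (e : q g * q g = q z) : ∃ m : ℕ, Odd m ∧ g ^ m * g ^ m = z := by
  have ho := h.odd (mul_mem (mul_mem hg hg) hz) (by rw [h.mul (mul_mem hg hg) hz, h.mul hg hg, e, h.sq hz z2])
  have h1 := pow_orderOf_eq_one (g * g * z)
  generalize orderOf (g * g * z) = m at ho h1
  refine ⟨m, ho, ?_⟩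
  obtain ⟨k, rfl⟩ := ho
  rw [(gz.mul_left gz).mul_pow, (Commute.refl g).mul_pow, pow_succ z, pow_mul z, _root_.sq z, z2,
    one_pow, one_mul] at h1
  rw [eq_inv_of_mul_eq_one_left h1, inv_eq z2]

theorem cj (h : Vw Y q) (g : G) : Vw (H44.cj g Y) fun x => q (g⁻¹ * x * g) := by
  refine ⟨fun {a b} ha hb => ?_, fun a => ?_, fun {x} hx e => ?_⟩
  · rw [← h.mul (mem_cj.1 ha) (mem_cj.1 hb)]
    congr 1
    group
  · obtain ⟨x, hx, rfl⟩ := h.surj a
    exact ⟨_, conj_mem_cj hx, by simp [mul_assoc]⟩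
  · simpa using (H42.orderOf_conj' g⁻¹ x) ▸ (by simpa using h.odd (mem_cj.1 hx) e)

end Vw

theorem P2.symm {n : ℕ} {α β : Type} [DecidableEq α] [Fintype α] [DecidableEq β] {c : H}
    {A : β → Subgroup H} {π : H →* Perm α} {bl : α → β} {z t : G} {q q' : G → H}
    (h : P2 n c A π bl z q t q') : P2 n c A π bl t q' z q :=
  ⟨h.cf, h.vr, h.vl, h.zr, h.zl, h.t2, h.z2, mem_C1_comm.1 h.comm, h.fr, h.fl, h.nr, h.nl⟩

end Cfsg.Agent.SOL
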