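import Cfsg.Agent.SOL.Blk
import Cfsg.Agent.AN.CarDC

/-! Construction of the views (project SOL, notes/SOL.md section View). -/

set_option autoImplicit false

namespace Cfsg.Agent.SOL

open Equiv Subgroup H44 H59
open scoped commutatorElement

universe u

namespace ViewA

variable {H : Type u} [Group H] {n : ℕ} {c : H} {A : Subgroup H} {π : H → Perm (Fin n)}

/-- the action of the normaliser of a double cover of `A_n` on the points -/
structure P0 (c : H) (A : Subgroup H) (π : H → Perm (Fin n)) : Prop where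
  mul : ∀ {g h}, g ∈ normalizer (A : Set H) → h ∈ normalizer (A : Set H) → π (g * h) = π g * π h
  ker : ∀ {g}, g ∈ normalizer (A : Set H) → π g = 1 → ∀ a ∈ A, Commute g a
  kerK : ∀ {g}, (∀ a ∈ A, Commute g a) → π g = 1
  even : ∀ a ∈ A, Perm.sign (π a) = 1
  surj : ∀ σ, Perm.sign σ = 1 → ∃ a ∈ A, π a = σ
  kerA : ∀ a ∈ A, π a = 1 → a = 1 ∨ a = c
  dt : ∀ u ∈ A, ∀ {a b d e : Fin n}, [a, b, d, e].Nodup → π u = swap a b * swap d e → u * u = c

theorem norm_of_comm {g : H} (h : ∀ a ∈ A, Commute g a) : g ∈ normalizer (A : Set H) :=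
  centralizer_le_normalizer _ fun a ha => (h a ha).symm.eq

theorem exists_p0 [Finite H] (hb : Blk n c A) (hO : Oppof 2 A = ⊥) (cen : ∀ h, Commute h c) :
    ∃ π : H → Perm (Fin n), P0 c A π := by
  have h4 : 4 ≤ n := by have := hb.big; omega
  have h6 : n ≠ 6 := by have := hb.big; omega
  obtain ⟨ρ, h⟩ : ∃ ρ : A →* Perm (Fin n), AN.DC ρ ⟨c, hb.mem⟩ := by
    obtain ⟨ρ, h⟩ := hb.exists_dc
    let e := MulEquiv.ofBijective (QuotientGroup.mk' (pPrimeCore 2 A))
      ⟨(MonoidHom.ker_eq_bot_iff _).1 ((QuotientGroup.ker_mk' _).trans (Oppof_eq_bot_iff.1 hO)),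
        QuotientGroup.mk'_surjective _⟩
    exact ⟨_, e.symm_apply_apply ⟨c, hb.mem⟩ ▸ h.comp e⟩
  have nm : ∀ {g}, g ∈ normalizer (A : Set H) → ∀ {a}, a ∈ A → g * a * g⁻¹ ∈ A := fun hg a ha =>
    (mem_normalizer_iff.1 hg a).1 ha
  have uq : ∀ {σ τ : Perm (Fin n)}, (∀ a, σ * ρ a * σ⁻¹ = τ * ρ a * τ⁻¹) → σ = τ := fun {σ τ} e =>
    (inv_mul_eq_one.1 (STD.perm_eq_one h4 h6 (σ := τ⁻¹ * σ) fun x hx => by
      obtain ⟨a, rfl⟩ := h.surj x hx
      calc _ = τ⁻¹ * (σ * ρ a * σ⁻¹) * τ := by group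
        _ = _ := by rw [e]; group)).symm
  have ex : ∀ g : H, ∃ σ : Perm (Fin n), ∀ hg : g ∈ normalizer (A : Set H), ∀ a : A,
      ρ ⟨g * a * g⁻¹, nm hg a.2⟩ = σ * ρ a * σ⁻¹ := fun g => by
    by_cases hg : g ∈ normalizer (A : Set H)
    · obtain ⟨σ, hσ⟩ := STD.exists_perm h4 h6 h.toCen (A.normalizerMonoidHom ⟨g, hg⟩) fun a ha => by
        rcases (h.ker a).1 ha with rfl | rfl
        · rw [map_one, map_one]
        · exact (h.ker _).2 (.inr (Subtype.ext (mul_inv_eq_iff_eq_mul.2 (cen g))))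
      exact ⟨σ, fun _ => hσ⟩
    · exact ⟨1, fun e => absurd e hg⟩
  choose π hπ using ex
  have hρ : ∀ a (ha : a ∈ A), π a = ρ ⟨a, ha⟩ := fun a ha => uq fun b => by
    rw [← hπ a (le_normalizer ha), ← map_inv, ← map_mul, ← map_mul]
    rfl
  refine ⟨π, fun {g k} hg hk => uq fun a => ?_, fun {g} hg e a ha => ?_, fun {g} hg => uq fun a => ?_,
    fun a ha => hρ a ha ▸ h.even _, fun σ hσ => ?_, fun a ha e => ?_, fun u hu a b c d h1 h2 => ?_⟩
  · rw [← hπ _ (mul_mem hg hk), show π g * π k * ρ a * (π g * π k)⁻¹ =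
      π g * (π k * ρ a * (π k)⁻¹) * (π g)⁻¹ by group, ← hπ k hk, ← hπ g hg]
    exact congrArg ρ (Subtype.ext (by simp [mul_assoc]))
  · refine (H59.mem_centralizer_of_commutator_mem (hb.pqs.qs_of_commutator_eq_bot (by
      rw [hO, commutator_bot_left])) hg (fun l hl => ?_) a ha).symm
    have h1 := hπ g hg ⟨l, hl⟩
    rw [e, one_mul, inv_one, mul_one, ← mul_inv_eq_one, ← map_inv, ← map_mul, h.ker] at h1
    rcases h1 with h1 | h1 <;> rw [commutatorElement_def, show g * l * g⁻¹ * l⁻¹ = _ from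
      congrArg Subtype.val h1]
    exacts [one_mem _, fun a _ => cen a]
  · rw [← hπ g (norm_of_comm hg), one_mul, inv_one, mul_one]
    exact congrArg ρ (Subtype.ext (mul_inv_eq_iff_eq_mul.2 (hg a a.2)))
  · obtain ⟨a, rfl⟩ := h.surj σ hσ
    exact ⟨a, a.2, hρ a a.2⟩
  · exact ((h.ker ⟨a, ha⟩).1 (hρ a ha ▸ e)).imp (congrArg Subtype.val) (congrArg Subtype.val)
  · rw [← pow_two]
    exact congrArg Subtype.val (h.dt ⟨u, hu⟩ a b c d h1 (hρ u hu ▸ h2))

theorem P0.one (h : P0 c A π) : π 1 = 1 := h.kerK fun a _ => Commute.one_left a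

theorem cf_one [Finite H] (hb : Blk n c A) (hO : pPrimeCore 2 H = ⊥) (cen : ∀ h, Commute h c) (h : P0 c A π)
    (hN : ∀ g, g ∈ normalizer (A : Set H)) :
    CF n c (fun _ : Unit => A) (MonoidHom.mk' π fun g k => h.mul (hN g) (hN k)) fun _ => () :=
  ⟨hb.big, fun _ => by simp, ne_one_of_ord hb.ord, sq_of_ord hb.ord, cen, fun _ => hb.mem, fun _ _ _ _ => rfl,
    fun g _ a ha => (mem_normalizer_iff.1 (hN g) a).1 ha, fun _ _ e => absurd rfl e, fun ha => h.even _ ha,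
    fun _ σ hσ _ => h.surj σ hσ, fun ha => h.kerA _ ha, fun {g} _ e => h.ker (hN g) (Equiv.ext fun p => e p rfl),
    fun hu _ _ _ _ => h.dt _ hu, hO⟩

theorem cf_many [Finite H] (hb : Blk n c A) (hA : PComp 2 ⊤ A) (hO : pPrimeCore 2 H = ⊥)
    (cen : ∀ h, Commute h c) (h : P0 c A π) :
    ∃ (r : ℕ) (t : Fin r → H) (π' : H →* Perm (Fin r × Fin n)), CF n c (fun b => cj (t b) A) π' Prod.fst ∧
      ∀ g, ∃ b, g⁻¹ * t b ∈ normalizer (A : Set H) := by
  obtain ⟨r, t, inj, ex⟩ : ∃ (r : ℕ) (t : Fin r → H),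
      (∀ b b', (t b)⁻¹ * t b' ∈ normalizer (A : Set H) → b = b') ∧
        ∀ g, ∃ b, (t b)⁻¹ * g ∈ normalizer (A : Set H) := by
    let e := (Finite.equivFin (H ⧸ normalizer (A : Set H))).symm
    refine ⟨_, fun b => (e b).out, fun b b' hb => e.injective ?_, fun g => ⟨e.symm g, ?_⟩⟩
    · rw [← (e b).out_eq', ← (e b').out_eq']
      exact QuotientGroup.eq.2 hb
    · exact QuotientGroup.eq.1 (by rw [QuotientGroup.out_eq', e.apply_symm_apply])
  choose β hβ using ex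
  have uq : ∀ {g b}, (t b)⁻¹ * g ∈ normalizer (A : Set H) → β g = b := fun {g b} hg => inj _ _ (by
    simpa [mul_assoc] using mul_mem (hβ g) (inv_mem hg))
  let F : H →* Function.End (Fin r × Fin n) :=
    { toFun := fun g p => (β (g * t p.1), π ((t (β (g * t p.1)))⁻¹ * (g * t p.1)) p.2)
      map_one' := funext fun p => by
        have : β (1 * t p.1) = p.1 := uq (by simp)
        rw [this, one_mul, inv_mul_cancel, h.one]
        rfl
      map_mul' := fun g k => funext fun p => by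
        have : β (g * k * t p.1) = β (g * t (β (k * t p.1))) := uq (by
          simpa [mul_assoc] using mul_mem (hβ (g * t (β (k * t p.1)))) (hβ (k * t p.1)))
        change (_, _) = (_, _)
        rw [this, ← Perm.mul_apply, ← h.mul (hβ _) (hβ _)]
        simp [mul_assoc] }
  obtain ⟨π', hπ⟩ : ∃ π' : H →* Perm (Fin r × Fin n), ∀ g p,
      π' g p = (β (g * t p.1), π ((t (β (g * t p.1)))⁻¹ * (g * t p.1)) p.2) := ⟨F.toHomPerm, fun _ _ => rfl⟩
  have fix : ∀ {g b}, (t b)⁻¹ * g * t b ∈ normalizer (A : Set H) → ∀ i,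
      π' g (b, i) = (b, π ((t b)⁻¹ * g * t b) i) := fun {g b} hg i => by
    rw [hπ, uq (mul_assoc _ g _ ▸ hg), mul_assoc]
  have supp : ∀ {b a}, a ∈ cj (t b) A → ∀ p : Fin r × Fin n, p.1 ≠ b → π' a p = p := fun {b a} ha p hp => by
    have pc : ∀ b, PComp 2 ⊤ (cj (t b) A) := fun b => hA.conj (by rw [normalizer_eq_top]; trivial)
    have : ∀ x ∈ A, Commute ((t p.1)⁻¹ * a * t p.1) x := fun x hx => by
      rcases (pc b).eq_or_commutator_le (pc p.1) with e | e
      · exact absurd (inj _ _ (cj_eq_cj_iff.1 e)) hp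
      · rw [Oppof_top, hO] at e
        have := commutatorElement_eq_one_iff_commute.1 (mem_bot.1 (e (commutator_mem_commutator ha (conj_mem_cj hx))))
        simpa [mul_assoc] using this.map (MulAut.conj (t p.1)⁻¹)
    rw [show p = (p.1, p.2) from rfl, fix (norm_of_comm this), h.kerK this]
    rfl
  have ext : ∀ {b a}, a ∈ cj (t b) A → π' a = Perm.prodExtendRight b (π ((t b)⁻¹ * a * t b)) :=
    fun {b a} ha => Equiv.ext fun p => by
      by_cases hp : p.1 = b
      · obtain ⟨_, i⟩ := p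
        subst hp
        rw [fix (le_normalizer (mem_cj.1 ha)), Perm.prodExtendRight_apply_eq]
      · rw [supp ha p hp, Perm.prodExtendRight_apply_ne _ hp]
  refine ⟨r, t, π', ⟨hb.big, fun b => ?_, ne_one_of_ord hb.ord, sq_of_ord hb.ord, cen, fun b => mem_cj.2 ?_,
    fun g p p' e => by rw [hπ, hπ, e], fun g p a ha => mem_cj.2 ?_, supp, fun {b a} ha => ?_, fun b σ hσ hs => ?_,
    fun {b a} ha e => ?_, fun {g b} e a ha => ?_, fun {b u} hu p₁ p₂ p₃ p₄ nd e => ?_, hO⟩,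
    fun g => ⟨β g, by simpa using inv_mem (hβ g)⟩⟩
  · rw [show (Finset.univ.filter fun p : Fin r × Fin n => p.1 = b) = {b} ×ˢ Finset.univ by
      ext ⟨x, y⟩; simp [eq_comm]]
    simp
  · rw [mul_assoc, ← (cen _).eq, inv_mul_cancel_left]
    exact hb.mem
  · rw [hπ]
    simpa [mul_assoc] using (mem_normalizer_iff.1 (hβ (g * t p.1)) _).1 (mem_cj.1 ha)
  · rw [ext ha, Perm.sign_prodExtendRight]
    exact h.even _ (mem_cj.1 ha)
  · have h1 : ∀ i, σ (b, i) = (b, (σ (b, i)).2) := fun i => Prod.ext (by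
      by_contra hne
      exact hne (by rw [σ.injective (hs _ hne)])) rfl
    let τ : Perm (Fin n) := Equiv.ofBijective (fun i => (σ (b, i)).2) (Finite.injective_iff_bijective.1
      fun i j e => (Prod.ext_iff.1 (σ.injective ((h1 i).trans ((congrArg (Prod.mk b) e).trans (h1 j).symm)))).2)
    have h2 : σ = Perm.prodExtendRight b τ := Equiv.ext fun p => by
      by_cases hp : p.1 = b
      · obtain ⟨_, i⟩ := p
        subst hp
        rw [Perm.prodExtendRight_apply_eq]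
        exact h1 i
      · rw [hs p hp, Perm.prodExtendRight_apply_ne _ hp]
    obtain ⟨a, ha, e⟩ := h.surj τ (by rwa [h2, Perm.sign_prodExtendRight] at hσ)
    exact ⟨_, conj_mem_cj ha, by rw [ext (conj_mem_cj ha), h2, ← e]; simp [mul_assoc]⟩
  · rcases h.kerA _ (mem_cj.1 ha) (Equiv.ext fun i => by
      have := fix (le_normalizer (mem_cj.1 ha)) i
      rw [e] at this
      exact (Prod.ext_iff.1 this).2.symm) with e1 | e1
    · left
      simpa [mul_assoc] using congrArg (fun x => t b * x * (t b)⁻¹) e1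
    · right
      simpa [mul_assoc, (cen (t b)⁻¹).symm.eq] using congrArg (fun x => t b * x * (t b)⁻¹) e1
  · have h1 : β (g * t b) = b := by
      have := e (b, ⟨0, by have := hb.big; omega⟩) rfl
      rw [hπ] at this
      exact congrArg Prod.fst this
    have h2 : (t b)⁻¹ * g * t b ∈ normalizer (A : Set H) := by
      have := hβ (g * t b)
      rwa [h1, ← mul_assoc] at this
    have := h.ker h2 (Equiv.ext fun i => (Prod.ext_iff.1 ((fix h2 i).symm.trans (e _ rfl))).2) _ (mem_cj.1 ha)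
    simpa [mul_assoc] using this.map (MulAut.conj (t b))
  · have nd' := nd
    simp only [List.nodup_cons, List.mem_cons, List.not_mem_nil, or_false, not_or] at nd'
    obtain ⟨⟨n12, n13, n14⟩, ⟨n23, n24⟩, n34, -⟩ := nd'
    have mv : ∀ p : Fin r × Fin n, π' u p ≠ p → p = (b, p.2) := fun p hp =>
      Prod.ext (by_contra fun k => hp (supp hu p k)) rfl
    have e1 := mv p₁ (by rw [e, Perm.mul_apply, swap_apply_of_ne_of_ne n13 n14, swap_apply_left]; exact Ne.symm n12)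
    have e2 := mv p₂ (by rw [e, Perm.mul_apply, swap_apply_of_ne_of_ne n23 n24, swap_apply_right]; exact n12)
    have e3 := mv p₃ (by
      rw [e, Perm.mul_apply, swap_apply_left, swap_apply_of_ne_of_ne (Ne.symm n14) (Ne.symm n24)]; exact Ne.symm n34)
    have e4 := mv p₄ (by
      rw [e, Perm.mul_apply, swap_apply_right, swap_apply_of_ne_of_ne (Ne.symm n13) (Ne.symm n23)]; exact n34)
    rw [e1, e2, e3, e4] at e nd
    have := h.dt _ (mem_cj.1 hu) (a := p₁.2) (b := p₂.2) (d := p₃.2) (e := p₄.2)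
      (List.Nodup.of_map (Prod.mk b) nd) (Equiv.ext fun i => Prod.mk_right_injective b (by
        rw [← fix (le_normalizer (mem_cj.1 hu)), e, Perm.mul_apply, Perm.mul_apply,
          (Prod.mk_right_injective b).map_swap, (Prod.mk_right_injective b).map_swap]))
    simpa [mul_assoc, (cen (t b)⁻¹).symm.eq] using congrArg (fun x => t b * x * (t b)⁻¹) this

end ViewA

variable {G : Type u} [Group G] [Finite G] {n : ℕ} {z : G} {K : Subgroup G}

section

variable {H : Type u} [Group H] {β : Type} {q : G → H} {c : H} {A : β → Subgroup H}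
  {J : β → Subgroup G}

theorem View.mem_sup (h : View n z q c A J) {b : β} {x : G} :
    x ∈ J b ⊔ Oppof 2 (C1 z) ↔ x ∈ C1 z ∧ q x ∈ A b := by
  constructor
  · intro hx
    obtain ⟨a, ha, o, ho, rfl⟩ := H42.exists_mul_of_mem_sup
      ((h.pc b).le.trans (le_normalizer.trans (normalizer_le_normalizer_pPrimeCoreOf _))) hx
    refine ⟨mul_mem ((h.pc b).le ha) (Oppof_le _ ho), ?_⟩
    rw [h.vw.mul ((h.pc b).le ha) (Oppof_le _ ho), (h.ker (Oppof_le _ ho)).2 ho, mul_one]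
    exact h.map ha
  · rintro ⟨hx, hq⟩
    obtain ⟨a, ha, e⟩ := h.onto hq
    have ha' := (h.pc b).le ha
    rw [← mul_inv_cancel_left a x]
    refine mul_mem_sup ha ((h.ker (mul_mem (inv_mem ha') hx)).1 ?_)
    rw [h.vw.mul (inv_mem ha') hx, h.vw.inv ha', e, inv_mul_cancel]

theorem View.norm' (h : View n z q c A J) {b : β} {x : G} (hx : x ∈ C1 z) :
    x ∈ normalizer (J b : Set G) ↔ ∀ a ∈ A b, q x * a * (q x)⁻¹ ∈ A b := by
  constructor
  · intro hn a ha
    obtain ⟨a', ha', rfl⟩ := h.onto ha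
    rw [← h.vw.conj hx ((h.pc b).le ha')]
    exact h.map ((mem_normalizer_iff.1 hn a').1 ha')
  · intro hn
    refine (h.pc b).normalizer_sup_Oppof_le (H42.mem_normalizer_of_conj_mem fun y hy => ?_)
    obtain ⟨h1, h2⟩ := h.mem_sup.1 hy
    exact h.mem_sup.2 ⟨mul_mem (mul_mem hx h1) (inv_mem hx), h.vw.conj hx h1 ▸ hn _ h2⟩

end

theorem ViewA.exists_q (hb : Blk n z K) (hK : PComp 2 (C1 z) K) :
    ∃ (H : Type u) (_ : Group H) (_ : Finite H) (q : G → H) (c : H) (A : Subgroup H) (π : H → Perm (Fin n)),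
      View n z q c (fun _ : Unit => A) (fun _ => K) ∧ Blk n c A ∧ PComp 2 ⊤ A ∧ pPrimeCore 2 H = ⊥ ∧
        (∀ h, Commute h c) ∧ ViewA.P0 c A π := by
  classical
  let f := QuotientGroup.mk' (pPrimeCore 2 (C1 z))
  let q : G → C1 z ⧸ pPrimeCore 2 (C1 z) := fun g => if h : g ∈ C1 z then f ⟨g, h⟩ else 1
  have hq : ∀ {g} (h : g ∈ C1 z), q g = f ⟨g, h⟩ := fun h => dif_pos h
  have hk : ∀ {g}, g ∈ C1 z → (q g = 1 ↔ g ∈ Oppof 2 (C1 z)) := fun {g} h => by
    rw [hq h, ← MonoidHom.mem_ker, QuotientGroup.ker_mk', ← subgroupOf_Oppof, mem_subgroupOf]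
  have b1 := (hb.subgroupOf hK.le).map f ((Nat.coprime_two_right.1 pPrimeCore_coprime).of_dvd_nat
    (card_dvd_of_le (inf_le_left.trans (QuotientGroup.ker_mk' _).le)))
  have p1 := hK.subgroupOf.map f b1.pqs.ne_bot
  rw [map_top_of_surjective _ (QuotientGroup.mk'_surjective _)] at p1
  have cen : ∀ h, Commute h (f ⟨z, hK.le hb.mem⟩) := fun h => by
    obtain ⟨g, rfl⟩ := QuotientGroup.mk'_surjective _ h
    exact Commute.map (show Commute g ⟨z, hK.le hb.mem⟩ from Subtype.ext (mem_C1.1 g.2)) f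
  obtain ⟨π, hπ⟩ := ViewA.exists_p0 b1 (by
    rw [p1.Oppof_eq, Oppof_top, pPrimeCore_quotient_pPrimeCore, bot_inf_eq]) cen
  refine ⟨_, inferInstance, inferInstance, q, _, _, π, ⟨⟨fun ha hb => ?_, fun h => ?_, fun hg e => ?_⟩, hq _, hk,
    fun _ => hK, fun _ => hb, fun {_ a} ha => mem_map.2 ⟨⟨a, hK.le ha⟩, ha, (hq _).symm⟩, ?_⟩, b1, p1,
    pPrimeCore_quotient_pPrimeCore, cen, hπ⟩
  · rw [hq ha, hq hb, hq (mul_mem ha hb), ← map_mul]
    rfl
  · obtain ⟨g, rfl⟩ := QuotientGroup.mk'_surjective _ h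
    exact ⟨g, g.2, hq g.2⟩
  · exact odd_of_mem ((hk hg).1 e)
  · rintro _ _ ⟨a, ha, rfl⟩
    exact ⟨a, ha, hq a.2⟩

theorem exists_view (hb : Blk n z K) (hK : PComp 2 (C1 z) K) :
    ∃ (H : Type u) (_ : Group H) (_ : Finite H) (r : ℕ) (q : G → H) (c : H) (A : Fin r → Subgroup H)
      (π : H →* Perm (Fin r × Fin n)) (J : Fin r → Subgroup G),
      CF n c A π Prod.fst ∧ View n z q c A J ∧ (∃ b, J b = K) ∧
        ∀ g ∈ C1 z, ∃ b, J b = cj g K := by
  obtain ⟨H, _, _, q, c, A, π, v, b1, p1, hO, cen, hπ⟩ := ViewA.exists_q hb hK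
  obtain ⟨r, t, π', cf, ex⟩ := ViewA.cf_many b1 p1 hO cen hπ
  choose g hg e using fun b => v.vw.surj (t b)
  have hz : ∀ b, g b * z * (g b)⁻¹ = z := fun b => mul_inv_eq_iff_eq_mul.2 (mem_C1.1 (hg b))
  have key : ∀ k ∈ C1 z, ∃ b, cj (g b) K = cj k K := fun k hk => (ex (q k)).imp fun b h =>
    cj_eq_cj_iff.2 ((v.norm' (b := ()) (mul_mem (inv_mem hk) (hg b))).2 fun a ha => by
      rw [v.vw.mul (inv_mem hk) (hg b), v.vw.inv hk, e]
      exact (mem_normalizer_iff.1 h a).1 ha)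
  refine ⟨H, inferInstance, inferInstance, r, q, c, _, π', fun b => cj (g b) K, cf,
    ⟨v.vw, v.qz, v.ker, fun b => ?_, fun b => ?_, fun {b a} ha => mem_cj.2 ?_, fun {b h} hh => ?_⟩,
    by simpa only [cj_one] using key 1 (one_mem _), key⟩
  · have := pcomp_cj hK (g b)
    rwa [cj_C1, hz] at this
  · have := hb.conj (g b)
    rwa [hz] at this
  · have h1 := hK.le (mem_cj.1 ha)
    have h2 : a ∈ C1 z := by
      rwa [mul_mem_cancel_right (hg b), mul_mem_cancel_left (inv_mem (hg b))] at h1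
    have := v.map (b := ()) (mem_cj.1 ha)
    rwa [v.vw.mul (mul_mem (inv_mem (hg b)) h2) (hg b), v.vw.mul (inv_mem (hg b)) h2, v.vw.inv (hg b), e] at this
  · obtain ⟨a, ha, e1⟩ := v.onto (b := ()) (mem_cj.1 hh)
    exact ⟨_, conj_mem_cj ha, by rw [v.vw.conj (hg b) (hK.le ha), e1, e]; group⟩

theorem exists_view1 (hb : Blk n z K) (hK : PComp 2 (C1 z) K)
    (hn : C1 z ≤ normalizer (K : Set G)) :
    ∃ (H : Type u) (_ : Group H) (_ : Finite H) (q : G → H) (c : H) (A : Subgroup H)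
      (π : H →* Perm (Fin n)), CF n c (fun _ : Unit => A) π (fun _ => ()) ∧
        View n z q c (fun _ : Unit => A) fun _ => K := by
  obtain ⟨H, _, _, q, c, A, π, v, b1, p1, hO, cen, hπ⟩ := ViewA.exists_q hb hK
  refine ⟨H, inferInstance, inferInstance, q, c, A, _, ViewA.cf_one b1 hO cen hπ fun h => ?_, v⟩
  obtain ⟨g, hg, rfl⟩ := v.vw.surj h
  exact H42.mem_normalizer_of_conj_mem ((v.norm' (b := ()) hg).1 (hn hg))

variable {H : Type u} [Group H] {β : Type} {q : G → H} {c : H} {A : β → Subgroup H}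
  {J : β → Subgroup G}

theorem View.conj (h : View n z q c A J) (g : G) :
    View n (g * z * g⁻¹) (fun x => q (g⁻¹ * x * g)) c A fun b => cj g (J b) := by
  refine ⟨cj_C1 g z ▸ h.vw.cj g, by simpa [mul_assoc] using h.qz, fun {x} hx => ?_,
    fun b => cj_C1 g z ▸ pcomp_cj (h.pc b) g, fun b => (h.blk b).conj g, fun ha => h.map (mem_cj.1 ha),
    fun hh => ?_⟩
  · rw [← cj_C1] at hx ⊢
    rw [← cj_Oppof, mem_cj]
    exact h.ker (mem_cj.1 hx)
  · obtain ⟨a, ha, rfl⟩ := h.onto hh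
    exact ⟨_, conj_mem_cj ha, by simp [mul_assoc]⟩

theorem View.mem (h : View n z q c A J) {b : β} {x : G} (hx : x ∈ C1 z) (hq : q x ∈ A b) {k : ℕ}
    (x2 : x ^ 2 ^ k = 1) : x ∈ J b :=
  (h.pc b).pGen_sup_Oppof.le
    (le_pGen (zpowers_le.2 (h.mem_sup.2 ⟨hx, hq⟩)) (STD.isPGroup_zpowers x2) (mem_zpowers x))

theorem View.mem_Dc (h : View n z q c A J) {b : β} {x : G} (hx : x ∈ C1 z) :
    x ∈ Dc 2 (C1 z) (J b) ↔ ∀ a ∈ A b, Commute (q x) a := by
  have k : ∀ a ∈ J b, ⁅x, a⁆ ∈ Oppof 2 (C1 z) ↔ Commute (q x) (q a) := fun a ha => by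
    have ha' := (h.pc b).le ha
    rw [← h.ker (g := ⁅x, a⁆) (mul_mem (mul_mem (mul_mem hx ha') (inv_mem hx)) (inv_mem ha')), h.vw.commutator hx ha',
      commutatorElement_eq_one_iff_commute]
  rw [H59.mem_Dc]
  refine ⟨fun h1 a ha => ?_, fun h1 => ⟨hx, fun a ha => (k a ha).2 (h1 _ (h.map ha))⟩⟩
  obtain ⟨a', ha', rfl⟩ := h.onto ha
  exact (k a' ha').1 (h1.2 a' ha')

theorem View.norm (h : View n z q c A J) {b : β} {x : G} (hx : x ∈ C1 z) :
    x ∈ normalizer (J b : Set G) ↔ ∀ a ∈ A b, q x * a * (q x)⁻¹ ∈ A b := h.norm' hx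

theorem CB.conj {A : Subgroup H} {π : H →* Perm (Fin n)} (h : CB n z K q c A π) (g : G) :
    CB n (g * z * g⁻¹) (cj g K) (fun x => q (g⁻¹ * x * g)) c A π := by
  refine ⟨h.cx.conj g, h.cf, h.vw.conj g, h.small, ?_, ?_⟩
  · rw [← cj_C1]
    exact (map_mono h.norm).trans (H42.cj_normalizer g K).le
  · obtain ⟨k, h1, h2⟩ := h.ex
    exact ⟨g * k * g⁻¹, mem_cj.2 (by simpa [mul_assoc] using h1), fun e => h2 (by
      simpa [mul_assoc] using congrArg (fun x => g⁻¹ * x * g) e)⟩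

end Cfsg.Agent.SOL
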