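import Cfsg.Agent.SOL.Pump
import Cfsg.Agent.SOL.View
import Cfsg.Agent.SOL.P2

/-! The dichotomy for commuting conjugates of `z` (project SOL). -/

set_option autoImplicit false

namespace Cfsg.Agent.SOL

open Equiv Subgroup H44 H59
open scoped commutatorElement

universe u

variable {G : Type u} [Group G] [Finite G] [IsSimpleGroup G] {n : ℕ} {z : G} {K : Subgroup G}

section

variable {H : Type u} [Group H] {α β : Type} [DecidableEq α] [Fintype α] [DecidableEq β] {c : H}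
  {A : β → Subgroup H} {π : H →* Perm α} {bl : α → β} {s t : G} {q q' : G → H}
  {J J' : β → Subgroup G}

/-- two distinct commuting involutions with views -/
structure Pr (n : ℕ) (c : H) (A : β → Subgroup H) (π : H →* Perm α) (bl : α → β) (s : G) (q : G → H)
    (J : β → Subgroup G) (t : G) (q' : G → H) (J' : β → Subgroup G) : Prop where
  rel : Rel n G
  cf : CF n c A π bl
  vs : View n s q c A J
  vt : View n t q' c A J'
  comm : t ∈ C1 s
  ne : t ≠ s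

set_option linter.unusedSectionVars false

theorem View.sq (h : View n s q c A J) (b : β) : s * s = 1 := sq_of_ord (h.blk b).ord

theorem View.triv (h : View n s q c A J) (cf : CF n c A π bl) (e : TypeC s t) : π (q t) = 1 :=
  Equiv.ext fun p => have h1 := e _ (h.pc (bl p)) (h.blk _).mem
    cf.kerK ((h.mem_Dc (Dc_le _ _ h1)).1 h1) rfl

theorem comm_diag {a t : H} (t2 : t * t = 1) (e : Commute (t * a * t⁻¹) a) :
    Commute (a * (t * a * t⁻¹)) t := by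
  change a * (t * a * t⁻¹) * t = t * (a * (t * a * t⁻¹))
  rw [mul_assoc a, inv_mul_cancel_right, ← e.eq, inv_eq t2]
  simp only [← mul_assoc, t2, one_mul]

namespace Pr

theorem symm (h : Pr n c A π bl s q J t q' J') : Pr n c A π bl t q' J' s q J :=
  ⟨h.rel, h.cf, h.vt, h.vs, mem_C1_comm.1 h.comm, h.ne.symm⟩

theorem typeC (h : Pr n c A π bl s q J t q' J') {b : β} (e : t ∈ Dc 2 (C1 s) (J b)) : TypeC t s :=
  typeC_of h.rel (h.vs.blk b) (h.vs.pc b) (h.vt.blk b).ord h.ne e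
    (C1_ne_top (h.vs.blk b).pqs (ne_one_of_ord (h.vt.blk b).ord))

theorem sym (h : Pr n c A π bl s q J t q' J') {b : β} (e : ∀ p, bl p = b → π (q t) p = p) :
    TypeC s t ∧ TypeC t s :=
  have h1 := h.typeC ((h.vs.mem_Dc h.comm).2 (h.cf.ker e))
  ⟨h.symm.typeC (h1 _ (h.vt.pc b) (h.vt.blk b).mem), h1⟩

theorem ni (h : Pr n c A π bl s q J t q' J') (b : β) (fl : ∀ p, bl (π (q t) p) = bl p)
    (fr : ∀ p, bl (π (q' s) p) = bl p) : TypeC s t ∧ TypeC t s ∨ P2 n c A π bl s q t q' := by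
  by_cases nl : ∀ b, ∃ p, bl p = b ∧ π (q t) p ≠ p
  · by_cases nr : ∀ b, ∃ p, bl p = b ∧ π (q' s) p ≠ p
    · exact .inr ⟨h.cf, h.vs.vw, h.vt.vw, h.vs.qz, h.vt.qz, h.vs.sq b, h.vt.sq b, h.comm, fl, fr, nl, nr⟩
    · push Not at nr
      exact .inl (h.symm.sym nr.choose_spec).symm
  · push Not at nl
    exact .inl (h.sym nl.choose_spec)

theorem ni2 (h : Pr n c A π bl s q J t q' J') {x y : α} (hne : bl x ≠ bl y)
    (fl : ∀ p, bl (π (q t) p) = bl p) (fr : ∀ p, bl (π (q' s) p) = bl p) : π (q t) = 1 :=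
  (h.ni (bl x) fl fr).elim (fun e => h.vs.triv h.cf e.1) fun e => (hne (e.one x y)).elim

/-- the diagonal of two blocks interchanged by `t` acts trivially in the view of `t` -/
theorem diag (h : Pr n c A π bl s q J t q' J') {p : α} (hp : bl (π (q t) p) ≠ bl p) {a : H}
    (ha : a ∈ A (bl p)) : ∃ w ∈ C1 s, w ∈ C1 t ∧ q w = a * (q t * a * (q t)⁻¹) ∧ π (q' w) = 1 := by
  have s2 := h.vs.sq (bl p)
  have t2 := h.vt.sq (bl p)
  have hJ := h.vs.blk (bl p)
  have vl := h.vs.vw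
  have vr := h.vt.vw
  have k : ∀ {x y}, x ∈ A (bl p) → y ∈ A (bl p) → Commute (q t * x * (q t)⁻¹) y :=
    fun hx hy => h.cf.comm_of_ne hp (h.cf.norm _ p hx) hy
  let N : Subgroup G :=
    { carrier := {x | x ∈ J (bl p) ∧ ∃ w ∈ C1 s, w ∈ C1 t ∧ q w = q x * (q t * q x * (q t)⁻¹) ∧
        π (q' w) = 1}
      one_mem' := ⟨one_mem _, 1, one_mem _, one_mem _, by simp [vl.one], by rw [vr.one, map_one]⟩
      mul_mem' := by
        rintro x y ⟨hx, v, h1, h2, h3, h4⟩ ⟨hy, w, h5, h6, h7, h8⟩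
        refine ⟨mul_mem hx hy, _, mul_mem h1 h5, mul_mem h2 h6, ?_,
          by rw [vr.mul h2 h6, map_mul, h4, h8, one_mul]⟩
        rw [vl.mul h1 h5, h3, h7, vl.mul (hJ.le hx) (hJ.le hy),
          (k (h.vs.map hx) (h.vs.map hy)).mul_mul_mul_comm, conj_mul]
      inv_mem' := by
        rintro x ⟨hx, v, h1, h2, h3, h4⟩
        refine ⟨inv_mem hx, _, inv_mem h1, inv_mem h2, ?_, by rw [vr.inv h2, map_inv, h4, inv_one]⟩
        rw [vl.inv h1, h3, vl.inv (hJ.le hx), ← (k (h.vs.map hx) (h.vs.map hx)).eq, mul_inv_rev,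
          conj_inv] }
  have hN : J (bl p) ≤ normalizer (N : Set G) := fun y hy => H42.mem_normalizer_of_conj_mem (by
    rintro x ⟨hx, v, h1, h2, h3, h4⟩
    have y0 := h.vs.map hy
    obtain ⟨d, dz, e1, dt⟩ := vl.lift h.comm t2 (a := q y * (q t * q y * (q t)⁻¹)) (by
      exact comm_diag (vl.sq h.comm t2) (k y0 y0))
    replace dt := mem_C1.2 dt
    refine ⟨mul_mem (mul_mem hy hx) (inv_mem hy), _, mul_mem (mul_mem dz h1) (inv_mem dz),
      mul_mem (mul_mem dt h2) (inv_mem dt), ?_,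
      by rw [vr.conj dt h2, map_mul, map_mul, h4, mul_one, map_inv, mul_inv_cancel]⟩
    rw [vl.conj dz h1, e1, h3, vl.conj (hJ.le hy) (hJ.le hx), (k y0 (h.vs.map hx)).mul_mul_mul_comm,
      conj_mul, ← (k y0 y0).eq, mul_inv_rev, conj_inv,
      (k (mul_mem y0 (h.vs.map hx)) (inv_mem y0)).mul_mul_mul_comm, conj_mul])
  obtain ⟨y, hy, rfl⟩ := h.vs.onto ha
  refine ((hJ.pqs.normal N (fun x hx => hx.1) hN).resolve_right (fun e => ?_) ▸ hy : y ∈ N).2
  obtain ⟨x, hx, x2, x1, xs⟩ := hJ.exists_inv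
  have xz := hJ.le hx
  have e4 : q ((x * t) ^ 4) = 1 := by
    have := inv_eq (vl.sq h.comm t2)
    have e1 : q x * q t * (q x * q t) = q x * (q t * q x * (q t)⁻¹) := by rw [this]; group
    rw [vl.pow (mul_mem xz h.comm), vl.mul xz h.comm, show 4 = 2 * 2 from rfl, pow_mul, pow_two,
      pow_two, e1, (k (h.vs.map hx) (h.vs.map hx)).mul_mul_mul_comm, conj_mul, vl.sq xz x2]
    simp
  have h4 := pow_mem (mul_mem xz h.comm) 4
  obtain ⟨o, ho, o4⟩ := dih4 x2 t2 (vl.odd h4 e4)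
  have oO : o ∈ Oppof 2 (C1 s) := zpowers_le.2 ((h.vs.ker h4).1 e4) ho
  have y0 := H42.conj_mem_of_mem_normalizer ((h.vs.pc (bl p)).Oppof_le_normalizer oO) hx
  have y2 := H42.conj_mul_self x2 o
  have y1 : o * x * o⁻¹ ≠ 1 := fun e => x1 (by simpa using e)
  have ys : o * x * o⁻¹ ≠ s := fun e => xs (by
    rw [mul_inv_eq_iff_eq_mul, ← mem_C1.1 (Oppof_le _ oO)] at e
    exact mul_left_cancel e)
  generalize o * x * o⁻¹ = y at o4 y0 y2 y1 ys
  have yz := hJ.le y0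
  have hL := diag_mem s2 (h.vs.pc (bl p)) h.comm (h.vt.blk (bl p)).ord
    (fun e => hp (h.cf.fix_of_norm ((h.vs.norm h.comm).1 e) rfl)) y0 y2 o4
  have wt := Lof_le _ hL
  have e1 : (y * t) ^ 2 = y * t * y⁻¹ * t := by rw [inv_eq y2, pow_two, mul_assoc (y * t)]
  have e2 : y * t * y⁻¹ = (y * t) ^ 2 * t := by rw [e1, mul_assoc _ t t, t2, mul_one]
  have e3 : π (q' (y * t * y⁻¹)) = π (q' ((y * t) ^ 2)) := by
    rw [e2, vr.mul wt (self_mem_C1 t), h.vt.qz, map_mul, h.cf.map_c, mul_one]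
  have yN : y ∈ N := ⟨y0, _, pow_mem (mul_mem yz h.comm) 2, wt, by
    rw [pow_two, vl.mul (mul_mem yz h.comm) (mul_mem yz h.comm), vl.mul yz h.comm,
      inv_eq (vl.sq h.comm t2)]
    group, by
    by_cases e5 : y * t * y⁻¹ = t
    · rw [e1, e5, t2, vr.one, map_one]
    have fl : ∀ x, bl (π (q' (y * t * y⁻¹)) x) = bl x := fun x => e3 ▸ h.cf.fix_of_norm
      ((h.vt.norm wt).1 ((h.vt.pc _).Lof_le_normalizer hL)) rfl
    exact e3 ▸ ni2 ⟨h.rel, h.cf, h.vt, h.vt.conj y, e2 ▸ mul_mem wt (self_mem_C1 t), e5⟩ hp fl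
      (by simpa only [inv_eq y2] using fl)⟩
  exact (hJ.eq_of_inv y0 y2 fun a ha => odd_of_mem (e (commutator_mem_commutator yN ha))).elim y1 ys

/-- the diagonal of an element of order four, as an involution commuting with `x` -/
theorem diag2 (h : Pr n c A π bl s q J t q' J') {p : α} (hp : bl (π (q t) p) ≠ bl p) {a : H}
    (ha : a ∈ A (bl p)) (a2 : a * a = c) {x : G} (xs : x ∈ C1 s) (xt : x ∈ C1 t) (x2 : x * x = 1)
    (hx : π (q x) = 1) : ∃ w ∈ C1 s, w ∈ C1 t ∧ w * w = 1 ∧ Commute w x ∧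
      q w = a * (q t * a * (q t)⁻¹) ∧ π (q' w) = 1 := by
  have vl := h.vs.vw
  have vr := h.vt.vw
  obtain ⟨w, ws, wt, e1, e2⟩ := h.diag hp ha
  have k : ∀ {b a}, a ∈ A b → Commute (q x) a := fun ha =>
    h.cf.ker (fun p _ => by rw [hx, Perm.one_apply]) _ ha
  have h0 := h.cf.norm (q t) p ha
  obtain ⟨j, e3, e4⟩ := vl.adjust ws xs x2 (e1 ▸ ((k ha).mul_right (k h0)).symm)
  have k2 : ∀ {y}, x ∈ C1 y → w ∈ C1 y → x * (w * x * w⁻¹) ∈ C1 y := fun h1 h2 =>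
    mul_mem h1 (mul_mem (mul_mem h2 h1) (inv_mem h2))
  have vs := mul_mem (pow_mem (k2 xs ws) j) ws
  have vt := mul_mem (pow_mem (k2 xt wt) j) wt
  have e5 : π (q' ((x * (w * x * w⁻¹)) ^ j * w)) = 1 := by
    rw [vr.mul (pow_mem (k2 xt wt) j) wt, vr.pow (k2 xt wt), vr.mul xt (mul_mem (mul_mem wt xt)
      (inv_mem wt)), vr.conj wt xt]
    simp only [map_mul, map_pow, map_inv, e2, one_mul, inv_one, mul_one]
    rw [← map_mul, vr.sq xt x2, map_one, one_pow]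
  generalize (x * (w * x * w⁻¹)) ^ j * w = v at e3 e4 vs vt e5
  obtain ⟨m, e6, e7⟩ := vl.exists_inv vs (by
    rw [e3, e1, (h.cf.comm_of_ne hp h0 ha).mul_mul_mul_comm, conj_mul, a2, (h.cf.cen _).eq,
      mul_inv_cancel_right, h.cf.sq])
  exact ⟨_, pow_mem vs m, pow_mem vt m, e6, e4.pow_left m, e7.trans (e3.trans e1),
    by rw [vr.pow vt, map_pow, e5, one_pow]⟩

theorem exists_dt (h : Pr n c A π bl s q J t q' J') {p : α} (hp : bl (π (q t) p) ≠ bl p) :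
    ∃ a ∈ A (bl p), a * a = c ∧ π (a * (q t * a * (q t)⁻¹)) ≠ 1 := by
  obtain ⟨x, x1, x2⟩ := h.cf.exists_pt (bl p) [p] (by simp)
  obtain ⟨y, y1, y2⟩ := h.cf.exists_pt (bl p) [p, x] (by simp)
  obtain ⟨w, w1, w2⟩ := h.cf.exists_pt (bl p) [p, x, y] (by simp)
  simp only [List.mem_cons, List.not_mem_nil, or_false, not_or] at x2 y2 w2
  obtain ⟨a, ha, e1, e2⟩ := h.cf.exists_dt (b := bl p) (p₁ := p) (p₂ := x) (p₃ := y) (p₄ := w)
    (by simp; grind) (by simp [x1, y1, w1])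
  refine ⟨a, ha, e2, fun e => x2 ?_⟩
  have := congrArg (fun σ : Perm α => σ p) e
  simp only [map_mul π a, Perm.mul_apply, h.cf.supp (h.cf.norm (q t) p ha) p hp.symm, e1,
    swap_apply_of_ne_of_ne (Ne.symm y2.1) (Ne.symm w2.1), swap_apply_left, Perm.one_apply] at this
  exact this

/-- a third conjugate `t w s` -/
theorem third (h : Pr n c A π bl s q J t q' J') {p : α} (hp : bl (π (q t) p) ≠ bl p) {x : G}
    (xs : x ∈ C1 s) (xt : x ∈ C1 t) (x2 : x * x = 1) (hx : π (q x) = 1) :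
    ∃ g ∈ C1 s, ∃ w ∈ C1 t, Commute g x ∧ g * t * g⁻¹ = t * w * s ∧ π (q' w) = 1 ∧
      g * t * g⁻¹ ≠ t ∧ q (g⁻¹ * t * g) = q (g * t * g⁻¹) := by
  have vl := h.vs.vw
  have s2 := h.vs.sq (bl p)
  have t2 := h.vt.sq (bl p)
  obtain ⟨a, ha, a2, a1⟩ := h.exists_dt hp
  obtain ⟨w, ws, wt, w2, wx, e1, e2⟩ := h.diag2 hp ha a2 xs xt x2 hx
  obtain ⟨g, gs, rfl, gx⟩ := vl.lift xs x2 (h.cf.ker (fun p _ => by rw [hx, Perm.one_apply]) _ ha).symm
  have ts : Commute t s := mem_C1.1 h.comm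
  have c1 : Commute w t := mem_C1.1 wt
  have c2 : Commute w s := mem_C1.1 ws
  have h1 := mul_mem (mul_mem gs h.comm) (inv_mem gs)
  have h2 := mul_mem (mul_mem h.comm ws) (self_mem_C1 s)
  have i1 : (q g)⁻¹ = q g * c := by rw [inv_eq_iff_mul_eq_one, ← mul_assoc, a2, h.cf.sq]
  obtain ⟨j, e3, e4⟩ := vl.conj_of_eq h1 h2 (H42.conj_mul_self t2 g) (by
    rw [(ts.mul_left c2).symm.mul_mul_mul_comm, c1.mul_mul_mul_comm, t2, w2, s2, one_mul, one_mul]) (by
    rw [vl.conj gs h.comm, ← c1.eq, vl.mul (mul_mem ws h.comm) (self_mem_C1 s), vl.mul ws h.comm, e1,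
      h.vs.qz, i1]
    group)
  have os := pow_mem (mul_mem h2 h1) j
  have ox : Commute ((t * w * s * (g * t * g⁻¹)) ^ j) x := by
    have c3 : Commute t x := (mem_C1.1 xt).symm
    exact (((c3.mul_left wx).mul_left (mem_C1.1 xs).symm).mul_left
      ((gx.mul_left c3).mul_left gx.inv_left)).pow_left j
  generalize (t * w * s * (g * t * g⁻¹)) ^ j = o at e3 e4 os ox
  have e5 : o * g * t * (o * g)⁻¹ = t * w * s := by rw [← e3]; group
  have e6 : q (o * g) = q g := by rw [vl.mul os gs, e4, one_mul]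
  have ks := mul_mem os gs
  refine ⟨o * g, ks, w, wt, ox.mul_left gx, e5, e2, fun e => a1 ?_, ?_⟩
  · rw [e5, mul_assoc, mul_eq_left, mul_eq_one_iff_eq_inv, inv_eq s2] at e
    rw [← e1, e, h.vs.qz, h.cf.map_c]
  · rw [vl.mul (mul_mem (inv_mem ks) h.comm) ks, vl.mul (inv_mem ks) h.comm, vl.inv ks,
      vl.conj ks h.comm, e6, i1, mul_assoc (q g) c, ← (h.cf.cen _).eq, (h.cf.cen (q g)).eq]
    group

theorem not_both (h : Pr n c A π bl s q J t q' J') {p : α} (hp : bl (π (q t) p) ≠ bl p) {p' : α}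
    (hp' : bl (π (q' s) p') ≠ bl p') : False := by
  have vr := h.vt.vw
  have st := h.symm.comm
  obtain ⟨a, ha, a2, a1⟩ := h.symm.exists_dt hp'
  obtain ⟨x, xt, xs, x2, -, e1, e2⟩ := h.symm.diag2 hp' ha a2 (one_mem _) (one_mem _) (mul_one 1)
    (by rw [vr.one, map_one])
  obtain ⟨g, gs, w, wt, gx, e3, e4, e5, -⟩ := h.third hp xs xt x2 e2
  have h1 := mul_mem (self_mem_C1 t) wt
  have e6 : q' (g * t * g⁻¹) = c * q' w * q' s := by
    rw [e3, vr.mul h1 st, vr.mul (self_mem_C1 t) wt, h.vt.qz]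
  have h' : Pr n c A π bl t q' J' _ _ _ := ⟨h.rel, h.cf, h.vt, h.vt.conj g, e3 ▸ mul_mem h1 st, e5⟩
  obtain ⟨v, vt, vg, e7, e8⟩ := h'.diag (p := p')
    (by rwa [e6, map_mul, map_mul, h.cf.map_c, e4, one_mul, one_mul]) ha
  have e9 : q' v = q' x := by
    have h2 := h.cf.norm (q' s) p' ha
    have h3 := (h.cf.ker (fun p _ => by rw [e4, Perm.one_apply]) _ h2).eq
    rw [e7, e1, e6]
    congr 1
    calc c * q' w * q' s * a * (c * q' w * q' s)⁻¹ =
        c * (q' w * (q' s * a * (q' s)⁻¹) * (q' w)⁻¹) * c⁻¹ := by group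
      _ = _ := by rw [h3, mul_inv_cancel_right, ← (h.cf.cen _).eq, mul_inv_cancel_right]
  have xg : x ∈ C1 (g * t * g⁻¹) := mem_C1.2
    ((gx.symm.mul_right (mem_C1.1 xt)).mul_right gx.symm.inv_right)
  have vg' := h'.vt.vw
  have o1 := P2.odd_map (π := π) vg' (mul_mem (inv_mem vg) xg) (vr.odd (mul_mem (inv_mem vt) xt)
    (by rw [vr.mul (inv_mem vt) xt, vr.inv vt, e9, inv_mul_cancel]))
  rw [vg'.mul (inv_mem vg) xg, vg'.inv vg, map_mul, map_inv, e8, inv_one, one_mul, mul_assoc,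
    ← gx.eq, inv_mul_cancel_left] at o1
  exact a1 (e1 ▸ eq_one_of_odd o1 (k := 1) (by rw [pow_one, pow_two, ← map_mul, vr.sq xt x2, map_one]))

theorem fix (h : Pr n c A π bl s q J t q' J') (p : α) : bl (π (q t) p) = bl p := by
  by_contra hp
  have fr : ∀ p, bl (π (q' s) p) = bl p := fun p' => by_contra (h.not_both hp)
  have vl := h.vs.vw
  have vr := h.vt.vw
  have st := h.symm.comm
  have t2 := h.vt.sq (bl p)
  obtain ⟨g, gs, w, wt, -, e3, e4, e5, e6⟩ := h.third hp (one_mem _) (one_mem _) (mul_one 1)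
    (by rw [vl.one, map_one])
  have h1 := mul_mem (self_mem_C1 t) wt
  have e7 : π (q' (g * t * g⁻¹)) = π (q' s) := by
    rw [e3, vr.mul h1 st, vr.mul (self_mem_C1 t) wt, h.vt.qz, map_mul, map_mul, h.cf.map_c, e4,
      one_mul, one_mul]
  have h2 : g * t * g⁻¹ ∈ C1 t := e3 ▸ mul_mem h1 st
  have h3 : g⁻¹ * t * g ∈ C1 t := mem_cj.1 (cj_C1 g t ▸ mem_C1_comm.1 h2)
  obtain ⟨j, e8, -⟩ := vl.conj_of_eq (mul_mem (mul_mem gs h.comm) (inv_mem gs))
    (mul_mem (mul_mem (inv_mem gs) h.comm) gs) (H42.conj_mul_self t2 g)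
    (by simpa using H42.conj_mul_self t2 g⁻¹) e6.symm
  have ot := pow_mem (mul_mem h3 h2) j
  generalize (g⁻¹ * t * g * (g * t * g⁻¹)) ^ j = o at e8 ot
  have := ni2 ⟨h.rel, h.cf, h.vt, h.vt.conj g, h2, e5⟩ hp (e7 ▸ fr) fun x => by
    rw [← e8, vr.conj ot h2, map_mul, map_mul, e7, Perm.mul_apply, Perm.mul_apply,
      h.cf.blk _ (fr _), ← Perm.mul_apply, ← map_mul, mul_inv_cancel, map_one, Perm.one_apply]
  have := h.vs.triv h.cf (h.symm.sym (b := bl p) fun x _ => by rw [← e7, this, Perm.one_apply]).2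
  exact hp (by rw [this, Perm.one_apply])

end Pr

end

theorem Cx.dich (h : Cx n z K) {g : G} (hc : g * z * g⁻¹ ∈ C1 z) (hne : g * z * g⁻¹ ≠ z) :
    TypeC z (g * z * g⁻¹) ∧ TypeC (g * z * g⁻¹) z ∨
      g * z * g⁻¹ ∈ K ∧ g⁻¹ * z * g ∈ K ∧ C1 z ≤ normalizer (K : Set G) ∧ n ≤ 11 := by
  obtain ⟨H, _, _, r, q, c, A, π, J, cf, vw, ⟨b, rfl⟩, -⟩ := exists_view h.blk h.pc
  have h1 : Pr n c A π Prod.fst z q J _ _ _ := ⟨h.rel, cf, vw, vw.conj g, hc, hne⟩
  have : Nonempty (Fin r) := ⟨b⟩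
  exact (h1.ni b h1.fix h1.symm.fix).imp_right fun e =>
    ⟨vw.mem hc (e.mem b) (k := 1) (by rw [pow_one, pow_two, e.t2]),
      mem_cj.1 (h1.vt.mem h1.symm.comm (e.symm.mem b) (k := 1) (by rw [pow_one, pow_two, e.z2])),
      fun x hx => (vw.norm hx).2 fun a ha => e.conj_mem _ ha, e.small⟩

end Cfsg.Agent.SOL
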