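import Cfsg.Agent.SOL.Dich

/-! Small tools for `KL1` and `CaseA` (project SOL). -/

set_option autoImplicit false

namespace Cfsg.Agent.SOL.K1

open Equiv Subgroup H44 H59
open scoped commutatorElement

universe u

variable {G : Type u} [Group G]

theorem mem_ncj {g x : G} {X : Subgroup G} :
    x ∈ normalizer (cj g X : Set G) ↔ g⁻¹ * x * g ∈ normalizer (X : Set G) := by
  rw [mem_normalizer_iff_cj, ← cj_mul, cj_eq_cj_iff, mul_assoc]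

theorem sqc {s t : G} (s2 : s * s = 1) (t2 : t * t = 1) : (s * t) ^ 2 = ⁅s, t⁆ := by
  rw [commutatorElement_def, inv_eq s2, inv_eq t2, sq, mul_assoc (s * t)]

theorem cj_C {c z : G} (h : c ∈ C1 z) : c * z * c⁻¹ = z := by rw [mem_C1.1 h, mul_inv_cancel_right]

theorem C_of_cj {c z : G} (h : c * z * c⁻¹ = z) : c ∈ C1 z := mem_C1.2 (mul_inv_eq_iff_eq_mul.1 h)

theorem of_cj_mem {H : Subgroup G} {o s : G} (ho : o ∈ H) (h : o * s * o⁻¹ ∈ H) : s ∈ H := by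
  have := H.mul_mem (H.mul_mem (H.inv_mem ho) h) ho
  simpa [mul_assoc] using this

theorem of_cj_norm {H : Subgroup G} {o s : G} (ho : o ∈ normalizer (H : Set G)) (h : o * s * o⁻¹ ∈ H) : s ∈ H :=
  (mem_normalizer_iff.1 ho s).2 h

theorem zp2 {s a : G} (s2 : s * s = 1) (h : a ∈ zpowers s) : a = 1 ∨ a = s := by
  obtain ⟨k, rfl⟩ := mem_zpowers_iff.1 h
  have e : s ^ (2 : ℤ) = 1 := by rw [zpow_two, s2]
  rcases Int.even_or_odd' k with ⟨j, rfl | rfl⟩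
  · left; rw [zpow_mul, e, one_zpow]
  · right; rw [zpow_add_one, zpow_mul, e, one_zpow, one_mul]

theorem mem_Dz {Y : Subgroup G} {s u : G} (s2 : s * s = 1) :
    u ∈ Dc 2 Y (zpowers s) ↔ u ∈ Y ∧ ⁅u, s⁆ ∈ Oppof 2 Y := by
  refine mem_Dc.trans (and_congr_right fun _ => ⟨fun h => h s (mem_zpowers s), fun h a ha => ?_⟩)
  rcases zp2 s2 ha with rfl | rfl
  · rw [commutatorElement_one_right]; exact one_mem _
  · exact h

theorem csymm {O : Subgroup G} {a b : G} (h : ⁅a, b⁆ ∈ O) : ⁅b, a⁆ ∈ O :=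
  commutatorElement_inv a b ▸ O.inv_mem h

theorem oc {z : G} (h : orderOf z = 2) (g : G) : orderOf (g * z * g⁻¹) = 2 := (H42.orderOf_conj' g z).trans h

variable [Finite G] {n : ℕ} {z : G} {K X : Subgroup G}

/-- the standard trick -/
theorem E {J Y J' : Subgroup G} (hb : Blk n z J) (hle : J ≤ J') {j : G} (hj : j ∈ J) (j2 : orderOf j = 2)
    (hD : j ∈ Dc 2 Y J') : j = z :=
  (hb.eq_of_inv hj (sq_of_ord j2) fun a ha => odd_of_mem ((mem_Dc.1 hD).2 a (hle ha))).resolve_left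
    (ne_one_of_ord j2)

theorem cop (Y : Subgroup G) : (Nat.card (Oppof 2 Y)).Coprime 2 := Nat.coprime_two_right.2 (H46.odd_card_Oppof Y)

/-- dihedral adjustment inside a core -/
theorem adj {Y : Subgroup G} {s t : G} (s2 : s * s = 1) (t2 : t * t = 1) (h : ⁅s, t⁆ ∈ Oppof 2 Y) :
    ∃ o ∈ Oppof 2 Y, o * s * o⁻¹ ∈ C1 t := by
  rw [← sqc s2 t2] at h
  obtain ⟨o, h1, h2⟩ := dih2 s2 t2 (odd_of_mem h)
  exact ⟨o, zpowers_le.2 h h1, mem_C1.2 h2⟩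

variable [IsSimpleGroup G]

/-- the dichotomy for two commuting conjugates -/
theorem dich2 (h : Cx n z K) {g k : G} (hc : k * z * k⁻¹ ∈ C1 (g * z * g⁻¹)) (hne : k * z * k⁻¹ ≠ g * z * g⁻¹) :
    k * z * k⁻¹ ∈ Dc 2 (C1 (g * z * g⁻¹)) (cj g K) ∧ g * z * g⁻¹ ∈ Dc 2 (C1 (k * z * k⁻¹)) (cj k K) ∨
      k * z * k⁻¹ ∈ cj g K ∧ g * z * g⁻¹ ∈ cj k K := by
  have e : k * g⁻¹ * (g * z * g⁻¹) * (k * g⁻¹)⁻¹ = k * z * k⁻¹ := by group
  rcases (h.conj g).dich (g := k * g⁻¹) (e ▸ hc) (e ▸ hne) with ⟨a, b⟩ | ⟨a, b, -⟩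
  · rw [e] at a b
    exact Or.inl ⟨a _ (h.conj g).pc (h.conj g).blk.mem, b _ (h.conj k).pc (h.conj k).blk.mem⟩
  · refine Or.inr ⟨e ▸ a, mem_cj.2 ?_⟩
    have := mem_cj.1 b
    simpa [mul_assoc] using this

theorem dich1 (h : Cx n z K) {g : G} (hc : g * z * g⁻¹ ∈ C1 z) (hn : g * z * g⁻¹ ∉ K) :
    g * z * g⁻¹ ∈ Dc 2 (C1 z) K ∧ z ∈ Dc 2 (C1 (g * z * g⁻¹)) (cj g K) := by
  rcases h.dich hc (fun e => hn (e.symm ▸ h.blk.mem)) with ⟨a, b⟩ | ⟨a, -⟩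
  · exact ⟨a _ h.pc h.blk.mem, b _ (h.conj g).pc (h.conj g).blk.mem⟩
  · exact absurd a hn

end Cfsg.Agent.SOL.K1
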