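import Cfsg.Agent.SOL.KL0

/-! The component `X` of a proper overgroup (project SOL, notes/SOL.md section KL1). -/

set_option autoImplicit false

namespace Cfsg.Agent.SOL

open Equiv Subgroup H44 H59 K1
open scoped commutatorElement

universe u

variable {G : Type u} [Group G] [Finite G] [IsSimpleGroup G] {n : ℕ} {z : G} {K X : Subgroup G}

theorem Cx.back (h : Cx n z K) {g : G} (hg : g * z * g⁻¹ ∈ K) : g⁻¹ * z * g ∈ K := by
  by_cases e : g * z * g⁻¹ = z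
  · rw [mul_assoc, ← mem_C1.1 (C_of_cj e), inv_mul_cancel_left]
    exact h.blk.mem
  rcases h.dich (h.blk.le hg) e with ⟨a, -⟩ | ⟨-, a, -⟩
  · exact absurd (E h.blk le_rfl hg (oc h.blk.ord g) (a _ h.pc h.blk.mem)) e
  · exact a

theorem Cx.conj_of_inv (h : Cx n z K) (hn : n ≤ 11) (hex : ∃ g : G, g * z * g⁻¹ ∈ K ∧ g * z * g⁻¹ ≠ z)
    {x : G} (hx : x ∈ K) (x2 : orderOf x = 2) : ∃ g : G, g * z * g⁻¹ = x := by
  by_cases e : x = z
  · exact ⟨1, by simp [e]⟩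
  obtain ⟨g, h1, h2⟩ := hex
  obtain ⟨k, -, hk⟩ := h.blk.inv_conj hn h1 (sq_of_ord (oc h.blk.ord g)) (ne_one_of_ord (oc h.blk.ord g)) h2
    hx (sq_of_ord x2) (ne_one_of_ord x2) e
  exact ⟨k * g, by rw [← hk]; group⟩

/-- two commuting conjugates of `z` inside `K` are of type (i) -/
theorem Cx.mem_cj (h : Cx n z K) (hN : C1 z ≤ normalizer (K : Set G)) {g k : G}
    (hg : g * z * g⁻¹ ∈ K) (hk : k * z * k⁻¹ ∈ K) (e : Commute (g * z * g⁻¹) (k * z * k⁻¹)) :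
    k * z * k⁻¹ ∈ cj g K := by
  by_cases c1 : k * z * k⁻¹ = g * z * g⁻¹
  · exact c1 ▸ conj_mem_cj h.blk.mem
  by_cases c2 : g * z * g⁻¹ = z
  · rwa [mem_normalizer_iff_cj.1 (hN (C_of_cj c2))]
  have za : z ∈ cj g K := H44.mem_cj.2 (h.back hg)
  by_cases c3 : k * z * k⁻¹ = z
  · rwa [c3]
  have zb : z ∈ cj k K := H44.mem_cj.2 (h.back hk)
  rcases dich2 h (mem_C1.2 e.symm) c1 with ⟨-, a⟩ | ⟨a, -⟩
  swap
  · exact a
  obtain ⟨c, -, -, hc⟩ := h.blk.exists_c hg (sq_of_ord (oc h.blk.ord g)) (ne_one_of_ord (oc h.blk.ord g)) c2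
  by_cases c4 : g * z * g⁻¹ * z = k * z * k⁻¹
  · exact c4 ▸ mul_mem (conj_mem_cj h.blk.mem) za
  have e1 : c * g * z * (c * g)⁻¹ = g * z * g⁻¹ * z := by rw [← hc]; group
  have e2 : g * z * g⁻¹ * z ∈ C1 (k * z * k⁻¹) := mul_mem (mem_C1.2 e) (mem_C1_comm.1 (h.blk.le hk))
  rcases dich2 h (g := k) (k := c * g) (e1 ▸ e2) (e1 ▸ c4) with ⟨b, -⟩ | ⟨b, -⟩
  · rw [e1] at b
    exact absurd (E (h.conj k).blk le_rfl zb h.blk.ord ((mul_mem_cancel_left a).1 b)).symm c3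
  · rw [e1] at b
    exact absurd (E (h.conj k).blk le_rfl ((mul_mem_cancel_right zb).1 b) (oc h.blk.ord g) a).symm c1

theorem Cx.exists_kx (h : Cx n z K) (hn : n ≤ 11) (hN : C1 z ≤ normalizer (K : Set G))
    (hex : ∃ g : G, g * z * g⁻¹ ∈ K ∧ g * z * g⁻¹ ≠ z) {M : Subgroup G} (hne : M ≠ ⊤)
    (hM : ∀ g : G, g * z * g⁻¹ ∈ K → g ∈ M) : ∃ X, KX n z K X := by
  have h1 : C1 z ≤ M := fun c hc => hM c ((cj_C hc).symm ▸ h.blk.mem)
  obtain ⟨X, hX⟩ := h.rel M hne z K h.blk ((inf_eq_right.2 h1).symm ▸ h.pc)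
  refine ⟨X, h, hn, hN, hex, hX.self, fun g hg => mem_normalizer_iff_cj.2 ?_, fun e => ?_⟩
  · have h2 : PComp 2 M (cj g X) := hX.pc.conj (le_normalizer (hM g hg))
    by_contra c
    have h3 := E h.blk hX.le hg (oc h.blk.ord g) (le_Dc_of_ne hX.pc h2 c (conj_mem_cj (hX.le h.blk.mem)))
    refine c (pcomp_eq_of_le_of_le h2 hX.pc h.blk.pqs ?_ hX.le)
    rw [← mem_normalizer_iff_cj.1 (hN (C_of_cj h3))]
    exact map_mono hX.le
  · rcases (normalizer_eq_top_iff.1 e).eq_bot_or_eq_top with e1 | e1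
    · exact hX.pc.pqs.ne_bot e1
    · exact hne (top_unique (e1 ▸ hX.pc.le))

namespace KX

theorem pc (h : KX n z K X) : PComp 2 (normalizer (X : Set G)) X :=
  ⟨SN.of_le_normalizer le_normalizer le_rfl, h.pu.pc.pqs⟩

theorem czH (h : KX n z K X) : C1 z ≤ normalizer (X : Set G) := fun c hc =>
  h.gen c ((cj_C hc).symm ▸ h.cx.blk.mem)

theorem oXH (h : KX n z K X) : Oppof 2 X ≤ Oppof 2 (normalizer (X : Set G)) := Oppof_le_Oppof_of_sn h.pc.sn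

theorem zX (h : KX n z K X) : z ∈ X := h.pu.le h.cx.blk.mem

theorem nD (h : KX n z K X) {k : G} (hk : k ∈ normalizer (X : Set G)) :
    k ∈ normalizer (Dc 2 (normalizer (X : Set G)) X : Set G) := mem_normalizer_Dc (le_normalizer hk) hk

theorem puH (h : KX n z K X) : PComp 2 (normalizer (X : Set G) ⊓ C1 z) K ∧
    Pu (normalizer (X : Set G)) z K X :=
  ⟨(inf_eq_right.2 h.czH).symm ▸ h.cx.pc, h.pc, h.pu.le, h.pu.cent.trans (sup_le_sup_left h.oXH _),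
    h.pu.core.trans h.oXH⟩

theorem not_Dc (h : KX n z K X) {x : G} (hx : x ∈ X) (x2 : orderOf x = 2) :
    x ∉ Dc 2 (normalizer (X : Set G)) X := fun hD => by
  obtain ⟨g, h1, h2⟩ := h.ex
  have := h.puH.2.odd_of_Dc h.puH.1 h.cx.blk (fun hz => h2 (E h.cx.blk h.pu.le h1 (oc h.cx.blk.ord g)
    (H42.conj_mem_of_mem_normalizer (h.nD (h.gen g h1)) hz))) hx hD
  rw [x2] at this
  exact absurd this (by decide)

theorem conj_of_inv (h : KX n z K X) {x : G} (hx : x ∈ X) (x2 : orderOf x = 2) :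
    ∃ g ∈ normalizer (X : Set G), g * z * g⁻¹ = x := by
  obtain ⟨g, h1, h2⟩ := h.puH.2.conj_into h.puH.1 h.cx.blk hx (sq_of_ord x2)
  obtain ⟨k, hk⟩ := h.cx.conj_of_inv h.small h.ex h2 (oc x2 g)
  refine ⟨g⁻¹ * k, Subgroup.mul_mem _ (Subgroup.inv_mem _ (le_normalizer h1)) (h.gen k (hk ▸ h2)), ?_⟩
  calc _ = g⁻¹ * (k * z * k⁻¹) * g := by group
    _ = x := by rw [hk]; group

theorem cent_le (h : KX n z K X) {x : G} (hx : x ∈ X) (x2 : orderOf x = 2) :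
    C1 x ≤ normalizer (X : Set G) := by
  obtain ⟨g, h1, rfl⟩ := h.conj_of_inv hx x2
  rw [← cj_C1]
  exact (map_mono h.czH).trans (mem_normalizer_iff_cj.1 (le_normalizer h1)).le

theorem mem_norm (h : KX n z K X) {g : G} (hg : g * z * g⁻¹ ∈ X) : g ∈ normalizer (X : Set G) := by
  obtain ⟨k, h1, h2⟩ := h.conj_of_inv hg (oc h.cx.blk.ord g)
  refine (mul_mem_cancel_left (Subgroup.inv_mem _ h1)).1 (h.czH (C_of_cj ?_))
  calc _ = k⁻¹ * (g * z * g⁻¹) * k := by group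
    _ = z := by rw [← h2]; group

theorem mem_Dc (h : KX n z K X) {d : G} (hd : d ∈ Dc 2 (normalizer (X : Set G)) X) (dz : d ∈ C1 z) :
    d ∈ Dc 2 (C1 z) K := by
  refine H59.mem_Dc.2 ⟨dz, fun a ha => Oppof_inf_le_Oppof h.czH ⟨(H59.mem_Dc.1 hd).2 a (h.pu.le ha), ?_⟩⟩
  have := h.cx.blk.le ha
  exact Subgroup.mul_mem _ (Subgroup.mul_mem _ (Subgroup.mul_mem _ dz this) (Subgroup.inv_mem _ dz))
    (Subgroup.inv_mem _ this)

theorem ly (h : KX n z K X) {Y J : Subgroup G} (hY : Y ≠ ⊤) (hle : J ≤ K) (hb : Blk n z J)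
    (hJ : PComp 2 (Y ⊓ C1 z) J) :
    ∃ I, Pu Y z J I ∧ I ≤ X ∧ Oppof 2 Y ≤ normalizer (X : Set G) := by
  obtain ⟨I, hI⟩ := h.cx.rel Y hY z J hb hJ
  have h1 : Oppof 2 Y ≤ normalizer (X : Set G) := hb.le_of_four (H46.odd_card_Oppof Y)
    ((hJ.le.trans inf_le_left).trans (le_normalizer_pPrimeCoreOf Y)) fun v hv v2 => h.cent_le (h.pu.le (hle hv)) v2
  have h2 : I ≤ normalizer (X : Set G) :=
    hI.zdr hJ hb ((Oppof_le_Oppof_of_sn hI.pc.sn).trans h1) fun g _ hg => h.gen g (hle hg)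
  refine ⟨I, hI, ?_, h1⟩
  rcases hI.pc.pqs.normal (I ⊓ X) inf_le_left ((le_inf le_normalizer h2).trans inf_normalizer_le_normalizer_inf)
    with e | e
  · exact inf_eq_left.1 e
  · exact absurd (hb.pqs.perfect.ge.trans ((commutator_mono (le_inf hI.le (hle.trans h.pu.le)) hI.le).trans e))
      (hb.pqs.not_le_of_coprime (cop I))

theorem ly2 (h : KX n z K X) {Y J J' : Subgroup G} (hY : Y ≠ ⊤) (hle : J ≤ K) (hb : Blk n z J)
    (hJ : PComp 2 (Y ⊓ C1 z) J) {g : G} (hle' : J' ≤ cj g K) (hb' : Blk n (g * z * g⁻¹) J')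
    (hJ' : PComp 2 (Y ⊓ C1 (g * z * g⁻¹)) J') : g * z * g⁻¹ ∈ normalizer (X : Set G) := by
  obtain ⟨I, h1, h2, h3⟩ := h.ly hY hle hb hJ
  obtain ⟨I', h4, -, -⟩ := (h.conj g).ly hY hle' hb' hJ'
  by_cases e : I' = I
  · exact le_normalizer (h2 (e ▸ h4.le hb'.mem))
  obtain ⟨o, h5, h6⟩ := adj (sq_of_ord hb'.ord) (sq_of_ord hb.ord)
    ((H59.mem_Dc.1 (le_Dc_of_ne h1.pc h4.pc e (h4.le hb'.mem))).2 z (h1.le hb.mem))
  exact of_cj_mem (h3 h5) (h.czH h6)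

theorem wl (h : KX n z K X) {g : G} (hg : g * z * g⁻¹ ∈ normalizer (X : Set G)) :
    ∃ k ∈ normalizer (X : Set G), ∃ m, g = k * m ∧ m * z * m⁻¹ ∈ C1 z := by
  obtain ⟨y, h1, h2, h3⟩ := exists_inv_comm h.zX h.cx.blk.ord (sq_of_ord (oc h.cx.blk.ord g)) hg
  obtain ⟨k, h4, rfl⟩ := h.conj_of_inv h1 h2
  refine ⟨k, h4, k⁻¹ * g, by group, ?_⟩
  have : g * z * g⁻¹ ∈ cj k (C1 z) := by rw [cj_C1]; exact mem_C1.2 h3.symm
  have := H44.mem_cj.1 this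
  simpa [mul_assoc] using this

theorem star (h : KX n z K X) {s : G} (s2 : s * s = 1) (hs : s ∈ Dc 2 (C1 z) K) :
    X ⊓ C1 z ≤ Dc 2 (normalizer (X : Set G)) (zpowers s) :=
  h.puH.2.cent.trans (sup_le (fun _ ha => (mem_Dz s2).2 ⟨le_normalizer (h.pu.le ha),
    h.puH.2.core (commutator_Dc_le' h.cx.pc (commutator_mem_commutator ha hs))⟩)
    (Oppof_le_Dc (zpowers_le.2 (h.czH (Dc_le _ _ hs)))))

theorem x3b (h : KX n z K X) {g : G} (hX : g * z * g⁻¹ ∉ X) (hs : g * z * g⁻¹ ∈ Dc 2 (C1 z) K) {k : G}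
    (hk : k ∈ X) (ht : k * z * k⁻¹ ∈ K) (tz : k * z * k⁻¹ ≠ z) (hc : k * z * k⁻¹ ∈ C1 (g * z * g⁻¹)) :
    k ∈ Dc 2 (normalizer (X : Set G)) (zpowers (g * z * g⁻¹)) := by
  have s2 := sq_of_ord (oc h.cx.blk.ord g)
  have t2 := oc h.cx.blk.ord k
  have e : cj k X = X := mem_normalizer_iff_cj.1 (le_normalizer hk)
  have h1 : cj k K ≤ X := e ▸ map_mono h.pu.le
  have h2 := ((dich2 h.cx (mem_C1_comm.1 hc) fun e => hX (e ▸ h.pu.le ht)).resolve_right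
    fun a => hX (h1 a.1)).1
  have h3 := (h.conj k).star s2 h2
  rw [e] at h3
  obtain ⟨c, hc1, -, hc2⟩ := h.cx.blk.exists_c ht (sq_of_ord t2) (ne_one_of_ord t2) tz
  obtain ⟨d, hd1, -, hd2⟩ := (h.cx.conj k).blk.exists_c (H44.mem_cj.2 (h.cx.back ht)) (sq_of_ord h.cx.blk.ord)
    (ne_one_of_ord h.cx.blk.ord) tz.symm
  have h4 := h.star s2 hs
  have h5 := Subgroup.mul_mem _ (Subgroup.inv_mem _ (h3 ⟨h1 hd1, (h.cx.conj k).blk.le hd1⟩))
    (h4 ⟨h.pu.le hc1, h.cx.blk.le hc1⟩)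
  refine (mul_mem_cancel_left h5).1 (h4 ⟨X.mul_mem (X.mul_mem (X.inv_mem (h1 hd1)) (h.pu.le hc1)) hk, C_of_cj ?_⟩)
  calc _ = d⁻¹ * (c * (k * z * k⁻¹) * c⁻¹) * d := by group
    _ = z := by rw [hc2, mem_C1.1 (h.cx.blk.le ht), ← hd2]; group

theorem x3a (h : KX n z K X) {g : G} (hg : g * z * g⁻¹ ∈ C1 z) (hX : g * z * g⁻¹ ∉ X) :
    g * z * g⁻¹ ∈ Dc 2 (normalizer (X : Set G)) X := by
  have s2 := sq_of_ord (oc h.cx.blk.ord g)
  have hs := (dich1 h.cx hg fun e => hX (h.pu.le e)).1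
  have h1 := h.star s2 hs
  have h2 : X ≤ Dc 2 (normalizer (X : Set G)) (zpowers (g * z * g⁻¹)) := by
    refine h.puH.2.zdr h.puH.1 h.cx.blk (h.oXH.trans (Oppof_le_Dc (zpowers_le.2 (h.czH hg)))) fun k hk ht => ?_
    by_cases tz : k * z * k⁻¹ = z
    · exact h1 ⟨hk, C_of_cj tz⟩
    obtain ⟨o, h3, h4⟩ := adj (sq_of_ord (oc h.cx.blk.ord k)) s2
      (commutator_Dc_le' h.cx.pc (commutator_mem_commutator ht hs))
    have oK := Oppof_le _ h3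
    have e : o * k * z * (o * k)⁻¹ = o * (k * z * k⁻¹) * o⁻¹ := by group
    refine (mul_mem_cancel_left (h1 ⟨h.pu.le oK, h.cx.blk.le oK⟩)).1 (h.x3b hX hs (X.mul_mem (h.pu.le oK) hk)
      (e ▸ K.mul_mem (K.mul_mem oK ht) (K.inv_mem oK)) (fun e1 => tz ?_) (e ▸ h4))
    calc _ = o⁻¹ * (o * k * z * (o * k)⁻¹) * o⁻¹⁻¹ := by group
      _ = z := by rw [e1, cj_C (Subgroup.inv_mem _ (h.cx.blk.le oK))]
  exact H59.mem_Dc.2 ⟨h.czH hg, fun a ha => csymm ((mem_Dz s2).1 (h2 ha)).2⟩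

theorem x3 (h : KX n z K X) {g : G} (hg : g * z * g⁻¹ ∈ normalizer (X : Set G))
    (hX : g * z * g⁻¹ ∉ X) : g * z * g⁻¹ ∈ Dc 2 (normalizer (X : Set G)) X := by
  obtain ⟨k, h1, m, rfl, h2⟩ := h.wl hg
  have e : k * m * z * (k * m)⁻¹ = k * (m * z * m⁻¹) * k⁻¹ := by group
  rw [e] at hX ⊢
  exact H42.conj_mem_of_mem_normalizer (h.nD h1) (h.x3a h2 fun c => hX (H42.conj_mem_of_mem_normalizer h1 c))

theorem half (h : KX n z K X) {g : G} (hg : g * z * g⁻¹ ∈ C1 z) (hX : g * z * g⁻¹ ∉ X) :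
    X ≤ normalizer (cj g X : Set G) ∧ z ∉ cj g X := by
  have h' := h.conj g
  have h1 := (dich1 h.cx hg fun e => hX (h.pu.le e)).2
  have ne : z ≠ g * z * g⁻¹ := fun e => hX (e ▸ h.zX)
  refine ⟨(pcomp_cov1 h.pc h'.cx.blk.ord (h.x3a hg hX)).2.cov.trans (sup_le
    (((pGen_le _).trans inf_le_right).trans h'.czH) ?_), fun c => ne ?_⟩
  · exact (pump1 h.cx.rel h'.cx.blk h'.cx.pc h.cx.blk.ord ne h1 (C1_ne_top h.cx.blk.pqs
      (ne_one_of_ord h.cx.blk.ord))).2.1.le_of_four (H46.odd_card_Oppof X)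
      ((((pGen_le _).trans inf_le_right).trans h.czH).trans (normalizer_le_normalizer_pPrimeCoreOf X))
      fun v hv v2 => h'.cent_le (h'.pu.le ((pGen_le _).trans inf_le_left hv)) v2
  · exact E h'.cx.blk le_rfl (h'.puH.2.mem h'.puH.1 c (mem_C1_comm.1 hg) (k := 1)
      (by rw [pow_one, sq, sq_of_ord h.cx.blk.ord])) h.cx.blk.ord h1

theorem x5 (h : KX n z K X) {g : G} (hg : g * z * g⁻¹ ∈ normalizer (X : Set G)) :
    cj g X ≤ normalizer (X : Set G) ∧ X ≤ normalizer (cj g X : Set G) := by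
  by_cases hX : g * z * g⁻¹ ∈ X
  · rw [mem_normalizer_iff_cj.1 (h.mem_norm hX)]
    exact ⟨le_normalizer, le_normalizer⟩
  obtain ⟨k, h1, m, rfl, h2⟩ := h.wl hg
  have e : k * m * z * (k * m)⁻¹ = k * (m * z * m⁻¹) * k⁻¹ := by group
  obtain ⟨h3, h4⟩ := h.half h2 fun c => hX (e ▸ H42.conj_mem_of_mem_normalizer h1 c)
  have e1 : m⁻¹ * (m * z * m⁻¹) * m⁻¹⁻¹ = z := by group
  have h5 := ((h.conj m).half (g := m⁻¹) (e1.symm ▸ mem_C1_comm.1 h2) (e1.symm ▸ h4)).1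
  rw [← cj_mul, inv_mul_cancel, cj_one] at h5
  rw [cj_mul]
  refine ⟨(map_mono h5).trans (mem_normalizer_iff_cj.1 (le_normalizer h1)).le, fun x hx => mem_ncj.2 (h3 ?_)⟩
  simpa using H42.conj_mem_of_mem_normalizer (Subgroup.inv_mem _ h1) hx

theorem x4 (h : KX n z K X) {g : G} (hg : g * z * g⁻¹ ∈ normalizer (X : Set G))
    (hX : g * z * g⁻¹ ∉ X) : cj g X ≤ Dc 2 (normalizer (X : Set G)) X := by
  have h' := h.conj g
  rcases h'.pc.pqs.normal (cj g X ⊓ Dc 2 (normalizer (X : Set G)) X) inf_le_left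
    ((le_inf le_normalizer fun x hx => h.nD ((h.x5 hg).1 hx)).trans inf_normalizer_le_normalizer_inf) with e | e
  · exact inf_eq_left.1 e
  · exact absurd (H59.mem_Dc.2 ⟨le_normalizer h'.zX, fun a ha =>
      h'.oXH (e (commutator_mem_commutator ⟨h'.zX, h.x3 hg hX⟩ ha))⟩) (h'.not_Dc h'.zX h'.cx.blk.ord)

theorem inv_mem (h : KX n z K X) {g : G} (hg : g * z * g⁻¹ ∈ normalizer (X : Set G)) :
    g⁻¹ * z * g ∈ normalizer (X : Set G) := mem_ncj.1 ((h.x5 hg).2 h.zX)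

theorem mul_mem (h : KX n z K X) {g k : G} (hg : g * z * g⁻¹ ∈ normalizer (X : Set G))
    (hk : k * z * k⁻¹ ∈ normalizer (X : Set G)) :
    g * k * z * (g * k)⁻¹ ∈ normalizer (X : Set G) := by
  have h1 := ((h.conj g).x5 (g := g * k * g⁻¹) (mem_ncj.2 (by simpa [mul_assoc] using hk))).1
  rw [← cj_mul, inv_mul_cancel_right] at h1
  have h' := h.conj (g * k)
  exact h.ly2 (h.conj g).ne le_rfl h.cx.blk
    (h.cx.pc.mono (le_inf (h.pu.le.trans (h.x5 hg).2) h.cx.blk.le) inf_le_right) le_rfl h'.cx.blk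
    (h'.cx.pc.mono (le_inf (h'.pu.le.trans h1) h'.cx.blk.le) inf_le_right)

end KX

end Cfsg.Agent.SOL
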