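import Cfsg.Agent.SOL.Blk

/-! Pump-ups (project SOL, notes/SOL.md section Pump). -/

set_option autoImplicit false

namespace Cfsg.Agent.SOL

open Equiv Subgroup H44 H59
open scoped commutatorElement

universe u

variable {G : Type u} [Group G] [Finite G] {n : ℕ} {z : G} {Y J X : Subgroup G}

namespace PumpAux

omit [Finite G] in
theorem exists_mul (hJ : J ≤ Y) {x : G} (hx : x ∈ J ⊔ Oppof 2 Y) :
    ∃ j ∈ J, j⁻¹ * x ∈ Oppof 2 Y := by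
  obtain ⟨j, hj, o, ho, rfl⟩ :=
    H42.exists_mul_of_mem_sup (hJ.trans (le_normalizer_pPrimeCoreOf Y)) hx
  exact ⟨j, hj, by rwa [inv_mul_cancel_left]⟩

omit [Finite G] in
theorem pow_two {x : G} (h : x * x = 1) : x ^ 2 ^ 1 = 1 := by rw [pow_one, sq, h]

omit [Finite G] in
theorem mem_sup_of {A B : Subgroup G} {j x : G} (hj : j ∈ A) (h : j⁻¹ * x ∈ B) : x ∈ A ⊔ B := by
  rw [← mul_inv_cancel_left j x]
  exact mul_mem_sup hj h

end PumpAux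

open PumpAux BlkAux

theorem mem_of_sup (hJ : PComp 2 (Y ⊓ C1 z) J) {x : G} (hx : x ∈ J ⊔ Oppof 2 Y) (xz : x ∈ C1 z)
    {k : ℕ} (x2 : x ^ 2 ^ k = 1) : x ∈ J := by
  obtain ⟨j, hj, ho⟩ := exists_mul (hJ.le.trans inf_le_left) hx
  have h1 : x ∈ J ⊔ Oppof 2 (Y ⊓ C1 z) := mem_sup_of hj (pPrimeCoreOf_inf_le_pPrimeCoreOf inf_le_left
    ⟨ho, Oppof_le Y ho, (C1 z).mul_mem ((C1 z).inv_mem (hJ.le hj).2) xz⟩)
  rw [← hJ.pGen_sup_Oppof]
  exact le_pGen (zpowers_le.2 h1) (STD.isPGroup_zpowers x2) (mem_zpowers x)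

namespace Pu

theorem mem (h : Pu Y z J X) (hJ : PComp 2 (Y ⊓ C1 z) J) {x : G} (hx : x ∈ X) (xz : x ∈ C1 z)
    {k : ℕ} (x2 : x ^ 2 ^ k = 1) : x ∈ J := mem_of_sup hJ (h.cent ⟨hx, xz⟩) xz x2

theorem cov (h : Pu Y z J X) (hb : Blk n z J) : Cov 2 J (X ⊓ C1 z) := by
  refine ⟨le_inf h.le hb.le, fun x hx => ?_⟩
  obtain ⟨j, hj, ho⟩ := exists_mul (h.le.trans h.pc.le) (h.cent hx)
  exact mem_sup_of hj (pPrimeCoreOf_inf_le_pPrimeCoreOf (inf_le_left.trans h.pc.le)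
    ⟨ho, (X ⊓ C1 z).mul_mem ((X ⊓ C1 z).inv_mem ⟨h.le hj, hb.le hj⟩) hx⟩)

theorem self (h : Pu Y z J X) : Pu X z J X := by
  refine ⟨h.pc.pqs.pcomp_self, h.le, fun x hx => ?_, ?_⟩
  · obtain ⟨j, hj, ho⟩ := exists_mul (h.le.trans h.pc.le) (h.cent hx)
    exact mem_sup_of hj (h.pc.Oppof_eq ▸ ⟨ho, X.mul_mem (X.inv_mem (h.le hj)) hx.1⟩)
  · rw [h.pc.Oppof_eq]
    exact le_inf h.core ((Oppof_le J).trans h.le)

theorem conj_mem (h : Pu Y z J X) (hJ : PComp 2 (Y ⊓ C1 z) J) (hb : Blk n z J) {g : G} (hg : g ∈ X)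
    (e : Commute (g * z * g⁻¹) z) : g * z * g⁻¹ ∈ J :=
  h.mem hJ (mul_mem (mul_mem hg (h.le hb.mem)) (inv_mem hg)) (mem_C1.2 e)
    (pow_two (H42.conj_mul_self (sq_of_ord hb.ord) g))

theorem dich (h : Pu Y z J X) (hJ : PComp 2 (Y ⊓ C1 z) J) (hb : Blk n z J) :
    z ∈ Dc 2 Y X ∨ ∃ g ∈ X, g * z * g⁻¹ ∈ J ∧ g * z * g⁻¹ ≠ z := by
  rw [or_iff_not_imp_right]
  intro hne
  have hz := h.le hb.mem
  obtain ⟨N, h1, h2, h3⟩ := H42.zstar (z := (⟨z, hz⟩ : X)) ⟨(orderOf_mk z hz).trans hb.ord, fun g e => by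
    by_contra e1
    exact hne ⟨g, g.2, h.conj_mem hJ hb g.2 (congrArg Subtype.val e.symm.eq),
      fun e2 => e1 (Subtype.ext e2)⟩⟩
  refine mem_Dc.2 ⟨h.pc.le hz, fun a ha => ?_⟩
  have h4 : ⁅z, a⁆ ∈ Oppof 2 X :=
    ⟨_, le_pPrimeCore h1 (coprime_two_iff_odd.2 h2) (h3 ⟨a, ha⟩), rfl⟩
  exact (h.pc.Oppof_eq ▸ h4).1

theorem exists_sylow (h : Pu Y z J X) (hJ : PComp 2 (Y ⊓ C1 z) J) (hb : Blk n z J) :
    ∃ S : Sylow 2 X, (⟨z, h.le hb.mem⟩ : X) ∈ S ∧ ∀ s ∈ S, Commute s ⟨z, h.le hb.mem⟩ := by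
  have z2 := sq_of_ord hb.ord
  refine STD.two_central ((orderOf_mk z _).trans hb.ord) fun g e1 e2 => ?_
  obtain ⟨c, hc, c1, c2⟩ := hb.exists_c (h.conj_mem hJ hb g.2 (congrArg Subtype.val e1.eq))
    (H42.conj_mul_self z2 (g : G)) (ne_one_of_ord ((H42.orderOf_conj' _ _).trans hb.ord))
    fun e => e2 (Subtype.ext e)
  refine ⟨⟨c, h.le hc⟩, 2, Subtype.ext ?_, Subtype.ext (mem_C1.1 (hb.le hc)), Subtype.ext c2⟩
  change c ^ (2 * 2) = 1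
  rw [pow_mul, sq, sq, c1, z2]

theorem conj_into (h : Pu Y z J X) (hJ : PComp 2 (Y ⊓ C1 z) J) (hb : Blk n z J) {x : G} (hx : x ∈ X)
    (x2 : x * x = 1) : ∃ g ∈ X, g * x * g⁻¹ ∈ J := by
  obtain ⟨S, -, hS⟩ := h.exists_sylow hJ hb
  obtain ⟨g, hg⟩ := H42.exists_conj_sylow S
    (STD.isPGroup_zpowers (x := (⟨x, hx⟩ : X)) (pow_two (Subtype.ext x2)))
  exact ⟨g, g.2, h.mem hJ (mul_mem (mul_mem g.2 hx) (inv_mem g.2))
    (mem_C1.2 (congrArg Subtype.val (hS _ (hg _ (mem_zpowers _))).eq))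
    (pow_two (H42.conj_mul_self x2 (g : G)))⟩

theorem odd_of_Dc (h : Pu Y z J X) (hJ : PComp 2 (Y ⊓ C1 z) J) (hb : Blk n z J)
    (hz : z ∉ Dc 2 Y X) {x : G} (hx : x ∈ X) (hD : x ∈ Dc 2 Y X) : Odd (orderOf x) := by
  by_contra ho
  obtain ⟨m, hm⟩ := Nat.not_odd_iff_even.1 ho
  have h0 := orderOf_pos x
  have y2 : x ^ m * x ^ m = 1 := by rw [← pow_add, ← hm, pow_orderOf_eq_one]
  have y1 : x ^ m ≠ 1 := pow_ne_one_of_lt_orderOf (by omega) (by omega)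
  obtain ⟨g, hg, h1⟩ := h.conj_into hJ hb (pow_mem hx m) y2
  have h2 : g * x ^ m * g⁻¹ ∈ Dc 2 Y X := H42.conj_mem_of_mem_normalizer
    (mem_normalizer_Dc (le_normalizer (h.pc.le hg)) (le_normalizer hg)) (pow_mem hD m)
  rcases hb.eq_of_inv h1 (H42.conj_mul_self y2 g)
    (fun a ha => odd_of_mem ((mem_Dc.1 h2).2 a (h.le ha))) with e | e
  · exact y1 (by simpa using e)
  · exact hz (e ▸ h2)

theorem simple (h : Pu Y z J X) (hJ : PComp 2 (Y ⊓ C1 z) J) (hb : Blk n z J)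
    (hz : z ∉ Dc 2 Y X) : IsSimpleGroup (X ⧸ pPrimeCore 2 X) := by
  have z1 : QuotientGroup.mk' (pPrimeCore 2 X) ⟨z, h.le hb.mem⟩ ≠ 1 :=
    ne_one_of_ord (orderOf_mk_eq ((orderOf_mk z _).trans hb.ord))
  have : Nontrivial (X ⧸ pPrimeCore 2 X) := ⟨_, _, z1⟩
  refine ⟨fun N hN => ?_⟩
  let M := N.comap (QuotientGroup.mk' (pPrimeCore 2 X))
  have hM : N = M.map (QuotientGroup.mk' (pPrimeCore 2 X)) :=
    (map_comap_eq_self_of_surjective (QuotientGroup.mk'_surjective _) N).symm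
  have hn : M.Normal := hN.comap _
  rcases h.pc.pqs.normal (M.map X.subtype) (map_subtype_le M) (fun g hg =>
    H42.mem_normalizer_of_conj_mem (by
      rintro _ ⟨x, hx, rfl⟩
      exact ⟨_, hn.conj_mem x hx ⟨g, hg⟩, rfl⟩)) with e | e
  · refine .inr ?_
    have h1 : M = ⊤ := eq_top_iff.2 fun x _ =>
      (mem_map_iff_mem X.subtype_injective).1 (e.symm ▸ x.2 : (x : G) ∈ M.map X.subtype)
    rw [hM, h1, map_top_of_surjective _ (QuotientGroup.mk'_surjective _)]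
  · refine .inl ?_
    have h1 : M.map X.subtype ≤ Dc 2 Y X := le_Dc.2 ⟨(map_subtype_le M).trans h.pc.le,
      e.trans (h.pc.Oppof_eq ▸ inf_le_left)⟩
    have h2 : (Nat.card M).Coprime 2 := coprime_iff_not_dvd.2 fun hd => by
      obtain ⟨x, hx⟩ := exists_prime_orderOf_dvd_card' 2 hd
      have h3 := h.odd_of_Dc hJ hb hz x.1.2 (h1 ⟨x.1, x.2, rfl⟩)
      rw [orderOf_coe, orderOf_coe, hx] at h3
      exact absurd h3 (by decide)
    rw [hM, Subgroup.map_eq_bot_iff, QuotientGroup.ker_mk']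
    exact le_pPrimeCore hn h2

theorem lift (h : Pu Y z J X) (hJ : PComp 2 (Y ⊓ C1 z) J) (hb : Blk n z J) {g : G} (hg : g ∈ X)
    (e : Commute (qk X g * qk X z * (qk X g)⁻¹) (qk X z)) :
    ∃ o ∈ Oppof 2 X, o * g * z * (o * g)⁻¹ ∈ J := by
  have z2 := sq_of_ord hb.ord
  have hz := h.le hb.mem
  have hs := mul_mem (mul_mem hg hz) (inv_mem hg)
  have s2 := H42.conj_mul_self z2 g
  have h1 : (g * z * g⁻¹ * z) ^ 2 ∈ Oppof 2 X := by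
    rw [← qk_eq_one (pow_mem (mul_mem hs hz) 2), (vw X).pow (mul_mem hs hz), (vw X).mul hs hz,
      (vw X).conj hg hz, e.mul_pow, ← (vw X).conj hg hz, sq, sq, (vw X).sq hs s2, (vw X).sq hz z2,
      one_mul]
  obtain ⟨o, h2, h3⟩ := dih2 s2 z2 (odd_of_mem h1)
  have ho := zpowers_le.2 h1 h2
  refine ⟨o, ho, h.conj_mem hJ hb (mul_mem (Oppof_le X ho) hg) ?_⟩
  rwa [show o * g * z * (o * g)⁻¹ = o * (g * z * g⁻¹) * o⁻¹ by group]

/-- generation of the pump-up -/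
theorem zdr (h : Pu Y z J X) (hJ : PComp 2 (Y ⊓ C1 z) J) (hb : Blk n z J) {L : Subgroup G}
    (hO : Oppof 2 X ≤ L) (hL : ∀ g ∈ X, g * z * g⁻¹ ∈ J → g ∈ L) : X ≤ L := by
  have z2 := sq_of_ord hb.ord
  have hz := h.le hb.mem
  by_cases hD : z ∈ Dc 2 Y X
  · intro g hg
    have hs := mul_mem (mul_mem hg hz) (inv_mem hg)
    have h1 : z * (g * z * g⁻¹) ∈ Oppof 2 X := by
      rw [h.pc.Oppof_eq]
      refine ⟨?_, mul_mem hz hs⟩
      have := (mem_Dc.1 hD).2 g hg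
      rwa [commutatorElement_def, inv_eq z2, mul_assoc, mul_assoc, ← mul_assoc g] at this
    obtain ⟨j, hj⟩ := H42.exists_pow_conj_of_odd (H42.conj_mul_self z2 g) z2 (odd_of_mem h1)
    have ho := pow_mem h1 j
    generalize (z * (g * z * g⁻¹)) ^ j = o at hj ho
    refine (mul_mem_cancel_left (hO ho)).1 (hL _ (mul_mem (Oppof_le X ho) hg) ?_)
    rw [show o * g * z * (o * g)⁻¹ = o * (g * z * g⁻¹) * o⁻¹ by group, hj]
    exact hb.mem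
  have := h.simple hJ hb hD
  obtain ⟨S, hzS, hS⟩ := h.exists_sylow hJ hb
  have ord : ∀ {x : G}, x ∈ X → orderOf x = 2 → orderOf (qk X x) = 2 := fun {x} hx e => by
    rw [qk_mem hx]
    exact orderOf_mk_eq ((orderOf_mk x hx).trans e)
  obtain ⟨t, ht, t2, t1, tz⟩ := hb.exists_inv
  obtain ⟨c, hc, c1, c2⟩ := hb.exists_c ht t2 t1 tz
  obtain ⟨d1, d2, d3⟩ := d8 ((vw X).sq hz z2) (ne_one_of_ord (ord hz hb.ord)) (c := qk X c)
    (t := qk X t) (by rw [← (vw X).mul (h.le hc) (h.le hc), c1])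
    (by rw [← (vw X).conj (h.le hc) (h.le ht), c2, (vw X).mul (h.le ht) hz])
    ((vw X).sq (h.le ht) t2) (ne_one_of_ord (ord (h.le ht) (ord2 t2 t1)))
  have hM := STD.zd_top (ord hz hb.ord)
    (S := S.mapSurjective (QuotientGroup.mk'_surjective (pPrimeCore 2 X)))
    (M := (L.subgroupOf X).map (QuotientGroup.mk' (pPrimeCore 2 X))) ?_ ?_ ?_ ?_ d1 d2 d3
  · intro x hx
    obtain ⟨l, hl, e⟩ : QuotientGroup.mk' (pPrimeCore 2 X) ⟨x, hx⟩ ∈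
      (L.subgroupOf X).map (QuotientGroup.mk' (pPrimeCore 2 X)) := hM ▸ mem_top _
    exact (mul_mem_cancel_left (inv_mem hl : (l : G)⁻¹ ∈ L)).1
      (hO ⟨_, QuotientGroup.eq.1 e, rfl⟩)
  · rintro _ ⟨s, hs, rfl⟩
    rw [qk_mem hz]
    exact (hS s hs).map _
  · rw [qk_mem hz]
    exact ⟨_, hzS, rfl⟩
  · intro x e
    obtain ⟨g, hg, rfl⟩ := (vw X).surj x
    obtain ⟨o, ho, h1⟩ := h.lift hJ hb hg e
    rw [qk_mem hg]
    exact mem_map_of_mem _ (mem_subgroupOf.2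
      ((mul_mem_cancel_left (hO ho)).1 (hL _ (mul_mem (Oppof_le X ho) hg) h1)))
  · intro x e1 e2
    obtain ⟨g, hg, rfl⟩ := (vw X).surj x
    obtain ⟨o, ho, h1⟩ := h.lift hJ hb hg e1
    have hk := mul_mem (Oppof_le X ho) hg
    have h2 : qk X (o * g) = qk X g := by
      rw [(vw X).mul (Oppof_le X ho) hg, (qk_eq_one (Oppof_le X ho)).2 ho, one_mul]
    generalize o * g = k at h1 hk h2
    rw [← h2, ← (vw X).conj hk hz] at e2 ⊢
    obtain ⟨a, ha, -, a2⟩ := hb.exists_c h1 (H42.conj_mul_self z2 k)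
      (ne_one_of_ord ((H42.orderOf_conj' _ _).trans hb.ord)) fun e => e2 (by rw [e])
    refine ⟨qk X (a * k), ?_⟩
    rw [← (vw X).conj (mul_mem (h.le ha) hk) hz, ← (vw X).mul hz (h.le h1), ← mem_C1.1 (hb.le h1),
      ← a2]
    congr 1
    group

end Pu

theorem pump1 (hR : Rel n G) (hb : Blk n z J) (hJ : PComp 2 (C1 z) J) {w : G} (w2 : orderOf w = 2)
    (wz : w ≠ z) (hw : w ∈ Dc 2 (C1 z) J) (hC : C1 w ≠ ⊤) :
    Cov 2 (pGen 2 (J ⊓ C1 w)) J ∧ Blk n z (pGen 2 (J ⊓ C1 w)) ∧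
      PComp 2 (C1 w ⊓ C1 z) (pGen 2 (J ⊓ C1 w)) ∧
      ∃ X, Pu (C1 w) z (pGen 2 (J ⊓ C1 w)) X ∧ w ∉ X := by
  obtain ⟨h1, h2⟩ := pcomp_cov1 hJ w2 hw
  have hwz : w ∈ C1 z := Dc_le _ _ hw
  have h3 := hb.cov h2 h1.pqs (le_pGen (zpowers_le.2 (mem_inf.2 ⟨hb.mem, mem_C1_comm.1 hwz⟩))
    (STD.isPGroup_zpowers (pow_two (sq_of_ord hb.ord))) (mem_zpowers z))
  rw [inf_comm] at h1
  obtain ⟨X, hX⟩ := hR (C1 w) hC z _ h3 h1
  refine ⟨h2, h3, h1, X, hX, fun hwX => ?_⟩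
  refine (h3.eq_of_inv (hX.mem h1 hwX hwz (pow_two (sq_of_ord w2))) (sq_of_ord w2)
    fun a ha => ?_).elim (ne_one_of_ord w2) wz
  rw [commutatorElement_eq_one_iff_mul_comm.2 (mem_C1.1 (pGen_le _ ha).2).symm, orderOf_one]
  exact odd_one

theorem typeC_of (hR : Rel n G) (hb : Blk n z J) (hJ : PComp 2 (C1 z) J) {w : G}
    (w2 : orderOf w = 2) (wz : w ≠ z) (hw : w ∈ Dc 2 (C1 z) J) (hC : C1 w ≠ ⊤) : TypeC w z := by
  obtain ⟨-, h1, -, X, hX, h2⟩ := pump1 hR hb hJ w2 wz hw hC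
  exact fun I hI hw => le_Dc_of_ne hI hX.pc (fun e => h2 (e ▸ hw)) (hX.le h1.mem)

/-- the diagonal of two components of `C(u)` interchanged by `x` lies in the layer of `C(x)` -/
theorem diag_mem {u x a : G} {I : Subgroup G} (u2 : u * u = 1) (hI : PComp 2 (C1 u) I)
    (hx : x ∈ C1 u) (x2 : orderOf x = 2) (hn : x ∉ normalizer (I : Set G)) (ha : a ∈ I)
    (a2 : a * a = 1) (h4 : (a * x) ^ 4 = 1) : (a * x) ^ 2 ∈ Lof 2 (C1 x) := by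
  obtain ⟨K, h1, -, -, -, -, h2⟩ := exists_diag_rel hI hx x2 hn
  have h3 : ((a * x) ^ 2) ^ 2 ^ 1 = 1 := by rw [← pow_mul]; exact h4
  have h5 : (a * x) ^ 2 ∈ C1 x := mem_C1.2 (by
    have := H42.conj_mul_pow' a2 (sq_of_ord x2) 2
    rw [inv_eq (x := (a * x) ^ 2) (by rw [← pow_add]; exact h4)] at this
    exact (mul_inv_eq_iff_eq_mul.1 this).symm)
  refine H46.pcomp_inf_centralizer_le_Lof (T := zpowers u) (STD.isPGroup_zpowers (pow_two u2))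
    (zpowers_le.2 (le_normalizer (mem_C1_comm.1 hx))) ?_ (mem_of_sup h1 (h2 a ha) h5 h3)
  rwa [centralizer_zpowers_eq, inf_comm]

end Cfsg.Agent.SOL
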